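import Cfsg.Agent.Lib.Tech.BFix3
import Cfsg.Agent.Lib.Coprime.MaxCent

/-!
# The minimal section inside a group
-/

set_option autoImplicit false
set_option linter.unusedSectionVars false
set_option linter.style.multiGoal false
set_option linter.style.haveILetI false

namespace Cfsg.Agent.Lib.Tech.BF

open Subgroup
open scoped commutatorElement

variable {p : ℕ} [Fact p.Prime] {G : Type*} [Group G]

/-- Conjugation on a subgroup by an element normalizing it. -/
def cj (T : Subgroup G) (g : G) (hg : g ∈ normalizer (T : Set G)) : MulAut T where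
  toFun x := ⟨g * x * g⁻¹, (mem_normalizer_iff.1 hg x).1 x.2⟩
  invFun x := ⟨g⁻¹ * x * g, (mem_normalizer_iff.1 hg (g⁻¹ * x * g)).2 (by
    have h1 : g * (g⁻¹ * (x : G) * g) * g⁻¹ = x := by group
    rw [h1]; exact x.2)⟩
  left_inv x := Subtype.ext (by group)
  right_inv x := Subtype.ext (by group)
  map_mul' x y := Subtype.ext (by
    show g * ((x : G) * y) * g⁻¹ = g * x * g⁻¹ * (g * y * g⁻¹)
    group)

theorem cj_coe (T : Subgroup G) (g : G) (hg : g ∈ normalizer (T : Set G)) (x : T) :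
    ((cj T g hg x : T) : G) = g * x * g⁻¹ := rfl

theorem cj_pow_coe (T : Subgroup G) (g : G) (hg : g ∈ normalizer (T : Set G)) (n : ℕ) (x : T) :
    (((cj T g hg ^ n) x : T) : G) = g ^ n * x * (g ^ n)⁻¹ := by
  induction n with
  | zero => simp
  | succ n ih =>
    rw [pow_succ', MulAut.mul_apply, cj_coe, ih, pow_succ']
    group

variable [Finite G]

theorem section_false (hp2 : p ≠ 2) {T Y : Subgroup G} {τ b : G} (hTp : IsPGroup p T)
    (hYcop : (Nat.card Y).Coprime p) (hτp : τ ^ p = 1) (hYT : Y ≤ normalizer (T : Set G))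
    (hτT : τ ∈ normalizer (T : Set G)) (hτY : τ ∈ normalizer (Y : Set G))
    (hfpf : ∀ y ∈ Y, τ * y = y * τ → y = 1)
    (hnc : ¬ ∀ y ∈ Y, ∀ x ∈ T, y * x = x * y)
    (hb1 : b ≠ 1) (hbp : b ^ p = 1) (hbY : ∀ y ∈ Y, y * b = b * y)
    (hfix : ∀ e ∈ T, e ^ p = 1 → τ * e = e * τ → e ∈ zpowers b) : False := by
  classical
  have hpp : p.Prime := Fact.out
  let 𝒰 : Set (Subgroup G) := {U | U ≤ T ∧ Y ≤ normalizer (U : Set G) ∧ τ ∈ normalizer (U : Set G) ∧
    ¬ ∀ y ∈ Y, ∀ x ∈ U, y * x = x * y}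
  obtain ⟨T₁, hT₁⟩ := (Set.toFinite 𝒰).exists_minimal ⟨T, le_rfl, hYT, hτT, hnc⟩
  obtain ⟨⟨hT₁T, hT₁Y, hT₁τ, hT₁nc⟩, hT₁m⟩ := hT₁
  have hXp : IsPGroup p T₁ := hTp.to_le hT₁T
  let ρ : Y →* MulAut T₁ := MonoidHom.mk' (fun y => cj T₁ y (hT₁Y y.2)) (by
    intro a c
    ext x
    show ((a * c : Y) : G) * x * ((a * c : Y) : G)⁻¹ = a * (c * x * (c : G)⁻¹) * (a : G)⁻¹
    rw [Subgroup.coe_mul]
    group)
  have hρ : ∀ (y : Y) (x : T₁), ((ρ y x : T₁) : G) = y * x * (y : G)⁻¹ := fun y x => rfl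
  let t : MulAut T₁ := cj T₁ τ hT₁τ
  have ht : ∀ x : T₁, ((t x : T₁) : G) = τ * x * τ⁻¹ := fun x => rfl
  have htp : t ^ p = 1 := by
    ext x
    rw [cj_pow_coe, hτp]
    simp
  let σ : Equiv.Perm Y := (cj Y τ hτY).toEquiv
  have hσ' : ∀ y : Y, ((σ y : Y) : G) = τ * y * τ⁻¹ := fun y => rfl
  have hσn : ∀ (n : ℕ) (y : Y), (((σ ^ n) y : Y) : G) = τ ^ n * y * (τ ^ n)⁻¹ := by
    intro n y
    induction n with
    | zero => simp
    | succ n ih =>
      rw [pow_succ', Equiv.Perm.mul_apply, hσ', ih, pow_succ']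
      group
  have hσp : σ ^ p = 1 := by
    ext y
    rw [hσn, hτp]
    simp
  have hσ0 : σ 1 = 1 := Subtype.ext (by rw [hσ']; simp)
  have hσ1 : ∀ h, σ h = h → h = 1 := by
    intro h hh
    have h1 := congrArg Subtype.val hh
    rw [hσ'] at h1
    have h2 : τ * (h : G) = h * τ := by
      calc τ * (h : G) = (τ * h * τ⁻¹) * τ := by group
        _ = _ := by rw [h1]
    exact Subtype.ext (hfpf h h.2 h2)
  have hcompat : ∀ h x, t (ρ h x) = ρ (σ h) (t x) := by
    intro h x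
    apply Subtype.ext
    rw [ht, hρ, hρ, hσ', ht]
    group
  have hmin : ∀ U : Subgroup T₁, U ≠ ⊤ → (∀ h, ∀ u ∈ U, ρ h u ∈ U) → (∀ u ∈ U, t u ∈ U) →
      ∀ h, ∀ u ∈ U, ρ h u = u := by
    intro U hU hUρ hUt h u hu
    have hcen : ∀ y ∈ Y, ∀ x ∈ U.map T₁.subtype, y * x = x * y := by
      by_contra hne
      have hmem : U.map T₁.subtype ∈ 𝒰 := by
        refine ⟨(map_subtype_le U).trans hT₁T, ?_, ?_, hne⟩
        · intro y hy
          apply Cfsg.Agent.Lib.Coprime.mem_normalizer_of_conj_le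
          rintro _ ⟨w, hw, rfl⟩
          exact ⟨ρ ⟨y, hy⟩ w, hUρ _ w hw, rfl⟩
        · apply Cfsg.Agent.Lib.Coprime.mem_normalizer_of_conj_le
          rintro _ ⟨w, hw, rfl⟩
          exact ⟨t w, hUt w hw, rfl⟩
      have hle := hT₁m hmem (map_subtype_le U)
      apply hU
      rw [eq_top_iff]
      intro x _
      obtain ⟨w, hw, hwx⟩ := hle x.2
      have : w = x := Subtype.ext hwx
      rwa [← this]
    apply Subtype.ext
    rw [hρ, hcen h h.2 u ⟨u, hu, rfl⟩]
    group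
  have hnc' : ¬ ∀ h x, ρ h x = x := by
    intro h
    apply hT₁nc
    intro y hy x hx
    have h1 := congrArg Subtype.val (h ⟨y, hy⟩ ⟨x, hx⟩)
    rw [hρ] at h1
    calc y * x = (y * x * y⁻¹) * y := by group
      _ = x * y := by
        have h2 : y * x * y⁻¹ = x := h1
        rw [h2]
  haveI hnt : Nontrivial T₁ := by
    by_contra hh
    rw [not_nontrivial_iff_subsingleton] at hh
    apply hnc'
    intro h x
    exact Subsingleton.elim _ _
  obtain ⟨e, he1, het⟩ := exists_fixed hXp t htp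
  -- an element of order `p`
  obtain ⟨e', he'1, he'p, he't⟩ : ∃ e' : T₁, e' ≠ 1 ∧ e' ^ p = 1 ∧ t e' = e' := by
    obtain ⟨k, hk⟩ := IsPGroup.iff_orderOf.1 hXp e
    have hk0 : k ≠ 0 := by
      rintro rfl
      rw [pow_zero, orderOf_eq_one_iff] at hk
      exact he1 hk
    obtain ⟨k', rfl⟩ := Nat.exists_eq_succ_of_ne_zero hk0
    refine ⟨e ^ p ^ k', ?_, ?_, ?_⟩
    · intro h
      have h1 := orderOf_dvd_of_pow_eq_one h
      rw [hk] at h1
      have h2 := Nat.pow_dvd_pow_iff_le_right hpp.one_lt |>.1 h1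
      omega
    · rw [← pow_mul, ← pow_succ, ← hk, pow_orderOf_eq_one]
    · rw [map_pow, het]
  have hbo : orderOf b = p := orderOf_eq_prime hbp hb1
  have he'b : (e' : G) ∈ zpowers b := hfix _ (hT₁T e'.2) (by
      have h1 := congrArg Subtype.val he'p
      simpa using h1) (by
      have h1 := congrArg Subtype.val he't
      rw [ht] at h1
      calc τ * (e' : G) = (τ * e' * τ⁻¹) * τ := by group
        _ = _ := by rw [h1])
  have hbe' : b ∈ zpowers (e' : G) := by
    have he'o : orderOf (e' : G) = p := by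
      refine orderOf_eq_prime ?_ (fun h => he'1 (Subtype.ext h))
      have h1 := congrArg Subtype.val he'p
      simpa using h1
    have h1 : zpowers (e' : G) ≤ zpowers b := by
      rw [zpowers_le]; exact he'b
    have h2 : zpowers (e' : G) = zpowers b := Subgroup.eq_of_le_of_card_ge h1 (by
      rw [Nat.card_zpowers, Nat.card_zpowers, he'o, hbo])
    rw [h2]
    exact mem_zpowers b
  have hbT₁ : b ∈ T₁ := by
    have h1 : zpowers (e' : G) ≤ T₁ := by
      rw [zpowers_le]; exact e'.2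
    exact h1 hbe'
  refine key2 hp2 hXp ρ hYcop t htp σ hσp hσ0 hσ1 hcompat hmin hnc' ⟨b, hbT₁⟩ ?_ ?_ ?_
  · intro h
    exact hb1 (congrArg Subtype.val h)
  · intro h
    apply Subtype.ext
    rw [hρ]
    show (h : G) * b * (h : G)⁻¹ = b
    rw [hbY h h.2]
    group
  · intro a hap hat
    have h1 : (a : G) ∈ zpowers b := hfix _ (hT₁T a.2) (by
      have h1 := congrArg Subtype.val hap
      simpa using h1) (by
      have h1 := congrArg Subtype.val hat
      rw [ht] at h1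
      calc τ * (a : G) = (τ * a * τ⁻¹) * τ := by group
        _ = _ := by rw [h1])
    obtain ⟨k, hk⟩ := mem_zpowers_iff.1 h1
    refine mem_zpowers_iff.2 ⟨k, Subtype.ext ?_⟩
    simpa using hk

end Cfsg.Agent.Lib.Tech.BF
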