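import Cfsg.Agent.Lib.Tech.BFix4
import Cfsg.Agent.Lib.Char.PBlock
import Cfsg.Agent.Lib.Char.RelIto
import Cfsg.Agent.Lib.OddLocal.PGroup
import Cfsg.Agent.Lib.Basic.Glauberman
import Cfsg.Agent.Lib.Basic.GenCent
import Cfsg.Agent.Lib.Coprime.PSolvable
import Cfsg.Agent.Lib.Tech.Constrained

/-!
# `B`-invariant `p'`-subgroups when `B = Ω₁(P)`, `P ∈ Syl_p(C_G(b₀))`
-/

set_option autoImplicit false
set_option linter.unusedSectionVars false
set_option linter.style.multiGoal false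
set_option linter.style.haveILetI false

namespace Cfsg.Agent.Lib.Tech.BF

open Subgroup Cfsg
open scoped commutatorElement

variable {p : ℕ} [Fact p.Prime] {G : Type*} [Group G] [Finite G]

/-- The hypothesis on `B` and `τ`. -/
def HH (p : ℕ) (B : Subgroup G) (τ : G) : Prop :=
  ∀ S : Subgroup G, IsPGroup p S → S ≤ centralizer ({τ} : Set G) → B ≤ S → ∀ e ∈ S, e ^ p = 1 → e ∈ B

theorem HH_mem {B : Subgroup G} {τ : G} (hH : HH p B τ) (hBp : IsPGroup p B) (hBτ : B ≤ centralizer ({τ} : Set G))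
    {S₀ : Subgroup G} (hS₀ : IsPGroup p S₀) (hS₀c : S₀ ≤ centralizer ({τ} : Set G))
    (hBS : B ≤ normalizer (S₀ : Set G)) {e : G} (he : e ∈ S₀) (hep : e ^ p = 1) : e ∈ B :=
  hH (B ⊔ S₀) (hBp.to_sup_of_normal_right' hS₀ hBS) (sup_le hBτ hS₀c) le_sup_left e (mem_sup_right he) hep

/-- `O_p(C_G(b))` in `G`. -/
def Tb (p : ℕ) (b : G) : Subgroup G :=
  (pCore p ↥(centralizer ({b} : Set G))).map (centralizer ({b} : Set G)).subtype

theorem Tb_isP (b : G) : IsPGroup p (Tb p b) :=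
  (Cfsg.Agent.Lib.Basic.pCore_isPGroup p).map _

theorem Tb_le (b : G) : Tb p b ≤ centralizer ({b} : Set G) := map_subtype_le _

theorem Tb_norm (b : G) : centralizer ({b} : Set G) ≤ normalizer (Tb p b : Set G) := by
  intro c hc
  haveI : (pCore p ↥(centralizer ({b} : Set G))).Normal := Cfsg.Agent.Lib.Basic.pCore_normal p
  apply Cfsg.Agent.Lib.Coprime.mem_normalizer_of_conj_le
  rintro _ ⟨u, hu, rfl⟩
  exact ⟨⟨c, hc⟩ * u * ⟨c, hc⟩⁻¹, Normal.conj_mem inferInstance u hu _, rfl⟩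

theorem mem_cent_of_comm {b c : G} (h : c * b = b * c) : c ∈ centralizer ({b} : Set G) := by
  rw [mem_centralizer_iff]
  intro g hg
  obtain rfl : g = b := hg
  exact h.symm

theorem self_mem_Tb {b : G} (hb : ∃ k : ℕ, b ^ p ^ k = 1) : b ∈ Tb p b := by
  have hbC : b ∈ centralizer ({b} : Set G) := mem_cent_of_comm rfl
  refine ⟨⟨b, hbC⟩, ?_, rfl⟩
  have hN : (zpowers (⟨b, hbC⟩ : ↥(centralizer ({b} : Set G)))).Normal := by
    constructor
    intro n hn g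
    have hcen : (⟨b, hbC⟩ : ↥(centralizer ({b} : Set G))) ∈ center ↥(centralizer ({b} : Set G)) := by
      rw [mem_center_iff]
      intro g
      apply Subtype.ext
      exact (mem_centralizer_iff.1 g.2 b rfl).symm
    have h1 : zpowers (⟨b, hbC⟩ : ↥(centralizer ({b} : Set G))) ≤ center _ := by
      rw [zpowers_le]; exact hcen
    have h2 := mem_center_iff.1 (h1 hn) g
    rw [h2, mul_inv_cancel_right]
    exact hn
  have hP : IsPGroup p (zpowers (⟨b, hbC⟩ : ↥(centralizer ({b} : Set G)))) := by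
    obtain ⟨k, hk⟩ := hb
    have h2 : (⟨b, hbC⟩ : ↥(centralizer ({b} : Set G))) ^ p ^ k = 1 := Subtype.ext hk
    intro g
    obtain ⟨g, hg⟩ := g
    obtain ⟨m, rfl⟩ := mem_zpowers_iff.1 hg
    refine ⟨k, Subtype.ext ?_⟩
    rw [← zpow_natCast]
    simp only [SubgroupClass.coe_zpow, OneMemClass.coe_one]
    rw [← zpow_mul, mul_comm, zpow_mul, zpow_natCast, h2, one_zpow]
  exact Cfsg.Agent.Lib.Basic.le_pCore hN hP (mem_zpowers _)

/-- A `p`-element of a `p`-soluble group with `O_{p'}(G) = 1`: `O_{p'}(C_G(b)) = 1`. -/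
theorem core_bot (hG : IsPSolvable p G) (hO : pPrimeCore p G = ⊥) {b : G} (hb : ∃ k : ℕ, b ^ p ^ k = 1) :
    pPrimeCore p ↥(centralizer ({b} : Set G)) = ⊥ := by
  set C := centralizer ({b} : Set G) with hC
  set Y₀ := pPrimeCore p ↥C with hY₀
  haveI hY₀n : Y₀.Normal := Cfsg.Agent.Lib.Basic.pPrimeCore_normal p
  set Y := Y₀.map C.subtype with hY
  have hYcard : Nat.card Y = Nat.card Y₀ :=
    Nat.card_congr (Subgroup.equivMapOfInjective _ _ C.subtype_injective).toEquiv.symm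
  have hYc : (Nat.card Y).Coprime p := by
    rw [hYcard]; exact Cfsg.Agent.Lib.Basic.pPrimeCore_coprime p
  set R := pCore p G with hR
  haveI hRn : R.Normal := Cfsg.Agent.Lib.Basic.pCore_normal p
  have hRp : IsPGroup p R := Cfsg.Agent.Lib.Basic.pCore_isPGroup p
  have hdisj : ∀ u ∈ Y, u ∈ R → u = 1 := by
    intro u hu hu'
    obtain ⟨n, hn⟩ := IsPGroup.iff_card.1 hRp
    have h1 : Y ⊓ R = ⊥ := Subgroup.inf_eq_bot_of_coprime (by rw [hn]; exact Nat.Coprime.pow_right n hYc)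
    have h2 : u ∈ Y ⊓ R := ⟨hu, hu'⟩
    rw [h1] at h2
    exact h2
  have hbp : IsPGroup p (zpowers b) := by
    obtain ⟨k, hk⟩ := hb
    intro g
    obtain ⟨g, hg⟩ := g
    obtain ⟨m, rfl⟩ := mem_zpowers_iff.1 hg
    refine ⟨k, Subtype.ext ?_⟩
    rw [← zpow_natCast]
    simp only [SubgroupClass.coe_zpow, OneMemClass.coe_one]
    rw [← zpow_mul, mul_comm, zpow_mul, zpow_natCast, hk, one_zpow]
  have hYC : Y ≤ C := map_subtype_le _
  have hnormR : ∀ a : G, a ∈ normalizer (R : Set G) := by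
    intro a
    rw [mem_normalizer_iff]
    intro x
    constructor
    · intro hx
      exact hRn.conj_mem x hx a
    · intro hx
      have h2 := hRn.conj_mem _ hx a⁻¹
      convert h2 using 1
      group
  have h1 : Y ≤ centralizer (R : Set G) := by
    refine Cfsg.Agent.Lib.OddLocal.thompson_AxB p R Y (zpowers b) hRp hbp hYc (fun a _ => hnormR a)
      (fun a _ => hnormR a) ?_ ?_
    · intro a ha c hc
      obtain ⟨m, rfl⟩ := mem_zpowers_iff.1 hc
      have h2 : b ^ m ∈ centralizer ({a} : Set G) := by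
        have h3 : b ∈ centralizer ({a} : Set G) := by
          rw [mem_centralizer_iff]
          intro g hg
          obtain rfl : g = a := hg
          exact mem_centralizer_iff.1 (hYC ha) b rfl |>.symm
        exact zpow_mem h3 m
      exact mem_centralizer_iff.1 h2 a rfl
    · intro a ha x hx hxb
      have hxC : x ∈ C := mem_cent_of_comm (hxb b (mem_zpowers b)).symm
      have haC : a ∈ C := hYC ha
      have h2 : a * x * a⁻¹ * x⁻¹ ∈ Y := by
        have h3 : x * a⁻¹ * x⁻¹ ∈ Y := by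
          obtain ⟨u, hu, rfl⟩ := ha
          refine ⟨⟨x, hxC⟩ * u⁻¹ * ⟨x, hxC⟩⁻¹, hY₀n.conj_mem _ (Y₀.inv_mem hu) _, ?_⟩
          rfl
        have h4 : a * x * a⁻¹ * x⁻¹ = a * (x * a⁻¹ * x⁻¹) := by group
        rw [h4]
        exact Y.mul_mem ha h3
      have h3 : a * x * a⁻¹ * x⁻¹ ∈ R :=
        R.mul_mem (hRn.conj_mem x hx a) (R.inv_mem hx)
      have h4 := hdisj _ h2 h3
      have h5 : a * x * a⁻¹ = x := by
        calc a * x * a⁻¹ = (a * x * a⁻¹ * x⁻¹) * x := by group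
          _ = x := by rw [h4, one_mul]
      calc a * x = (a * x * a⁻¹) * a := by group
        _ = x * a := by rw [h5]
  have h2 : Y ≤ R := h1.trans (Cfsg.Agent.Lib.Char.centralizer_pCore_le_of_isPSolvable hG hO)
  rw [eq_bot_iff]
  intro u hu
  have h3 := hdisj (u : G) ⟨u, hu, rfl⟩ (h2 ⟨u, hu, rfl⟩)
  exact (mem_bot).2 (Subtype.ext h3)

/-- `C_C(O_p(C)) ≤ O_p(C)` for `C = C_G(b)`. -/
theorem Tb_cent (hG : IsPSolvable p G) (hO : pPrimeCore p G = ⊥) {b : G} (hb : ∃ k : ℕ, b ^ p ^ k = 1)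
    {x : G} (hx : x ∈ centralizer ({b} : Set G)) (hxT : ∀ u ∈ Tb p b, x * u = u * x) : x ∈ Tb p b := by
  have h1 : IsPSolvable p ↥(centralizer ({b} : Set G)) := Cfsg.Agent.Lib.Char.isPSolvable_subgroup hG _
  have h2 := Cfsg.Agent.Lib.Char.centralizer_pCore_le_of_isPSolvable h1 (core_bot hG hO hb)
  refine ⟨⟨x, hx⟩, h2 ?_, rfl⟩
  rw [mem_centralizer_iff]
  intro g hg
  apply Subtype.ext
  exact (hxT g ⟨g, hg, rfl⟩).symm

/-- A `p'`-subgroup meets a `p`-subgroup trivially. -/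
theorem inter_one {Q T : Subgroup G} (hQ : (Nat.card Q).Coprime p) (hT : IsPGroup p T) {u : G} (hu : u ∈ Q)
    (hu' : u ∈ T) : u = 1 := by
  obtain ⟨n, hn⟩ := IsPGroup.iff_card.1 hT
  have h1 : Q ⊓ T = ⊥ := Subgroup.inf_eq_bot_of_coprime (by rw [hn]; exact Nat.Coprime.pow_right n hQ)
  have h2 : u ∈ Q ⊓ T := ⟨hu, hu'⟩
  rw [h1] at h2
  exact h2

/-- `C_Q(τ) = 1`. -/
theorem fix_tau (hp2 : p ≠ 2) (hG : IsPSolvable p G) (hO : pPrimeCore p G = ⊥) {B Q : Subgroup G} {τ : G}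
    (hτB : τ ∈ B) (hBp : ∀ x ∈ B, x ^ p = 1) (hBc : ∀ x ∈ B, ∀ y ∈ B, x * y = y * x) (hH : HH p B τ)
    (hQc : (Nat.card Q).Coprime p) (hinv : ∀ b ∈ B, ∀ x ∈ Q, b * x * b⁻¹ ∈ Q) {y : G} (hy : y ∈ Q)
    (hyτ : τ * y = y * τ) : y = 1 := by
  have hBP : IsPGroup p B := fun x => ⟨1, by rw [pow_one]; exact Subtype.ext (hBp x x.2)⟩
  have hτ : ∃ k : ℕ, τ ^ p ^ k = 1 := ⟨1, by rw [pow_one]; exact hBp τ hτB⟩
  have hBτ : B ≤ centralizer ({τ} : Set G) := fun x hx => mem_cent_of_comm (hBc x hx τ hτB)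
  have hyC : y ∈ centralizer ({τ} : Set G) := mem_cent_of_comm hyτ.symm
  have hTp : IsPGroup p (Tb p τ) := Tb_isP τ
  have hBT : B ≤ normalizer (Tb p τ : Set G) := hBτ.trans (Tb_norm τ)
  have hTB : ∀ e ∈ Tb p τ, e ^ p = 1 → e ∈ B := fun e he hep =>
    HH_mem hH hBP hBτ hTp (Tb_le τ) hBT he hep
  have hyT := Tb_norm (p := p) τ hyC
  -- `y` is trivial on `Ω₁(T)`
  have hcomm : ∀ x ∈ Tb p τ, x ^ p = 1 → y * x * y⁻¹ = x := by
    intro x hx hxp
    have hxB := hTB x hx hxp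
    have h1 : y * x * y⁻¹ ∈ B := hTB _ ((mem_normalizer_iff.1 hyT x).1 hx) (by
      rw [conj_pow, hxp]; group)
    have h2 : y * x * y⁻¹ * x⁻¹ ∈ B := B.mul_mem h1 (B.inv_mem hxB)
    have h3 : y * x * y⁻¹ * x⁻¹ ∈ Q := by
      have h4 : y * x * y⁻¹ * x⁻¹ = y * (x * y⁻¹ * x⁻¹) := by group
      rw [h4]
      exact Q.mul_mem hy (hinv x hxB _ (Q.inv_mem hy))
    have h4 := inter_one hQc hBP h3 h2
    calc y * x * y⁻¹ = (y * x * y⁻¹ * x⁻¹) * x := by group
      _ = x := by rw [h4, one_mul]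
  have hord : (orderOf (cj (Tb p τ) y hyT)).Coprime p := by
    have h1 : orderOf (cj (Tb p τ) y hyT) ∣ orderOf y := by
      apply orderOf_dvd_of_pow_eq_one
      ext x
      rw [cj_pow_coe, pow_orderOf_eq_one]
      simp
    have h2 : orderOf y ∣ Nat.card Q := by
      have := orderOf_dvd_natCard (⟨y, hy⟩ : Q)
      rwa [Subgroup.orderOf_mk] at this
    exact Nat.Coprime.coprime_dvd_left (h1.trans h2) hQc
  have hall : ∀ x : Tb p τ, cj (Tb p τ) y hyT x = x :=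
    crit_triv hp2 hTp (cj (Tb p τ) y hyT) hord (fun x hx => by
      apply Subtype.ext
      rw [cj_coe]
      exact hcomm x x.2 (by simpa using congrArg Subtype.val hx))
  have hyTb : y ∈ Tb p τ := by
    refine Tb_cent hG hO hτ hyC ?_
    intro u hu
    have h1 := congrArg Subtype.val (hall ⟨u, hu⟩)
    rw [cj_coe] at h1
    calc y * u = (y * u * y⁻¹) * y := by group
      _ = u * y := by
        have h2 : y * u * y⁻¹ = u := h1
        rw [h2]
  exact inter_one hQc hTp hy hyTb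

/-- `C_Q(b) = 1` for all `b ∈ B#`. -/
theorem fix_b (hp2 : p ≠ 2) (hG : IsPSolvable p G) (hO : pPrimeCore p G = ⊥) {B Q : Subgroup G} {τ b : G}
    (hτB : τ ∈ B) (hBp : ∀ x ∈ B, x ^ p = 1) (hBc : ∀ x ∈ B, ∀ y ∈ B, x * y = y * x) (hBcard : Nat.card B = p ^ 2)
    (hH : HH p B τ) (hQc : (Nat.card Q).Coprime p) (hinv : ∀ b ∈ B, ∀ x ∈ Q, b * x * b⁻¹ ∈ Q)
    (hbB : b ∈ B) (hb1 : b ≠ 1) {y₀ : G} (hy₀ : y₀ ∈ Q) (hy₀b : b * y₀ = y₀ * b) : y₀ = 1 := by
  classical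
  by_contra hy₀1
  have hpp : p.Prime := Fact.out
  have hBP : IsPGroup p B := fun x => ⟨1, by rw [pow_one]; exact Subtype.ext (hBp x x.2)⟩
  have hb : ∃ k : ℕ, b ^ p ^ k = 1 := ⟨1, by rw [pow_one]; exact hBp b hbB⟩
  have hBτ : B ≤ centralizer ({τ} : Set G) := fun x hx => mem_cent_of_comm (hBc x hx τ hτB)
  have hBb : B ≤ centralizer ({b} : Set G) := fun x hx => mem_cent_of_comm (hBc x hx b hbB)
  have hTp : IsPGroup p (Tb p b) := Tb_isP b
  set Y := Q ⊓ centralizer ({b} : Set G) with hY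
  have hYQ : Y ≤ Q := inf_le_left
  have hYC : Y ≤ centralizer ({b} : Set G) := inf_le_right
  have hy₀Y : y₀ ∈ Y := ⟨hy₀, mem_cent_of_comm hy₀b.symm⟩
  have hYc : (Nat.card Y).Coprime p := Nat.Coprime.coprime_dvd_left (Subgroup.card_dvd_of_le hYQ) hQc
  have hfpf : ∀ y ∈ Y, τ * y = y * τ → y = 1 := fun y hy h =>
    fix_tau hp2 hG hO hτB hBp hBc hH hQc hinv (hYQ hy) h
  have hτC : τ ∈ centralizer ({b} : Set G) := hBb hτB
  have hτT : τ ∉ Tb p b := by
    intro hτT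
    apply hy₀1
    apply hfpf y₀ hy₀Y
    have h1 : y₀ * τ * y₀⁻¹ * τ⁻¹ ∈ Tb p b :=
      (Tb p b).mul_mem ((mem_normalizer_iff.1 (Tb_norm b (hYC hy₀Y)) τ).1 hτT) ((Tb p b).inv_mem hτT)
    have h2 : y₀ * τ * y₀⁻¹ * τ⁻¹ ∈ Q := by
      have h3 : y₀ * τ * y₀⁻¹ * τ⁻¹ = y₀ * (τ * y₀⁻¹ * τ⁻¹) := by group
      rw [h3]
      exact Q.mul_mem hy₀ (hinv τ hτB _ (Q.inv_mem hy₀))
    have h3 := inter_one hQc hTp h2 h1
    have h4 : y₀ * τ * y₀⁻¹ = τ := by
      calc y₀ * τ * y₀⁻¹ = (y₀ * τ * y₀⁻¹ * τ⁻¹) * τ := by group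
        _ = τ := by rw [h3, one_mul]
    calc τ * y₀ = (y₀ * τ * y₀⁻¹) * y₀ := by rw [h4]
      _ = y₀ * τ := by group
  have hbT : b ∈ Tb p b := self_mem_Tb hb
  have hbo : orderOf b = p := orderOf_eq_prime (hBp b hbB) hb1
  -- `B ∩ T = ⟨b⟩`
  have hBT : ∀ e ∈ B, e ∈ Tb p b → e ∈ zpowers b := by
    intro e heB heT
    have h1 : zpowers b ≤ B ⊓ Tb p b := by
      rw [zpowers_le]
      exact ⟨hbB, hbT⟩
    have h2 : Nat.card ↥(B ⊓ Tb p b) ∣ p ^ 2 := by
      rw [← hBcard]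
      exact Subgroup.card_dvd_of_le inf_le_left
    obtain ⟨k, hk, hk2⟩ := (Nat.dvd_prime_pow hpp).1 h2
    have h3 : k ≠ 2 := by
      rintro rfl
      have h4 : B ⊓ Tb p b = B := Subgroup.eq_of_le_of_card_ge inf_le_left (by rw [hk2, hBcard])
      exact hτT (inf_eq_left.1 h4 hτB)
    have h4 : zpowers b = B ⊓ Tb p b := Subgroup.eq_of_le_of_card_ge h1 (by
      rw [hk2, Nat.card_zpowers, hbo]
      have : k ≤ 1 := by omega
      calc p ^ k ≤ p ^ 1 := Nat.pow_le_pow_right hpp.pos this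
        _ = p := pow_one p)
    rw [h4]
    exact ⟨heB, heT⟩
  have hBPB : B ≤ normalizer (Tb p b : Set G) := hBb.trans (Tb_norm b)
  have hfix : ∀ e ∈ Tb p b, e ^ p = 1 → τ * e = e * τ → e ∈ zpowers b := by
    intro e he hep heτ
    have hS₀c : Tb p b ⊓ centralizer ({τ} : Set G) ≤ centralizer ({τ} : Set G) := inf_le_right
    have hS₀p : IsPGroup p ↥(Tb p b ⊓ centralizer ({τ} : Set G)) := hTp.to_le inf_le_left
    have hnorm : B ≤ normalizer ((Tb p b ⊓ centralizer ({τ} : Set G) : Subgroup G) : Set G) := by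
      intro c hc
      apply Cfsg.Agent.Lib.Coprime.mem_normalizer_of_conj_le
      intro u hu
      refine ⟨(mem_normalizer_iff.1 (hBPB hc) u).1 hu.1, ?_⟩
      exact (centralizer _).mul_mem ((centralizer _).mul_mem (hBτ hc) hu.2) ((centralizer _).inv_mem (hBτ hc))
    have heB : e ∈ B := HH_mem hH hBP hBτ hS₀p hS₀c hnorm ⟨he, mem_cent_of_comm heτ.symm⟩ hep
    exact hBT e heB he
  have hτp : τ ^ p = 1 := hBp τ hτB
  have hτY : τ ∈ normalizer (Y : Set G) := by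
    apply Cfsg.Agent.Lib.Coprime.mem_normalizer_of_conj_le
    intro u hu
    refine ⟨hinv τ hτB u hu.1, ?_⟩
    exact (centralizer _).mul_mem ((centralizer _).mul_mem hτC hu.2) ((centralizer _).inv_mem hτC)
  refine section_false hp2 hTp hYc hτp (hYC.trans (Tb_norm b)) (Tb_norm b hτC) hτY hfpf ?_ hb1 (hBp b hbB) ?_ hfix
  · intro hall
    have h1 : y₀ ∈ Tb p b := Tb_cent hG hO hb (hYC hy₀Y) (fun u hu => hall y₀ hy₀Y u hu)
    exact hy₀1 (inter_one hQc hTp hy₀ h1)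
  · intro y hy
    exact (mem_centralizer_iff.1 (hYC hy) b rfl).symm

end Cfsg.Agent.Lib.Tech.BF
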