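import Cfsg.Agent.Lib.Tech.BFix5
import Cfsg.Agent.Lib.Basic.Solv1

/-!
# `B`-invariant `p'`-subgroups: the final form
-/

set_option autoImplicit false
set_option linter.unusedSectionVars false
set_option linter.style.multiGoal false
set_option linter.style.haveILetI false

namespace Cfsg.Agent.Lib.Tech.BF

open Subgroup Cfsg
open scoped commutatorElement Pointwise

variable {p : ℕ} [Fact p.Prime] {G : Type*} [Group G] [Finite G]

theorem main_core (hp2 : p ≠ 2) (hG : IsPSolvable p G) (hO : pPrimeCore p G = ⊥) {B Q : Subgroup G} {τ : G}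
    (hτB : τ ∈ B) (hBp : ∀ x ∈ B, x ^ p = 1) (hBc : ∀ x ∈ B, ∀ y ∈ B, x * y = y * x) (hBcard : Nat.card B = p ^ 2)
    (hH : HH p B τ) (hQc : (Nat.card Q).Coprime p) (hinv : ∀ b ∈ B, ∀ x ∈ Q, b * x * b⁻¹ ∈ Q) : Q = ⊥ := by
  classical
  have hpp : p.Prime := Fact.out
  by_contra hne
  have hcard1 : Nat.card Q ≠ 1 := fun h => hne (Subgroup.card_eq_one.1 h)
  obtain ⟨r, hr, hrd⟩ := Nat.exists_prime_and_dvd hcard1
  haveI : Fact r.Prime := ⟨hr⟩
  have hBQ : B ≤ normalizer (Q : Set G) := fun b hb => by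
    apply Cfsg.Agent.Lib.Coprime.mem_normalizer_of_conj_le
    exact hinv b hb
  have hBcop : (Nat.card B).Coprime (Nat.card Q) := by
    rw [hBcard]
    exact Nat.Coprime.pow_left 2 hQc.symm
  haveI hBcomm : IsMulCommutative B :=
    IsMulCommutative.of_comm (fun a c => Subtype.ext (hBc a a.2 c c.2))
  have hBsolv : Group.IsSolvable B := by
    apply isSolvable_of_comm
    intro a c
    exact Subtype.ext (hBc a a.2 c c.2)
  obtain ⟨P, hP⟩ := Cfsg.Agent.Lib.Basic.exists_invariant_sylow hBQ hBcop (Or.inl hBsolv) r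
  set P₀ := (P : Subgroup Q).map Q.subtype with hP₀
  have hP₀p : IsPGroup r P₀ := P.isPGroup'.map _
  have hncyc : ¬ IsCyclic B := by
    intro hcyc
    obtain ⟨g, hg⟩ := IsCyclic.exists_generator (α := B)
    have h1 : orderOf g = Nat.card B := orderOf_eq_card_of_forall_mem_zpowers hg
    have h2 : g ^ p = 1 := Subtype.ext (hBp g g.2)
    have h3 := orderOf_dvd_of_pow_eq_one h2
    rw [h1, hBcard] at h3
    have h4 := Nat.le_of_dvd hpp.pos h3
    have h5 := hpp.two_le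
    nlinarith
  have hP₀Q : P₀ ≤ Q := map_subtype_le _
  have hcopP : (Nat.card B).Coprime (Nat.card P₀) :=
    Nat.Coprime.coprime_dvd_right (Subgroup.card_dvd_of_le hP₀Q) hBcop
  have h1 := Cfsg.Agent.Lib.Basic.pgroup_generated_by_centralizers hncyc hP hcopP hP₀p
  have h2 : P₀ = ⊥ := by
    rw [eq_bot_iff]
    refine h1.trans ?_
    refine iSup₂_le ?_
    rintro a ⟨haB, ha1⟩ y ⟨hyP, hyC⟩
    have hy1 : y = 1 := fix_b hp2 hG hO hτB hBp hBc hBcard hH hQc hinv haB ha1 (hP₀Q hyP)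
      (by exact (mem_centralizer_iff.1 hyC a rfl))
    exact (mem_bot).2 hy1
  have h3 := P.ne_bot_of_dvd_card hrd
  apply h3
  rw [eq_bot_iff]
  intro u hu
  have h4 : (u : G) ∈ P₀ := ⟨u, hu, rfl⟩
  rw [h2] at h4
  exact (mem_bot).2 (Subtype.ext h4)

/-- `HH` passes to the quotient by `O_{p'}(G)`. -/
theorem HH_quot {B : Subgroup G} {τ : G} (hτB : τ ∈ B) (hτ1 : τ ≠ 1) (hBp : ∀ x ∈ B, x ^ p = 1)
    (hBc : ∀ x ∈ B, ∀ y ∈ B, x * y = y * x) (hH : HH p B τ) :
    HH p (B.map (QuotientGroup.mk' (pPrimeCore p G))) (QuotientGroup.mk' (pPrimeCore p G) τ) := by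
  classical
  set N := pPrimeCore p G with hN
  haveI hNn : N.Normal := Cfsg.Agent.Lib.Basic.pPrimeCore_normal p
  have hNc : (Nat.card N).Coprime p := Cfsg.Agent.Lib.Basic.pPrimeCore_coprime p
  let π : G →* G ⧸ N := QuotientGroup.mk' N
  have hπ : Function.Surjective π := QuotientGroup.mk'_surjective N
  have hπ1 : ∀ g, π g = 1 ↔ g ∈ N := fun g => QuotientGroup.eq_one_iff g
  intro S hSp hSc hBS e he hep
  have hBP : IsPGroup p B := fun x => ⟨1, by rw [pow_one]; exact Subtype.ext (hBp x x.2)⟩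
  have hτo : orderOf τ = p := orderOf_eq_prime (hBp τ hτB) hτ1
  let M : Subgroup G := S.comap π ⊓ centralizer ({τ} : Set G)
  -- lifting
  have hlift : ∀ s ∈ S, ∃ m ∈ M, π m = s := by
    intro s hs
    obtain ⟨g, rfl⟩ := hπ s
    have hg : π g * π τ = π τ * π g := (mem_centralizer_iff.1 (hSc hs) (π τ) rfl).symm
    have hu : τ⁻¹ * (g * τ * g⁻¹) ∈ N := by
      rw [← hπ1, map_mul, map_mul, map_mul, map_inv, map_inv, hg]
      group
    obtain ⟨c, hc, hct⟩ := Cfsg.Agent.Lib.Tech.exists_conj_of_same_image (p := p) N hNc (y := τ) (y' := g * τ * g⁻¹)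
      ⟨1, by rw [pow_one]; exact hτo⟩ ⟨1, by
        rw [pow_one]
        have h1 : g * τ * g⁻¹ = MulAut.conj g τ := rfl
        rw [h1, MulEquiv.orderOf_eq]; exact hτo⟩ hu
    refine ⟨c * g, ⟨?_, ?_⟩, ?_⟩
    · show π (c * g) ∈ S
      rw [map_mul, (hπ1 c).2 hc, one_mul]
      exact hs
    · apply mem_cent_of_comm
      calc c * g * τ = (c * (g * τ * g⁻¹) * c⁻¹) * (c * g) := by group
        _ = τ * (c * g) := by rw [hct]
    · rw [map_mul, (hπ1 c).2 hc, one_mul]
  have hBM : B ≤ M := by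
    intro b hb
    refine ⟨hBS ⟨b, hb, rfl⟩, mem_cent_of_comm (hBc b hb τ hτB)⟩
  -- a Sylow subgroup of `M` containing `B`
  have hBM' : IsPGroup p (B.subgroupOf M) := hBP.of_equiv (Subgroup.subgroupOfEquivOfLe hBM).symm
  obtain ⟨R, hR⟩ := hBM'.exists_le_sylow
  let f : M →* S := (π.comp M.subtype).codRestrict S (fun m => m.2.1)
  have hf : Function.Surjective f := by
    intro s
    obtain ⟨m, hm, hms⟩ := hlift s s.2
    exact ⟨⟨m, hm⟩, Subtype.ext hms⟩
  have hRS : ((R.mapSurjective hf : Sylow p S) : Subgroup S) = ⊤ := by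
    have h1 : ((⊤ : Subgroup S)) ≤ ((R.mapSurjective hf : Sylow p S) : Subgroup S) →
        ((R.mapSurjective hf : Sylow p S) : Subgroup S) = ⊤ := top_le_iff.1
    apply h1
    have hS' : IsPGroup p (⊤ : Subgroup S) := by
      intro g
      obtain ⟨k, hk⟩ := hSp g.1
      exact ⟨k, Subtype.ext hk⟩
    exact ((R.mapSurjective hf).is_maximal' hS' le_top).le
  have he' : (⟨e, he⟩ : S) ∈ ((R.mapSurjective hf : Sylow p S) : Subgroup S) := by
    rw [hRS]; trivial
  obtain ⟨s, hs, hse⟩ := he'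
  have hse' : π s = e := congrArg Subtype.val hse
  let R' : Subgroup G := (R : Subgroup M).map M.subtype
  have hR'p : IsPGroup p R' := R.isPGroup'.map _
  have hsR : (s : G) ∈ R' := ⟨s, hs, rfl⟩
  have hspow : (s : G) ^ p = 1 := by
    have h1 : (s : G) ^ p ∈ N := by
      rw [← hπ1, map_pow, hse', hep]
    exact inter_one hNc hR'p h1 (R'.pow_mem hsR p)
  have hR'c : R' ≤ centralizer ({τ} : Set G) := by
    rintro _ ⟨m, _, rfl⟩
    exact m.2.2
  have hBR : B ≤ R' := by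
    intro b hb
    exact ⟨⟨b, hBM hb⟩, hR (by exact hb), rfl⟩
  have hsB := hH R' hR'p hR'c hBR s hsR hspow
  exact ⟨s, hsB, hse'⟩

/-- The hypothesis from the Sylow subgroup. -/
theorem HH_of_sylow {B : Subgroup G} {τ : G} (P : Sylow p ↥(centralizer ({τ} : Set G)))
    (hBP : B = closure {x : G | x ∈ ((P : Subgroup ↥(centralizer ({τ} : Set G))).map
      (centralizer ({τ} : Set G)).subtype : Subgroup G) ∧ orderOf x = p}) (hBp : ∀ x ∈ B, x ^ p = 1) : HH p B τ := by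
  classical
  intro S hSp hSc hBS e he hep
  have hS' : IsPGroup p (S.subgroupOf (centralizer ({τ} : Set G))) :=
    hSp.of_equiv (Subgroup.subgroupOfEquivOfLe hSc).symm
  obtain ⟨R, hR⟩ := hS'.exists_le_sylow
  obtain ⟨g, hg⟩ := MulAction.exists_smul_eq (centralizer ({τ} : Set G)) R P
  have hconj : ∀ u ∈ S, ((g : G) * u * (g : G)⁻¹) ∈
      ((P : Subgroup ↥(centralizer ({τ} : Set G))).map (centralizer ({τ} : Set G)).subtype) := by
    intro u hu
    have h1 : (⟨u, hSc hu⟩ : ↥(centralizer ({τ} : Set G))) ∈ (R : Subgroup ↥(centralizer ({τ} : Set G))) := hR hu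
    have h3 := Subgroup.smul_mem_pointwise_smul _ (MulAut.conj g) (R : Subgroup ↥(centralizer ({τ} : Set G))) h1
    rw [← Sylow.coe_subgroup_smul, hg] at h3
    exact ⟨_, h3, rfl⟩
  have hmem : ∀ u ∈ S, u ^ p = 1 → (g : G) * u * (g : G)⁻¹ ∈ B := by
    intro u hu hup
    by_cases h1 : u = 1
    · subst h1
      simp [B.one_mem]
    · rw [hBP]
      refine subset_closure ⟨hconj u hu, ?_⟩
      have h2 : (g : G) * u * (g : G)⁻¹ = MulAut.conj (g : G) u := rfl
      rw [h2, MulEquiv.orderOf_eq]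
      exact orderOf_eq_prime hup h1
  have hN : (g : G) ∈ normalizer (B : Set G) := by
    apply Cfsg.Agent.Lib.Coprime.mem_normalizer_of_conj_le
    intro u hu
    exact hmem u (hBS hu) (hBp u hu)
  exact (mem_normalizer_iff.1 hN e).2 (hmem e he hep)

theorem bfix_main (hp2 : p ≠ 2) (hG : IsPSolvable p G) {B : Subgroup G} (hB : IsElementaryAbelian p B)
    (hBcard : Nat.card B = p ^ 2) {b₀ : G} (hb₀ : b₀ ∈ B) (hb₁ : b₀ ≠ 1) (P : Sylow p ↥(centralizer ({b₀} : Set G)))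
    (hBP : B = closure {x : G | x ∈ ((P : Subgroup ↥(centralizer ({b₀} : Set G))).map
      (centralizer ({b₀} : Set G)).subtype : Subgroup G) ∧ orderOf x = p})
    {Q : Subgroup G} (hQ : ¬ p ∣ Nat.card Q) (hinv : ∀ b ∈ B, ∀ x ∈ Q, b * x * b⁻¹ ∈ Q) :
    Q ≤ pPrimeCore p G := by
  classical
  have hpp : p.Prime := Fact.out
  have hBp : ∀ x ∈ B, x ^ p = 1 := hB.2
  have hBc : ∀ x ∈ B, ∀ y ∈ B, x * y = y * x := by
    intro x hx y hy
    haveI := hB.1
    exact congrArg Subtype.val (mul_comm' (⟨x, hx⟩ : B) ⟨y, hy⟩)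
  have hQc : (Nat.card Q).Coprime p := ((Nat.Prime.coprime_iff_not_dvd hpp).2 hQ).symm
  have hH : HH p B b₀ := HH_of_sylow P hBP hBp
  set N := pPrimeCore p G with hN
  haveI hNn : N.Normal := Cfsg.Agent.Lib.Basic.pPrimeCore_normal p
  have hNc : (Nat.card N).Coprime p := Cfsg.Agent.Lib.Basic.pPrimeCore_coprime p
  let π : G →* G ⧸ N := QuotientGroup.mk' N
  have hπ : Function.Surjective π := QuotientGroup.mk'_surjective N
  have hπ1 : ∀ g, π g = 1 ↔ g ∈ N := fun g => QuotientGroup.eq_one_iff g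
  have hBPg : IsPGroup p B := fun x => ⟨1, by rw [pow_one]; exact Subtype.ext (hBp x x.2)⟩
  have hBcard' : Nat.card (B.map π) = p ^ 2 := by
    rw [← hBcard]
    refine Nat.card_congr (MulEquiv.ofBijective (π.subgroupMap B) ⟨?_, π.subgroupMap_surjective B⟩).toEquiv.symm
    rw [injective_iff_map_eq_one]
    intro a ha
    have h1 : π a = 1 := congrArg Subtype.val ha
    exact Subtype.ext (inter_one hNc hBPg ((hπ1 _).1 h1) a.2)
  have hQc' : (Nat.card (Q.map π)).Coprime p :=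
    Nat.Coprime.coprime_dvd_left (Subgroup.card_dvd_of_surjective (π.subgroupMap Q) (π.subgroupMap_surjective Q)) hQc
  have h1 : Q.map π = ⊥ := by
    refine main_core (τ := π b₀) (B := B.map π) hp2 (Cfsg.Agent.Lib.Coprime.isPSolvable_map π hπ hG)
      (Cfsg.Agent.Lib.Basic.pPrimeCore_quotient_eq_bot p) ⟨b₀, hb₀, rfl⟩ ?_ ?_ hBcard' (HH_quot hb₀ hb₁ hBp hBc hH) hQc' ?_
    · rintro _ ⟨x, hx, rfl⟩
      rw [← map_pow, hBp x hx, map_one]
    · rintro _ ⟨x, hx, rfl⟩ _ ⟨y, hy, rfl⟩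
      rw [← map_mul, ← map_mul, hBc x hx y hy]
    · rintro _ ⟨x, hx, rfl⟩ _ ⟨y, hy, rfl⟩
      exact ⟨x * y * x⁻¹, hinv x hx y hy, by simp⟩
  intro x hx
  rw [← hπ1]
  have h2 : π x ∈ Q.map π := ⟨x, hx, rfl⟩
  rw [h1] at h2
  exact h2

end Cfsg.Agent.Lib.Tech.BF
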