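import Mathlib
import Cfsg.Agent.Lib.Coprime.Conj

/-!
# Basic tools for the classification techniques block.
-/

set_option autoImplicit false

namespace Cfsg.Agent.Lib.Tech

variable {G : Type*} [Group G]

open Cfsg.Agent.Lib.Coprime

/-- A `p`-subgroup of a subgroup `C` of a finite group and a `p`-element of `C`: after conjugating the element by an
element of `C` both lie in a common Sylow `p`-subgroup of `G`. -/
theorem exists_conj_common_sylow [Finite G] {p : ℕ} [Fact p.Prime] (C R : Subgroup G) (hRC : R ≤ C)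
    (hR : IsPGroup p R) (e : G) (heC : e ∈ C) (he : IsPGroup p (Subgroup.zpowers e)) :
    ∃ y ∈ C, ∃ S : Sylow p G, R ≤ (S : Subgroup G) ∧ y * e * y⁻¹ ∈ (S : Subgroup G) := by
  have h1 : IsPGroup p (R.subgroupOf C) := hR.comap_subtype
  have h2 : IsPGroup p ((Subgroup.zpowers e).subgroupOf C) := he.comap_subtype
  obtain ⟨A, hA⟩ := h1.exists_le_sylow
  obtain ⟨B, hB⟩ := h2.exists_le_sylow
  obtain ⟨y, hy⟩ := MulAction.exists_smul_eq C B A
  have h3 : IsPGroup p ((A : Subgroup C).map C.subtype) := A.isPGroup'.map _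
  obtain ⟨S, hS⟩ := h3.exists_le_sylow
  refine ⟨y, y.2, S, ?_, ?_⟩
  · intro r hr
    have : (⟨r, hRC hr⟩ : C) ∈ (A : Subgroup C) := hA (Subgroup.mem_subgroupOf.mpr hr)
    exact hS ⟨_, this, rfl⟩
  · have he' : (⟨e, heC⟩ : C) ∈ (B : Subgroup C) :=
      hB (Subgroup.mem_subgroupOf.mpr (Subgroup.mem_zpowers e))
    have h4 : y * (⟨e, heC⟩ : C) * y⁻¹ ∈ (A : Subgroup C) := by
      rw [← hy, Sylow.coe_subgroup_smul, Subgroup.mem_pointwise_smul_iff_inv_smul_mem]
      simpa [MulAut.smul_def, MulAut.conj_apply, mul_assoc] using he'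
    exact hS ⟨_, h4, rfl⟩

/-- Every Sylow subgroup is a conjugate of a given one. -/
theorem exists_conj_sylow [Finite G] {p : ℕ} [Fact p.Prime] (S T : Sylow p G) :
    ∃ x : G, ∀ t : G, t ∈ (T : Subgroup G) ↔ x⁻¹ * t * x ∈ (S : Subgroup G) := by
  obtain ⟨x, hx⟩ := MulAction.exists_smul_eq G S T
  refine ⟨x, fun t => ?_⟩
  rw [← hx, Sylow.coe_subgroup_smul, Subgroup.mem_pointwise_smul_iff_inv_smul_mem]
  simp [MulAut.smul_def, MulAut.conj_apply, mul_assoc]

end Cfsg.Agent.Lib.Tech
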