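import Cfsg.Agent.Lib.LocalEven.ZJControl
import Cfsg.Agent.Lib.Fusion.QdStr
import Cfsg.Agent.Lib.LocalEven.QdStable
import Cfsg.Agent.Lib.PGroups.Parts

/-!
# Groups in which no `N(Q)/C(Q)` has a section `SL₂(p)`: the preliminary reductions
-/

set_option autoImplicit false
set_option linter.unusedSectionVars false
set_option linter.style.haveILetI false

namespace Cfsg.Agent.Lib.Tech

open Subgroup Cfsg Cfsg.Agent.Lib.LocalEven Cfsg.Agent.Lib.LocalEven2 Cfsg.Agent.Lib.Known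

universe u

variable {p : ℕ} [hp : Fact p.Prime]

section basics

variable {X : Type*} [Group X]

/-- Products of a subgroup with a subgroup it normalizes. -/
theorem mem_sup_mul {H C : Subgroup X} (hHC : ∀ h ∈ H, ∀ c ∈ C, h * c * h⁻¹ ∈ C) {x : X}
    (hx : x ∈ H ⊔ C) : ∃ h ∈ H, ∃ c ∈ C, x = h * c := by
  let S : Subgroup X :=
    { carrier := {x | ∃ h ∈ H, ∃ c ∈ C, x = h * c}
      one_mem' := ⟨1, H.one_mem, 1, C.one_mem, by simp⟩
      mul_mem' := by
        rintro _ _ ⟨h, hh, c, hc, rfl⟩ ⟨h', hh', c', hc', rfl⟩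
        refine ⟨h * h', H.mul_mem hh hh', (h'⁻¹ * c * h'⁻¹⁻¹) * c', ?_, by group⟩
        exact C.mul_mem (hHC _ (H.inv_mem hh') _ hc) hc'
      inv_mem' := by
        rintro _ ⟨h, hh, c, hc, rfl⟩
        refine ⟨h⁻¹, H.inv_mem hh, h * c⁻¹ * h⁻¹, hHC _ hh _ (C.inv_mem hc), by group⟩ }
  have hle : H ⊔ C ≤ S := sup_le (fun h hh => ⟨h, hh, 1, C.one_mem, by simp⟩)
    (fun c hc => ⟨1, H.one_mem, c, hc, by simp⟩)
  exact hle hx

/-- A surjection of `H` with kernel containing `H ⊓ C` extends to `H ⊔ C`. -/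
theorem exists_hom_sup {S : Type*} [Group S] (H C : Subgroup X)
    (hHC : ∀ h ∈ H, ∀ c ∈ C, h * c * h⁻¹ ∈ C) (Ψ : H →* S) (hΨ : Function.Surjective Ψ)
    (hk : ∀ x : H, (x : X) ∈ C → Ψ x = 1) :
    ∃ Θ : ↥(H ⊔ C) →* S, Function.Surjective Θ ∧ ∀ x : ↥(H ⊔ C), (x : X) ∈ C → Θ x = 1 := by
  classical
  have hdec : ∀ x : ↥(H ⊔ C), ∃ h : H, ∃ c ∈ C, (x : X) = h * c := by
    intro x
    obtain ⟨h, hh, c, hc, e⟩ := mem_sup_mul hHC x.2
    exact ⟨⟨h, hh⟩, c, hc, e⟩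
  choose f c hc hfc using hdec
  have hwd : ∀ (h h' : H) (a a' : X), a ∈ C → a' ∈ C → (h : X) * a = h' * a' → Ψ h = Ψ h' := by
    intro h h' a a' ha ha' e
    have e1 : (((h'⁻¹ * h : H)) : X) = a' * a⁻¹ := by
      simp only [Subgroup.coe_mul, Subgroup.coe_inv]
      rw [eq_mul_inv_iff_mul_eq, mul_assoc, e]
      group
    have h1 := hk (h'⁻¹ * h) (by rw [e1]; exact C.mul_mem ha' (C.inv_mem ha))
    rw [map_mul, map_inv, inv_mul_eq_one] at h1
    exact h1.symm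
  have hval : ∀ (x : ↥(H ⊔ C)) (h : H) (a : X), a ∈ C → (x : X) = h * a → Ψ (f x) = Ψ h := by
    intro x h a ha e
    exact hwd _ _ _ _ (hc x) ha ((hfc x).symm.trans e)
  refine ⟨{ toFun := fun x => Ψ (f x)
            map_one' := ?_
            map_mul' := ?_ }, ?_, ?_⟩
  · rw [hval 1 1 1 C.one_mem (by simp), map_one]
  · intro x y
    have e : ((x * y : ↥(H ⊔ C)) : X) = ((f x * f y : H) : X) * (((f y : X)⁻¹ * c x * (f y : X)) * c y) := by
      simp only [Subgroup.coe_mul]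
      rw [hfc x, hfc y]
      group
    have hmem : ((f y : X)⁻¹ * c x * (f y : X)) * c y ∈ C := by
      refine C.mul_mem ?_ (hc y)
      have := hHC _ (H.inv_mem (f y).2) _ (hc x)
      simpa using this
    rw [hval (x * y) (f x * f y) _ hmem e, map_mul]
  · intro y
    obtain ⟨h, rfl⟩ := hΨ y
    refine ⟨⟨h, le_sup_left (a := H) (b := C) h.2⟩, ?_⟩
    show Ψ (f _) = _
    exact hval _ h 1 C.one_mem (by simp)
  · intro x hx
    show Ψ (f x) = 1
    rw [hval x 1 x hx (by simp), map_one]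

end basics

section qd

theorem qdQ_qdEl (A : SL2 (ZMod p)) (u : Fin 2 → ZMod p) : Fusion.Qd.qdQ (qdEl A u) = A := by
  apply Subtype.ext
  ext i j
  fin_cases i <;> fin_cases j <;> rfl

theorem qdQ_surjective : Function.Surjective (Fusion.Qd.qdQ (p := p)) := fun A => ⟨qdEl A 0, qdQ_qdEl A 0⟩

/-- An element of `Qd(p)` centralizing the translations has trivial linear part. -/
theorem qdQ_eq_one_of_comm (M : Cfsg.qd p) (h : ∀ u : QVec p, M * qdT u = qdT u * M) :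
    Fusion.Qd.qdQ M = 1 := by
  obtain ⟨A, v, rfl⟩ := qdEl_surj M
  rw [qdQ_qdEl]
  have h1 : ∀ u : Fin 2 → ZMod p, A.1.mulVec u = u := by
    intro u
    have h2 := h (Multiplicative.ofAdd u)
    rw [qdT_apply, qdEl_mul, qdEl_mul] at h2
    have h3 := (qdEl_inj h2).2
    simp only [toAdd_ofAdd, Matrix.SpecialLinearGroup.coe_one, Matrix.one_mulVec] at h3
    rw [add_comm v] at h3
    exact add_right_cancel h3
  apply Subtype.ext
  ext i j
  have h2 := congrFun (h1 (Pi.single j 1)) i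
  rw [Matrix.mulVec_single_one] at h2
  have h3 : A.1 i j = (Pi.single j 1 : Fin 2 → ZMod p) i := h2
  rw [h3]
  show _ = ((1 : Matrix (Fin 2) (Fin 2) (ZMod p))) i j
  rw [Matrix.one_apply, Pi.single_apply]

/-- Frattini reduction: hypothesis on the local sections implies that `Qd(p)` is not involved. -/
theorem noQd_of_free {G : Type*} [Group G] [Finite G]
    (hfree : ∀ Q : Subgroup G, IsPGroup p ↥Q → ¬ ∃ (H K : Subgroup G) (_ : (K.subgroupOf H).Normal),
      Subgroup.centralizer (Q : Set G) ≤ K ∧ K ≤ H ∧ H ≤ Subgroup.normalizer (Q : Set G) ∧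
      Nonempty ((↥H ⧸ K.subgroupOf H) ≃* Matrix.SpecialLinearGroup (Fin 2) (ZMod p))) :
    NoQd p G := by
  classical
  intro hinv
  obtain ⟨K₀, R₀, hn, ⟨e⟩⟩ := hinv
  let 𝓗 : Set (Subgroup G) := {H | ∃ φ : H →* Cfsg.qd p, Function.Surjective φ}
  have hne : 𝓗.Nonempty :=
    ⟨K₀, e.toMonoidHom.comp (QuotientGroup.mk' _), e.surjective.comp (QuotientGroup.mk'_surjective _)⟩
  obtain ⟨H, ⟨φ, hφ⟩, hmin⟩ := (Set.toFinite 𝓗).exists_minimal hne
  haveI hWn : (qdT (p := p)).range.Normal := qdT_range_normal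
  obtain ⟨T, hTp, hTw, hTn⟩ := exists_frattini_sub φ hφ (qdT (p := p)).range qdT_range_isPGroup
  -- the normalizer surjects, so it is everything
  have hTnorm : normalizer (T : Set H) = ⊤ := by
    let N := normalizer (T : Set H)
    let N' : Subgroup G := N.map H.subtype
    have hsurj : Function.Surjective (φ.comp N.subtype) := by
      intro y
      obtain ⟨g, hg, rfl⟩ := hTn y
      exact ⟨⟨g, hg⟩, rfl⟩
    have hN' : N' ∈ 𝓗 :=
      ⟨(φ.comp N.subtype).comp (N.equivMapOfInjective _ H.subtype_injective).symm.toMonoidHom,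
        hsurj.comp (N.equivMapOfInjective _ H.subtype_injective).symm.surjective⟩
    have hle : N' ≤ H := map_subtype_le N
    have hHle : H ≤ N' := hmin hN' hle
    rw [eq_top_iff]
    intro x _
    obtain ⟨m, hm, hmx⟩ := hHle x.2
    have : m = x := Subtype.ext hmx
    rwa [← this]
  have hTnormal : T.Normal := normalizer_eq_top_iff.1 hTnorm
  let Q : Subgroup G := T.map H.subtype
  have hQp : IsPGroup p Q := hTp.map _
  have hQm : ∀ (h : H), ∀ t ∈ T, (t : G) ∈ Q := fun h t ht => ⟨t, ht, rfl⟩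
  have hHN : H ≤ normalizer (Q : Set G) := by
    intro h hh
    apply Cfsg.Agent.Lib.PGroups.mem_normalizer_of_conj_le'
    rintro _ ⟨t, ht, rfl⟩
    refine ⟨⟨h, hh⟩ * t * (⟨h, hh⟩ : H)⁻¹, hTnormal.conj_mem t ht _, ?_⟩
    simp
  let C : Subgroup G := centralizer (Q : Set G)
  have hCN : ∀ n ∈ normalizer (Q : Set G), ∀ c ∈ C, n * c * n⁻¹ ∈ C := by
    intro n hn c hc
    refine mem_centralizer_iff.2 fun q hq => ?_
    have h1 : n⁻¹ * q * n ∈ Q := by
      have := (mem_normalizer_iff.1 (inv_mem hn) q).1 hq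
      simpa using this
    have h2 := mem_centralizer_iff.1 hc _ h1
    calc q * (n * c * n⁻¹) = n * ((n⁻¹ * q * n) * c) * n⁻¹ := by group
      _ = n * (c * (n⁻¹ * q * n)) * n⁻¹ := by rw [h2]
      _ = n * c * n⁻¹ * q := by group
  have hCleN : C ≤ normalizer (Q : Set G) := by
    intro c hc
    apply Cfsg.Agent.Lib.PGroups.mem_normalizer_of_conj_le'
    intro q hq
    have := mem_centralizer_iff.1 hc q hq
    rw [← this, mul_inv_cancel_right]
    exact hq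
  let Ψ : H →* SL2 (ZMod p) := (Fusion.Qd.qdQ (p := p)).comp φ
  have hΨ : Function.Surjective Ψ := qdQ_surjective.comp hφ
  have hk : ∀ x : H, (x : G) ∈ C → Ψ x = 1 := by
    intro x hx
    apply qdQ_eq_one_of_comm
    intro u
    obtain ⟨t, ht, hte⟩ := hTw (qdT u) ⟨u, rfl⟩
    rw [← hte, ← map_mul, ← map_mul]
    congr 1
    apply Subtype.ext
    exact (mem_centralizer_iff.1 hx _ (hQm x t ht)).symm
  obtain ⟨Θ, hΘ, hΘC⟩ := exists_hom_sup H C (fun h hh c hc => hCN h (hHN hh) c hc) Ψ hΨ hk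
  let H' : Subgroup G := H ⊔ C
  let K : Subgroup G := Θ.ker.map H'.subtype
  have hKe : K.subgroupOf H' = Θ.ker := by
    ext x
    rw [mem_subgroupOf]
    constructor
    · rintro ⟨y, hy, hyx⟩
      have : y = x := Subtype.ext hyx
      rwa [← this]
    · intro hx
      exact ⟨x, hx, rfl⟩
  haveI hKn : (K.subgroupOf H').Normal := by
    rw [hKe]
    exact MonoidHom.normal_ker _
  refine hfree Q hQp ⟨H', K, hKn, ?_, map_subtype_le _, sup_le hHN hCleN, ⟨?_⟩⟩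
  · intro c hc
    have hc' : c ∈ H' := le_sup_right (a := H) (b := C) hc
    exact ⟨⟨c, hc'⟩, hΘC ⟨c, hc'⟩ hc, rfl⟩
  · exact (QuotientGroup.quotientMulEquivOfEq hKe).trans (QuotientGroup.quotientKerEquivOfSurjective Θ hΘ)

end qd

section central

/-- The central step: enlarge a central subgroup `Z` of a `Qd(p)`-free group, controlling strong fusion. -/
theorem central_step (hp2 : p ≠ 2) {C₀ : Type u} [Group C₀] [Finite C₀] (hN : NoQd p C₀) (Z : Subgroup C₀)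
    (hZc : ∀ z ∈ Z, ∀ x : C₀, x * z = z * x) (P₁ : Sylow p C₀) (hZP : Z ≤ P₁) (hne : Z ≠ P₁) :
    ∃ V : Subgroup C₀, Z ≤ V ∧ Z ≠ V ∧ V ≤ P₁ ∧ (P₁ : Subgroup C₀) ≤ normalizer (V : Set C₀) ∧
      ∀ U : Subgroup C₀, U ≤ P₁ → SSc (normalizer (V : Set C₀)) (P₁ : Subgroup C₀) U := by
  classical
  haveI hZn : Z.Normal := by
    constructor
    intro z hz g
    rw [hZc z hz g, mul_inv_cancel_right]
    exact hz
  let π : C₀ →* C₀ ⧸ Z := QuotientGroup.mk' Z
  have hπ : Function.Surjective π := QuotientGroup.mk'_surjective Z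
  have hπe : ∀ x y : C₀, π x = π y → x⁻¹ * y ∈ Z := fun x y h => QuotientGroup.eq.1 h
  have hπ1 : ∀ x : C₀, π x = 1 ↔ x ∈ Z := fun x => QuotientGroup.eq_one_iff x
  obtain ⟨Ph, hPh⟩ : ∃ Ph : Sylow p (C₀ ⧸ Z), (Ph : Subgroup (C₀ ⧸ Z)) = (P₁ : Subgroup C₀).map π :=
    ⟨P₁.mapSurjective hπ, Sylow.coe_mapSurjective _ _⟩
  have hmemP : ∀ x, π x ∈ (Ph : Subgroup (C₀ ⧸ Z)) → x ∈ (P₁ : Subgroup C₀) := by
    intro x hx
    rw [hPh] at hx
    obtain ⟨t, ht, he⟩ := hx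
    have h1 := hZP (hπe t x he)
    have h2 := P₁.mul_mem ht h1
    simpa using h2
  have hDsc : IsStronglyClosed (Ph : Subgroup (C₀ ⧸ Z)) (Ph : Subgroup (C₀ ⧸ Z)) :=
    ⟨le_rfl, fun _ _ _ hg => hg⟩
  have hq : ∀ Û : Subgroup (C₀ ⧸ Z), Û ≤ (Ph : Subgroup (C₀ ⧸ Z)) →
      SSc (normalizer ((zjZ p (Ph : Subgroup (C₀ ⧸ Z)) : Subgroup (C₀ ⧸ Z)) : Set (C₀ ⧸ Z))) (Ph : Subgroup (C₀ ⧸ Z)) Û :=
    zj_control hp2 (zjClass_noQd hp2) (dvd_refl p) _ (C₀ ⧸ Z) (noQd_surj π hπ hN) Ph _ hDsc rfl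
  obtain ⟨ZJ, hZJ⟩ : ∃ ZJ : Subgroup (C₀ ⧸ Z), ZJ = zjZ p (Ph : Subgroup (C₀ ⧸ Z)) := ⟨_, rfl⟩
  rw [← hZJ] at hq
  obtain ⟨M, hM⟩ : ∃ M : Subgroup C₀, M = (normalizer (ZJ : Set (C₀ ⧸ Z))).comap π := ⟨_, rfl⟩
  have hMmem : ∀ x, x ∈ M ↔ π x ∈ normalizer (ZJ : Set (C₀ ⧸ Z)) := by
    intro x
    rw [hM]
    exact Iff.rfl
  have hPM : (P₁ : Subgroup C₀) ≤ M := by
    intro t ht
    rw [hMmem, hZJ]
    apply zjZ_mem_normalizer
    apply Subgroup.le_normalizer
    rw [hPh]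
    exact ⟨t, ht, rfl⟩
  obtain ⟨V, hVdef⟩ : ∃ V : Subgroup C₀, V = ZJ.comap π := ⟨_, rfl⟩
  have hVmem : ∀ x, x ∈ V ↔ π x ∈ ZJ := by
    intro x
    rw [hVdef]
    exact Iff.rfl
  have hMV : M ≤ normalizer (V : Set C₀) := by
    intro x hx
    apply Cfsg.Agent.Lib.PGroups.mem_normalizer_of_conj_le'
    intro v hv
    rw [hVmem] at hv ⊢
    have h1 := (mem_normalizer_iff.1 ((hMmem x).1 hx) _).1 hv
    simpa only [map_mul, map_inv] using h1
  have hZp : IsPGroup p Z := P₁.isPGroup'.to_le hZP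
  have hbC : ∀ b : C₀, ¬ p ∣ orderOf b → ∀ y ∈ Z, b * y = y * b := fun b _ y hy => hZc y hy b
  have hC1 : ∀ U : Subgroup C₀, U ≤ (P₁ : Subgroup C₀) → SSc M (P₁ : Subgroup C₀) U := by
    apply alperin_descent P₁
    intro V hV T₀ hT₀ IHd h hh
    have hhV : ∀ v ∈ V, h * v * h⁻¹ ∈ V := fun v hv => (mem_normalizer_iff.1 hh v).1 hv
    by_cases hYV : Z ≤ V
    · have hVh : V.map π ≤ (Ph : Subgroup (C₀ ⧸ Z)) := by
        rw [hPh]
        exact Subgroup.map_mono hV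
      obtain ⟨xh, hxh, hxhc⟩ := hq (V.map π) hVh (π h) (by
        rintro _ ⟨v, hv, rfl⟩
        rw [hPh]
        refine ⟨h * v * h⁻¹, hV (hhV v hv), ?_⟩
        simp only [map_mul, map_inv])
      obtain ⟨x, rfl⟩ := hπ xh
      have hxc : ∀ v ∈ V, π (x * v * x⁻¹) = π (h * v * h⁻¹) := by
        intro v hv
        have h1 := hxhc (π v) ⟨v, hv, rfl⟩
        simpa only [map_mul, map_inv] using h1
      have hxV : ∀ v ∈ V, x * v * x⁻¹ ∈ V := by
        intro v hv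
        have h1 := hπe _ _ (hxc v hv).symm
        have h2 := V.mul_mem (hhV v hv) (hYV h1)
        rwa [mul_inv_cancel_left] at h2
      have hxN : x ∈ normalizer (V : Set C₀) := Cfsg.Agent.Lib.PGroups.mem_normalizer_of_conj_le' V x hxV
      obtain ⟨y, hydef⟩ : ∃ y : C₀, y = x⁻¹ * h := ⟨_, rfl⟩
      have hyN : y ∈ normalizer (V : Set C₀) := by
        rw [hydef]
        exact mul_mem (inv_mem hxN) hh
      have hy : ∀ v ∈ V, (y * v * y⁻¹) * v⁻¹ ∈ Z := by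
        intro v hv
        rw [← hπ1, hydef]
        have h1 := hxc v hv
        simp only [map_mul, map_inv, mul_inv_rev, inv_inv] at h1 ⊢
        have e : (π x)⁻¹ * π h * π v * ((π h)⁻¹ * π x) * (π v)⁻¹ =
            (π x)⁻¹ * (π h * π v * (π h)⁻¹) * π x * (π v)⁻¹ := by group
        rw [e, ← h1]
        group
      obtain ⟨t, ht, hte⟩ := exists_sylow_action hZp hbC T₀ hyN hy
      have htP : t ∈ (P₁ : Subgroup C₀) := by
        rw [hT₀] at ht
        exact ht.2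
      refine ⟨x * t, M.mul_mem ((hMmem x).2 hxh) (hPM htP), fun v hv => ?_⟩
      have e : (x * t) * v * (x * t)⁻¹ = x * (t * v * t⁻¹) * x⁻¹ := by group
      rw [e, ← hte v hv, hydef]
      group
    · -- enlarge `V`
      have hV'le : V ⊔ Z ≤ (P₁ : Subgroup C₀) := sup_le hV hZP
      have hcard : Nat.card V < Nat.card (V ⊔ Z : Subgroup C₀) := by
        apply Cfsg.Agent.Lib.OddLocal.card_lt_of_lt
        refine lt_of_le_of_ne le_sup_left ?_
        intro he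
        exact hYV (by rw [he]; exact le_sup_right)
      have hconj : V ⊔ Z ≤ (P₁ : Subgroup C₀).comap (MulAut.conj h).toMonoidHom := by
        refine sup_le ?_ ?_
        · intro v hv
          exact hV (hhV v hv)
        · intro y hy
          exact hZP (hZn.conj_mem y hy h)
      obtain ⟨x, hx, hxu⟩ := IHd (V ⊔ Z) hV'le hcard h (fun u hu => hconj hu)
      exact ⟨x, hx, fun u hu => hxu u (le_sup_left (a := V) (b := Z) hu)⟩
  have hPhne : (Ph : Subgroup (C₀ ⧸ Z)) ≠ ⊥ := by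
    intro h0
    apply hne
    apply le_antisymm hZP
    intro t ht
    have h1 : π t ∈ (Ph : Subgroup (C₀ ⧸ Z)) := by
      rw [hPh]
      exact ⟨t, ht, rfl⟩
    rw [h0, mem_bot, hπ1] at h1
    exact h1
  have hZJne : ZJ ≠ ⊥ := by
    rw [hZJ]
    exact zjZ_ne_bot Ph.isPGroup' le_rfl Subgroup.le_normalizer hPhne (dvd_refl p)
  refine ⟨V, ?_, ?_, ?_, hPM.trans hMV, fun U hU g hg => ?_⟩
  · intro z hz
    rw [hVmem, (hπ1 z).2 hz]
    exact ZJ.one_mem
  · intro he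
    apply hZJne
    rw [eq_bot_iff]
    intro z hz
    obtain ⟨z', rfl⟩ := hπ z
    rw [mem_bot, hπ1, he, hVmem]
    exact hz
  · intro v hv
    rw [hVmem, hZJ] at hv
    exact hmemP v (zjZ_le hv)
  · obtain ⟨x, hx, hxu⟩ := hC1 U hU g hg
    exact ⟨x, hMV hx, hxu⟩

end central

end Cfsg.Agent.Lib.Tech
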