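import Mathlib
import Cfsg.Agent.Lib.Tech.AGChain
import Cfsg.Agent.Lib.PGroups.Parts

/-!
# Strong control of fusion through a normal subgroup.
-/

set_option autoImplicit false
set_option linter.unusedSectionVars false
set_option linter.style.haveILetI false

namespace Cfsg.Agent.Lib.Tech

open Cfsg Subgroup Cfsg.Agent.Lib.Coprime

local notation:max "cj[" g "]" H:max => Subgroup.map (MulEquiv.toMonoidHom (MulAut.conj g)) H

variable {G : Type*} [Group G] [Finite G] {p : ℕ} [Fact p.Prime]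

/-- `g` induces on `A` the same map as an element of `E`. -/
def CtlR (E : Subgroup G) (A : Set G) (g : G) : Prop := ∃ h ∈ E, ∀ a ∈ A, h * a * h⁻¹ = g * a * g⁻¹

theorem ctlR_fusRel (E : Subgroup G) : FusRel (CtlR E) where
  one := fun A => ⟨1, E.one_mem, fun _ _ => rfl⟩
  mono := fun ⟨h, hh, e⟩ hs => ⟨h, hh, fun a ha => e a (hs ha)⟩
  congr := fun ⟨e, he, h1⟩ h2 => ⟨e, he, fun a ha => (h1 a ha).trans (h2 a ha)⟩
  trans := by
    rintro A h k ⟨e₁, he₁, h1⟩ ⟨e₂, he₂, h2⟩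
    refine ⟨e₂ * e₁, E.mul_mem he₂ he₁, fun a ha => ?_⟩
    have h3 := h2 (h * a * h⁻¹) ⟨a, ha, rfl⟩
    calc e₂ * e₁ * a * (e₂ * e₁)⁻¹ = e₂ * (e₁ * a * e₁⁻¹) * e₂⁻¹ := by group
      _ = e₂ * (h * a * h⁻¹) * e₂⁻¹ := by rw [h1 a ha]
      _ = k * (h * a * h⁻¹) * k⁻¹ := h3
      _ = k * h * a * (k * h)⁻¹ := by group
  inv := by
    rintro A h ⟨e, he, h1⟩
    refine ⟨e⁻¹, E.inv_mem he, ?_⟩
    rintro _ ⟨a, ha, rfl⟩
    have h2 := h1 a ha
    show e⁻¹ * (h * a * h⁻¹) * e⁻¹⁻¹ = h⁻¹ * (h * a * h⁻¹) * h⁻¹⁻¹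
    calc e⁻¹ * (h * a * h⁻¹) * e⁻¹⁻¹ = e⁻¹ * (e * a * e⁻¹) * e⁻¹⁻¹ := by rw [h2]
      _ = a := by group
      _ = h⁻¹ * (h * a * h⁻¹) * h⁻¹⁻¹ := by group

section Local

variable (N : Subgroup G) [hNn : N.Normal] (P : Sylow p G) (E : Subgroup G)
  (hNE : normalizer (((P : Subgroup G) ⊓ N : Subgroup G) : Set G) ≤ E)
  (hctrl : ∀ A : Subgroup G, A ≤ (P : Subgroup G) ⊓ N → ∀ n ∈ N, cj[n] A ≤ (P : Subgroup G) ⊓ N →
    ∃ d ∈ N ⊓ E, ∃ c ∈ N ⊓ centralizer (A : Set G), n = d * c)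

include hNE hctrl

/-- The first reduction: an element moving `U₀ ≤ P ∩ N` into `P ∩ N` is in `E · C_N(U₀)`. -/
theorem exists_mul_of_conj_le {U₀ : Subgroup G} (hU₀ : U₀ ≤ (P : Subgroup G) ⊓ N) {y : G}
    (hy : cj[y] U₀ ≤ (P : Subgroup G) ⊓ N) :
    ∃ e ∈ E, ∃ c ∈ N ⊓ centralizer (U₀ : Set G), y = e * c := by
  have h1 := frattini_inf_normal P N
  have hy' : y ∈ N ⊔ normalizer (((P : Subgroup G) ⊓ N : Subgroup G) : Set G) := by
    rw [sup_comm, h1]
    exact mem_top y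
  obtain ⟨n, hn, y₁, hy₁, e⟩ := Subgroup.mem_sup_of_normal_left.mp hy'
  have hy₁T : cj[y₁] U₀ ≤ (P : Subgroup G) ⊓ N := by
    rintro _ ⟨u, hu, rfl⟩
    exact (mem_normalizer_iff.mp hy₁ u).mp (hU₀ hu)
  have hnA : cj[n] (cj[y₁] U₀) ≤ (P : Subgroup G) ⊓ N := by
    rintro _ ⟨_, ⟨u, hu, rfl⟩, rfl⟩
    apply hy
    refine ⟨u, hu, ?_⟩
    rw [← e]
    change n * y₁ * u * (n * y₁)⁻¹ = n * (y₁ * u * y₁⁻¹) * n⁻¹
    group
  obtain ⟨d, ⟨hd1, hd2⟩, c, ⟨hc1, hc2⟩, hdc⟩ := hctrl _ hy₁T n hn hnA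
  refine ⟨d * y₁, E.mul_mem hd2 (hNE hy₁), y₁⁻¹ * c * y₁, ⟨?_, ?_⟩, ?_⟩
  · have := hNn.conj_mem c hc1 y₁⁻¹
    simpa using this
  · refine mem_centralizer_iff.mpr fun u hu => ?_
    have h2 : y₁ * u * y₁⁻¹ ∈ cj[y₁] U₀ := ⟨u, hu, rfl⟩
    have h3 := mem_centralizer_iff.mp hc2 _ h2
    have h4 : u = y₁⁻¹ * (y₁ * u * y₁⁻¹) * y₁ := by group
    calc u * (y₁⁻¹ * c * y₁) = y₁⁻¹ * ((y₁ * u * y₁⁻¹) * c) * y₁ := by group
      _ = y₁⁻¹ * (c * (y₁ * u * y₁⁻¹)) * y₁ := by rw [h3]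
      _ = y₁⁻¹ * c * y₁ * u := by group
  · rw [← e, hdc]
    group

/-- The local step. -/
theorem ctl_local {U : Subgroup G} (hUP : U ≤ (P : Subgroup G)) (hExt : Ext p (P : Subgroup G) U)
    (hIH : ∀ F : Subgroup G, F ≤ (P : Subgroup G) → Nat.card U < Nat.card F → ∀ c : G, cj[c] F ≤ (P : Subgroup G) →
      CtlR E (F : Set G) c)
    {k : G} (hk : k ∈ normalizer (U : Set G)) : CtlR E (U : Set G) k := by
  classical
  have hp : p.Prime := Fact.out
  have hPg : IsPGroup p (P : Subgroup G) := P.isPGroup'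
  have hPT : (P : Subgroup G) ≤ normalizer (((P : Subgroup G) ⊓ N : Subgroup G) : Set G) := by
    intro s hs
    apply Cfsg.Agent.Lib.PGroups.mem_normalizer_of_conj_le'
    rintro w ⟨hw1, hw2⟩
    exact ⟨(P : Subgroup G).mul_mem ((P : Subgroup G).mul_mem hs hw1) ((P : Subgroup G).inv_mem hs),
      hNn.conj_mem w hw2 s⟩
  have hPE : (P : Subgroup G) ≤ E := hPT.trans hNE
  set L : Subgroup G := normalizer (U : Set G) with hL
  set U₀ : Subgroup G := U ⊓ N with hU₀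
  have hU₀T : U₀ ≤ (P : Subgroup G) ⊓ N := inf_le_inf_right _ hUP
  have hU₀p : IsPGroup p U₀ := hPg.to_le (inf_le_left.trans hUP)
  have hLU₀ : ∀ l ∈ L, ∀ u ∈ U₀, l * u * l⁻¹ ∈ U₀ := fun l hl u hu =>
    ⟨(mem_normalizer_iff.mp hl u).mp hu.1, hNn.conj_mem u hu.2 l⟩
  set C₁ : Subgroup G := N ⊓ centralizer (U₀ : Set G) with hC₁
  set M₀ : Subgroup G := C₁ ⊓ L with hM₀
  -- normality of `M₀` in `L`
  have hM₀L : M₀ ≤ L := inf_le_right
  haveI hM₀n : (M₀.subgroupOf L).Normal := by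
    constructor
    intro x hx l
    rw [mem_subgroupOf] at hx ⊢
    obtain ⟨⟨hx1, hx2⟩, hx3⟩ := hx
    refine ⟨⟨hNn.conj_mem _ hx1 _, mem_centralizer_iff.mpr fun u hu => ?_⟩, L.mul_mem (L.mul_mem l.2 hx3) (L.inv_mem l.2)⟩
    have hu' : (l : G)⁻¹ * u * l ∈ U₀ := by
      have := hLU₀ _ (L.inv_mem l.2) u hu
      simpa using this
    have h1 := mem_centralizer_iff.mp hx2 _ hu'
    show u * ((l : G) * x * (l : G)⁻¹) = (l : G) * x * (l : G)⁻¹ * u
    calc u * ((l : G) * x * (l : G)⁻¹) = (l : G) * (((l : G)⁻¹ * u * l) * x) * (l : G)⁻¹ := by group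
      _ = (l : G) * (x * ((l : G)⁻¹ * u * l)) * (l : G)⁻¹ := by rw [h1]
      _ = (l : G) * x * (l : G)⁻¹ * u := by group
  obtain ⟨D, hD⟩ := exists_sylow_normalizer hPg hExt
  -- `P ∩ M₀` is Sylow in `M₀`
  have hS₀i : ¬ p ∣ (P : Subgroup G).relIndex M₀ := by
    have h1 := sylow_relIndex_normal_not_dvd D (M₀.subgroupOf L)
    rw [hD] at h1
    intro h2
    apply h1
    have e1 : (((P : Subgroup G) ⊓ L).subgroupOf L).relIndex (M₀.subgroupOf L) = (P : Subgroup G).relIndex M₀ := by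
      rw [subgroupOf, relIndex_comap, subgroupOf_map_subtype, inf_eq_left.mpr hM₀L]
      rw [← inf_relIndex_right, inf_assoc, inf_eq_right.mpr hM₀L, inf_relIndex_right]
    rw [e1]
    exact h2
  -- stability
  have hstab : ∀ m ∈ M₀, ∃ r : ℕ, m ^ (p ^ r) ∈ centralizer (U : Set G) := by
    obtain ⟨r, hr⟩ := IsPGroup.iff_card.mp hU₀p
    intro m hm
    obtain ⟨⟨hm1, hm2⟩, hm3⟩ := hm
    refine ⟨r, mem_centralizer_iff.mpr fun u hu => ?_⟩
    have ha : m * u * m⁻¹ * u⁻¹ ∈ U₀ := by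
      refine ⟨U.mul_mem ((mem_normalizer_iff.mp hm3 u).mp hu) (U.inv_mem hu), ?_⟩
      have e : m * u * m⁻¹ * u⁻¹ = m * (u * m⁻¹ * u⁻¹) := by group
      rw [e]
      exact N.mul_mem hm1 (hNn.conj_mem _ (N.inv_mem hm1) u)
    set a := m * u * m⁻¹ * u⁻¹ with ha'
    have hma : m * a = a * m := (mem_centralizer_iff.mp hm2 a ha).symm
    have hpow : ∀ j : ℕ, m ^ j * u * (m ^ j)⁻¹ = a ^ j * u := by
      intro j
      induction j with
      | zero => simp
      | succ j ih =>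
        have h3 : m * a ^ j = a ^ j * m := ((show Commute m a from hma).pow_right j).eq
        have h4 : m * u * m⁻¹ = a * u := by
          rw [ha']
          group
        calc m ^ (j + 1) * u * (m ^ (j + 1))⁻¹ = m * (m ^ j * u * (m ^ j)⁻¹) * m⁻¹ := by
              rw [pow_succ']
              group
          _ = m * (a ^ j * u) * m⁻¹ := by rw [ih]
          _ = (m * a ^ j) * u * m⁻¹ := by group
          _ = a ^ j * (m * u * m⁻¹) := by rw [h3]; group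
          _ = a ^ j * (a * u) := by rw [h4]
          _ = a ^ (j + 1) * u := by rw [pow_succ]; group
    have h5 : a ^ (p ^ r) = 1 := by
      have h6 := pow_card_eq_one' (x := (⟨a, ha⟩ : U₀))
      rw [hr] at h6
      exact congrArg Subtype.val h6
    have h7 := hpow (p ^ r)
    rw [h5, one_mul] at h7
    calc u * m ^ (p ^ r) = (m ^ (p ^ r) * u * (m ^ (p ^ r))⁻¹) * m ^ (p ^ r) := by rw [h7]
      _ = m ^ (p ^ r) * u := by group
  haveI hCU : ((centralizer (U : Set G)).subgroupOf M₀).Normal := by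
    constructor
    intro x hx l
    rw [mem_subgroupOf, mem_centralizer_iff] at hx ⊢
    intro u hu
    have hl3 : (l : G) ∈ L := hM₀L l.2
    have hu' : (l : G)⁻¹ * u * l ∈ U := by
      have := (mem_normalizer_iff.mp (L.inv_mem hl3) u).mp hu
      simpa using this
    have h1 := hx _ hu'
    show u * ((l : G) * x * (l : G)⁻¹) = (l : G) * x * (l : G)⁻¹ * u
    calc u * ((l : G) * x * (l : G)⁻¹) = (l : G) * (((l : G)⁻¹ * u * l) * x) * (l : G)⁻¹ := by group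
      _ = (l : G) * (x * ((l : G)⁻¹ * u * l)) * (l : G)⁻¹ := by rw [h1]
      _ = (l : G) * x * (l : G)⁻¹ * u := by group
  have hM₀ctl : ∀ m ∈ M₀, CtlR E (U : Set G) m := by
    intro m hm
    obtain ⟨s, hs, c, hc, e⟩ := exists_mul_of_pPower_mod hS₀i hstab hm
    refine ⟨s, hPE hs.1, fun a ha => ?_⟩
    rw [e]
    have h1 := mem_centralizer_iff.mp hc a ha
    calc s * a * s⁻¹ = s * (a * c * c⁻¹) * s⁻¹ := by group
      _ = s * (c * a * c⁻¹) * s⁻¹ := by rw [h1]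
      _ = s * c * a * (s * c)⁻¹ := by group
  by_cases hcase : (P : Subgroup G) ⊓ M₀ ≤ U
  · -- stuck case: `P ∩ M₀ ≤ U`
    have hR₀U₀ : (P : Subgroup G) ⊓ M₀ ≤ U₀ := fun w hw => ⟨hcase hw, hw.2.1.1⟩
    obtain ⟨Q₀, hQ₀⟩ := exists_sylow_eq (S := (P : Subgroup G).subgroupOf M₀) hPg.comap_subtype hS₀i
    have hQ₀c : ∀ a ∈ (Q₀ : Subgroup M₀), ∀ x : M₀, x * a = a * x := by
      intro a ha x
      rw [hQ₀, mem_subgroupOf] at ha
      have h1 : (a : G) ∈ U₀ := hR₀U₀ ⟨ha, a.2⟩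
      exact Subtype.ext (mem_centralizer_iff.mp x.2.1.2 _ h1).symm
    have hpel : ∀ r ∈ M₀, (∃ j : ℕ, r ^ (p ^ j) = 1) → r ∈ (P : Subgroup G) := by
      rintro r hr ⟨j, hj⟩
      obtain ⟨s, hs, n, hn, e⟩ := exists_central_sylow_decomp Q₀ hQ₀c ⟨r, hr⟩
      obtain ⟨i, hi⟩ := Q₀.isPGroup' ⟨s, hs⟩
      have hi' : s ^ (p ^ i) = 1 := congrArg Subtype.val hi
      have hcomm : Commute n s := hQ₀c s hs n
      have hn1 : n ^ (p ^ (j + i)) = 1 := by
        have h2 : n = (⟨r, hr⟩ : M₀) * s⁻¹ := by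
          rw [e]
          group
        have h3 : Commute (⟨r, hr⟩ : M₀) s⁻¹ := by
          have h4 : Commute (⟨r, hr⟩ : M₀) s := (hQ₀c s hs _)
          exact h4.inv_right
        rw [h2, h3.mul_pow, inv_pow]
        have h5 : (⟨r, hr⟩ : M₀) ^ (p ^ (j + i)) = 1 := by
          apply Subtype.ext
          show r ^ (p ^ (j + i)) = 1
          rw [pow_add, pow_mul, hj, one_pow]
        have h6 : s ^ (p ^ (j + i)) = 1 := by
          rw [pow_add, mul_comm, pow_mul, hi', one_pow]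
        rw [h5, h6]
        simp
      have hn2 : (orderOf n).Coprime p := Cfsg.Agent.Lib.Components.orderOf_coprime_of_mem
        (Cfsg.Agent.Lib.Components.coprime_card_pPrimeCore p) hn
      have hn3 : orderOf n = 1 := Nat.Coprime.eq_one_of_dvd (hn2.pow_right (j + i))
        (orderOf_dvd_of_pow_eq_one hn1)
      have hn4 : n = 1 := orderOf_eq_one_iff.mp hn3
      rw [hn4, one_mul] at e
      have hsP : (s : G) ∈ (P : Subgroup G) := by
        rw [hQ₀, mem_subgroupOf] at hs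
        exact hs
      have e2 : r = (s : G) := congrArg Subtype.val e
      rw [e2]
      exact hsP
    -- the Sylow subgroup of `C₁` normalized by `U`
    have hUL : U ≤ L := Subgroup.le_normalizer
    have hUC₁ : ∀ u ∈ U, ∀ c ∈ C₁, u * c * u⁻¹ ∈ C₁ := by
      rintro u hu c ⟨hc1, hc2⟩
      refine ⟨hNn.conj_mem c hc1 u, mem_centralizer_iff.mpr fun v hv => ?_⟩
      have hv' : u⁻¹ * v * u ∈ U₀ := by
        have := hLU₀ _ (L.inv_mem (hUL hu)) v hv
        simpa using this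
      have h1 := mem_centralizer_iff.mp hc2 _ hv'
      calc v * (u * c * u⁻¹) = u * ((u⁻¹ * v * u) * c) * u⁻¹ := by group
        _ = u * (c * (u⁻¹ * v * u)) * u⁻¹ := by rw [h1]
        _ = u * c * u⁻¹ * v := by group
    set X₁ : Subgroup G := C₁ ⊔ U with hX₁
    have hUX : U ≤ X₁ := le_sup_right
    have hC₁X : C₁ ≤ X₁ := le_sup_left
    have hX₁N : X₁ ≤ normalizer (C₁ : Set G) := by
      refine sup_le Subgroup.le_normalizer ?_
      intro u hu
      apply Cfsg.Agent.Lib.PGroups.mem_normalizer_of_conj_le'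
      exact fun w hw => hUC₁ u hu w hw
    haveI hC₁'n : (C₁.subgroupOf X₁).Normal := (normal_subgroupOf_iff_le_normalizer hC₁X).mpr hX₁N
    have hUp : IsPGroup p U := hPg.to_le hUP
    obtain ⟨Y, hY⟩ := (hUp.comap_subtype (K := X₁)).exists_le_sylow
    set Y' : Subgroup G := (Y : Subgroup X₁).map X₁.subtype with hY'
    have hY'p : IsPGroup p Y' := Y.isPGroup'.map _
    have hUY' : U ≤ Y' := by
      intro u hu
      exact ⟨⟨u, hUX hu⟩, hY (by exact hu), rfl⟩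
    have hYsub : (Y : Subgroup X₁) = Y'.subgroupOf X₁ :=
      (Subgroup.comap_map_eq_self_of_injective X₁.subtype_injective _).symm
    have hR₂i : ¬ p ∣ Y'.relIndex C₁ := by
      have h1 := sylow_relIndex_normal_not_dvd Y (C₁.subgroupOf X₁)
      rw [hYsub, subgroupOf, relIndex_comap, subgroupOf_map_subtype, inf_eq_left.mpr hC₁X] at h1
      exact h1
    have hUR₂ : U ≤ normalizer ((Y' ⊓ C₁ : Subgroup G) : Set G) := by
      intro u hu
      apply Cfsg.Agent.Lib.PGroups.mem_normalizer_of_conj_le'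
      rintro w ⟨hw1, hw2⟩
      exact ⟨Y'.mul_mem (Y'.mul_mem (hUY' hu) hw1) (Y'.inv_mem (hUY' hu)), hUC₁ u hu w hw2⟩
    have hR₂U : Y' ⊓ C₁ ≤ U := by
      by_contra hcon
      have hle : U ≤ (Y' ⊓ C₁) ⊔ U := le_sup_right
      have hlt : U < (Y' ⊓ C₁) ⊔ U := lt_of_le_of_ne hle fun e => hcon (by
        rw [e]
        exact le_sup_left)
      have hFp : IsPGroup p ↥((Y' ⊓ C₁) ⊔ U) := hY'p.to_le (sup_le inf_le_left hUY')
      obtain ⟨t, ht, htU, htN⟩ := Cfsg.Agent.Lib.Components.exists_mem_normalizer_of_lt hFp hlt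
      obtain ⟨r, hr, u, hu, rfl⟩ := Cfsg.Agent.Lib.Components.exists_mul_of_mem_sup_of_le_normalizer hUR₂ ht
      have hrL : r ∈ L := by
        have := L.mul_mem htN (L.inv_mem (hUL hu))
        simpa using this
      obtain ⟨j, hj⟩ := hY'p ⟨r, hr.1⟩
      have hj' : r ^ (p ^ j) = 1 := congrArg Subtype.val hj
      have hrP := hpel r ⟨hr.2, hrL⟩ ⟨j, hj'⟩
      have hrU : r ∈ U := hcase ⟨hrP, ⟨hr.2, hrL⟩⟩
      exact htU (U.mul_mem hrU hu)
    have hR₂U₀ : Y' ⊓ C₁ ≤ U₀ := fun w hw => ⟨hR₂U hw, hw.2.1⟩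
    obtain ⟨Q₂, hQ₂⟩ := exists_sylow_eq (S := Y'.subgroupOf C₁) hY'p.comap_subtype hR₂i
    have hQ₂U : ∀ a ∈ (Q₂ : Subgroup C₁), (a : G) ∈ U₀ := by
      intro a ha
      rw [hQ₂, mem_subgroupOf] at ha
      exact hR₂U₀ ⟨ha, a.2⟩
    have hQ₂c : ∀ a ∈ (Q₂ : Subgroup C₁), ∀ x : C₁, x * a = a * x := by
      intro a ha x
      exact Subtype.ext (mem_centralizer_iff.mp x.2.2 _ (hQ₂U a ha)).symm
    set Ô : Subgroup G := (pPrimeCore p C₁).map C₁.subtype with hÔ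
    have hÔC₁ : Ô ≤ C₁ := map_subtype_le _
    have hÔcard : (Nat.card Ô).Coprime p := by
      have h1 : Nat.card Ô = Nat.card (pPrimeCore p C₁) :=
        Nat.card_congr (Subgroup.equivMapOfInjective _ _ C₁.subtype_injective).toEquiv.symm
      rw [h1]
      exact Cfsg.Agent.Lib.Components.coprime_card_pPrimeCore p
    have hÔord : ∀ x ∈ Ô, (orderOf x).Coprime p := fun x hx =>
      Cfsg.Agent.Lib.Components.orderOf_coprime_of_mem hÔcard hx
    have hÔmem : ∀ x ∈ C₁, (orderOf x).Coprime p → x ∈ Ô := by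
      intro x hx hxc
      obtain ⟨s, hs, n, hn, e⟩ := exists_central_sylow_decomp Q₂ hQ₂c ⟨x, hx⟩
      have hnc : (orderOf n).Coprime p := Cfsg.Agent.Lib.Components.orderOf_coprime_of_mem
        (Cfsg.Agent.Lib.Components.coprime_card_pPrimeCore p) hn
      obtain ⟨i, hi⟩ := Q₂.isPGroup' ⟨s, hs⟩
      have hi' : s ^ (p ^ i) = 1 := congrArg Subtype.val hi
      have hcomm : Commute n s := hQ₂c s hs n
      have hs2 : s = n⁻¹ * (⟨x, hx⟩ : C₁) := by
        rw [e]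
        group
      have hcomm2 : Commute n⁻¹ (⟨x, hx⟩ : C₁) := by
        rw [e]
        exact ((Commute.refl n).mul_right hcomm).inv_left
      have hxo : (⟨x, hx⟩ : C₁) ^ (orderOf x) = 1 := by
        apply Subtype.ext
        show x ^ orderOf x = 1
        exact pow_orderOf_eq_one x
      have hs3 : s ^ (orderOf n * orderOf x) = 1 := by
        rw [hs2, hcomm2.mul_pow, inv_pow, pow_mul, pow_orderOf_eq_one, mul_comm, pow_mul, hxo]
        simp
      have hs4 : orderOf s ∣ orderOf n * orderOf x := orderOf_dvd_of_pow_eq_one hs3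
      have hs5 : orderOf s ∣ p ^ i := orderOf_dvd_of_pow_eq_one hi'
      have hs6 : Nat.Coprime (p ^ i) (orderOf n * orderOf x) :=
        Nat.Coprime.pow_left i (Nat.Coprime.mul_right hnc.symm hxc.symm)
      have hs7 : orderOf s = 1 := Nat.eq_one_of_dvd_coprimes hs6 hs5 hs4
      have hs8 : s = 1 := orderOf_eq_one_iff.mp hs7
      rw [hs8, mul_one] at e
      have e2 : x = (n : G) := congrArg Subtype.val e
      rw [e2]
      exact ⟨n, hn, rfl⟩
    have hÔU : ∀ u ∈ U, ∀ o ∈ Ô, u * o * u⁻¹ ∈ Ô := by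
      intro u hu o ho
      refine hÔmem _ (hUC₁ u hu o (hÔC₁ ho)) ?_
      rw [orderOf_conj]
      exact hÔord o ho
    -- factorization of `k`
    have hkU₀ : cj[k] U₀ ≤ (P : Subgroup G) ⊓ N := by
      rintro _ ⟨u, hu, rfl⟩
      exact hU₀T (hLU₀ k hk u hu)
    obtain ⟨e, he, c, hc, hkc⟩ := exists_mul_of_conj_le N P E hNE hctrl hU₀T hkU₀
    obtain ⟨s, hs, n, hn, ecn⟩ := exists_central_sylow_decomp Q₂ hQ₂c ⟨c, hc⟩
    have hcn : c = (n : G) * s := congrArg Subtype.val ecn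
    have hns : (n : G) * s = s * n := congrArg Subtype.val (hQ₂c s hs n)
    have hsE : (s : G) ∈ E := hPE (hUP (hQ₂U s hs).1)
    set e₁ := e * (s : G) with he₁
    have he₁E : e₁ ∈ E := E.mul_mem he hsE
    set o : G := (n : G) with ho
    have hoÔ : o ∈ Ô := ⟨n, hn, rfl⟩
    have hk2 : k = e₁ * o := by
      rw [hkc, hcn, hns, he₁]
      group
    have hoE : ∀ u ∈ U, o * u * o⁻¹ ∈ E := by
      intro u hu
      have h1 : o = e₁⁻¹ * k := by
        rw [hk2]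
        group
      have h2 : k * u * k⁻¹ ∈ E := hPE (hUP ((mem_normalizer_iff.mp hk u).mp hu))
      have h3 : o * u * o⁻¹ = e₁⁻¹ * (k * u * k⁻¹) * e₁ := by
        rw [h1]
        group
      rw [h3]
      exact E.mul_mem (E.mul_mem (E.inv_mem he₁E) h2) he₁E
    have hUE : U ≤ E := hUP.trans hPE
    haveI : Group.IsNilpotent U := hUp.isNilpotent
    have hCA : CoprimeAction U (Ô ⊓ E) := by
      refine ⟨?_, ?_, Or.inl inferInstance⟩
      · intro u hu
        apply Cfsg.Agent.Lib.PGroups.mem_normalizer_of_conj_le'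
        rintro w ⟨hw1, hw2⟩
        exact ⟨hÔU u hu w hw1, E.mul_mem (E.mul_mem (hUE hu) hw2) (E.inv_mem (hUE hu))⟩
      · obtain ⟨i, hi⟩ := IsPGroup.iff_card.mp hUp
        rw [hi]
        apply Nat.Coprime.pow_left
        have h1 : Nat.card ↥(Ô ⊓ E) ∣ Nat.card Ô := card_dvd_of_le inf_le_left
        exact (hÔcard.coprime_dvd_left h1).symm
    have hB : cj[o] U ≤ (Ô ⊓ E) ⊔ U := by
      rintro _ ⟨u, hu, rfl⟩
      have hw : o * u * o⁻¹ * u⁻¹ ∈ Ô ⊓ E := by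
        refine ⟨?_, E.mul_mem (hoE u hu) (E.inv_mem (hUE hu))⟩
        have e3 : o * u * o⁻¹ * u⁻¹ = o * (u * o⁻¹ * u⁻¹) := by group
        rw [e3]
        exact Ô.mul_mem hoÔ (hÔU u hu _ (Ô.inv_mem hoÔ))
      have e4 : (MulEquiv.toMonoidHom (MulAut.conj o)) u = (o * u * o⁻¹ * u⁻¹) * u := by
        show o * u * o⁻¹ = _
        group
      rw [e4]
      exact mul_mem_sup hw hu
    have hcB : Nat.card (cj[o] U) = Nat.card U := card_conj_map U o
    obtain ⟨g, hg, hBg⟩ := hCA.exists_conj_eq hB hcB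
    set o₂ := g⁻¹ * o with ho₂
    have hgÔ : g ∈ Ô := hg.1
    have ho₂Ô : o₂ ∈ Ô := Ô.mul_mem (Ô.inv_mem hgÔ) hoÔ
    have ho₂N : ∀ u ∈ U, o₂ * u * o₂⁻¹ ∈ U := by
      intro u hu
      have h1 : o * u * o⁻¹ ∈ cj[o] U := ⟨u, hu, rfl⟩
      rw [hBg] at h1
      obtain ⟨u', hu', e5⟩ := h1
      have e6 : o * u * o⁻¹ = g * u' * g⁻¹ := e5.symm
      have e7 : o₂ * u * o₂⁻¹ = g⁻¹ * (o * u * o⁻¹) * g := by
        rw [ho₂]
        group
      rw [e7, e6]
      have e8 : g⁻¹ * (g * u' * g⁻¹) * g = u' := by group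
      rw [e8]
      exact hu'
    have ho₂C : ∀ u ∈ U, o₂ * u * o₂⁻¹ = u := by
      intro u hu
      have hw1 : o₂ * u * o₂⁻¹ * u⁻¹ ∈ U := U.mul_mem (ho₂N u hu) (U.inv_mem hu)
      have hw2 : o₂ * u * o₂⁻¹ * u⁻¹ ∈ Ô := by
        have e3 : o₂ * u * o₂⁻¹ * u⁻¹ = o₂ * (u * o₂⁻¹ * u⁻¹) := by group
        rw [e3]
        exact Ô.mul_mem ho₂Ô (hÔU u hu _ (Ô.inv_mem ho₂Ô))
      have hw3 := Cfsg.Agent.Lib.Transfer.eq_one_of_coprime_of_isPGroup hUp hw1 (hÔord _ hw2)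
      exact mul_inv_eq_one.mp hw3
    refine ⟨e₁ * g, E.mul_mem he₁E hg.2, fun a ha => ?_⟩
    have h9 : o = g * o₂ := by
      rw [ho₂]
      group
    rw [hk2, h9]
    have h10 := ho₂C a ha
    calc e₁ * g * a * (e₁ * g)⁻¹ = e₁ * g * (o₂ * a * o₂⁻¹) * (e₁ * g)⁻¹ := by rw [h10]
      _ = e₁ * (g * o₂) * a * (e₁ * (g * o₂))⁻¹ := by group
  · -- the Frattini step
    have h1 := frattini_inf_normal D (M₀.subgroupOf L)
    have h2 : (⟨k, hk⟩ : L) ∈ normalizer (((D : Subgroup L) ⊓ M₀.subgroupOf L : Subgroup L) : Set L) ⊔ M₀.subgroupOf L := by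
      rw [h1]
      trivial
    obtain ⟨x, hx, m, hm, e⟩ := Cfsg.Agent.Lib.Components.exists_mul_of_mem_sup_normal h2
    have hk' : k = (x : G) * m := congrArg Subtype.val e
    have hxR : ∀ w ∈ (P : Subgroup G) ⊓ M₀, (x : G) * w * (x : G)⁻¹ ∈ (P : Subgroup G) ⊓ M₀ := by
      rintro w ⟨hw1, hw2⟩
      have hw3 : (⟨w, hM₀L hw2⟩ : L) ∈ (D : Subgroup L) ⊓ M₀.subgroupOf L := by
        refine ⟨?_, mem_subgroupOf.mpr hw2⟩
        show _ ∈ (D : Subgroup L)
        rw [hD, mem_subgroupOf]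
        exact ⟨hw1, hM₀L hw2⟩
      have hw4 := (mem_normalizer_iff.mp hx _).mp hw3
      obtain ⟨hw5, hw6⟩ := hw4
      have hw5' : x * ⟨w, hM₀L hw2⟩ * x⁻¹ ∈ (D : Subgroup L) := hw5
      rw [hD, mem_subgroupOf] at hw5'
      exact ⟨hw5'.1, mem_subgroupOf.mp hw6⟩
    -- `x` is fine by the induction hypothesis
    have hUR : U ≤ U ⊔ ((P : Subgroup G) ⊓ M₀) := le_sup_left
    have hRP : U ⊔ ((P : Subgroup G) ⊓ M₀) ≤ (P : Subgroup G) := sup_le hUP inf_le_left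
    have hcard : Nat.card U < Nat.card ↥(U ⊔ ((P : Subgroup G) ⊓ M₀)) := by
      refine lt_of_le_of_ne (Nat.le_of_dvd Nat.card_pos (card_dvd_of_le hUR)) fun e2 => ?_
      have := eq_of_le_of_card_ge hUR e2.ge
      exact hcase (this ▸ le_sup_right)
    have hxU : ∀ u ∈ U, (x : G) * u * (x : G)⁻¹ ∈ U := fun u hu => (mem_normalizer_iff.mp x.2 u).mp hu
    have hconj : cj[(x : G)] (U ⊔ ((P : Subgroup G) ⊓ M₀)) ≤ (P : Subgroup G) := by
      rw [Subgroup.map_sup, sup_le_iff]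
      constructor
      · rintro _ ⟨u, hu, rfl⟩
        exact hUP (hxU u hu)
      · rintro _ ⟨w, hw, rfl⟩
        exact (hxR w hw).1
    have hxctl := hIH _ hRP hcard _ hconj
    have hxctl' : CtlR E (U : Set G) (x : G) := (ctlR_fusRel E).mono hxctl (by
      intro a ha
      exact hUR ha)
    have hmL : (m : G) ∈ M₀ := mem_subgroupOf.mp hm
    have hmctl := hM₀ctl _ hmL
    -- composition
    have hlc : lc (m : G) (U : Set G) = (U : Set G) := by
      ext y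
      constructor
      · rintro ⟨u, hu, rfl⟩
        exact (mem_normalizer_iff.mp (hM₀L hmL) u).mp hu
      · intro hy
        refine ⟨(m : G)⁻¹ * y * m, ?_, by group⟩
        have := (mem_normalizer_iff.mp (L.inv_mem (hM₀L hmL)) y).mp hy
        simpa using this
    rw [hk']
    apply (ctlR_fusRel E).trans hmctl
    rw [hlc]
    exact hxctl'

end Local

/-- **Theorem.** Let `N ⊴ G`, `P` a Sylow `p`-subgroup, `E ≥ N_G(P ∩ N)`, such that `E ∩ N` controls strong fusion in `P ∩ N`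
with respect to `N`. Then `E` controls strong fusion in `P` with respect to `G`. -/
theorem controls_of_normal_control (N : Subgroup G) [hNn : N.Normal] (P : Sylow p G) (E : Subgroup G)
    (hNE : normalizer (((P : Subgroup G) ⊓ N : Subgroup G) : Set G) ≤ E)
    (hctrl : ∀ A : Subgroup G, A ≤ (P : Subgroup G) ⊓ N → ∀ n ∈ N, cj[n] A ≤ (P : Subgroup G) ⊓ N →
      ∃ d ∈ N ⊓ E, ∃ c ∈ N ⊓ centralizer (A : Set G), n = d * c)
    (A : Subgroup G) (hA : A ≤ (P : Subgroup G)) (g : G) (hg : cj[g] A ≤ (P : Subgroup G)) :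
    ∃ h ∈ E, ∃ c ∈ centralizer (A : Set G), g = h * c := by
  have h1 := alperin_goldschmidt P (ctlR_fusRel E)
    (fun U hUP hExt _ _ hIH k hk => ctl_local N P E hNE hctrl hUP hExt hIH hk)
    _ A hA rfl g hg
  obtain ⟨h, hh, e⟩ := h1
  refine ⟨h, hh, h⁻¹ * g, mem_centralizer_iff.mpr fun a ha => ?_, by group⟩
  have h2 := e a ha
  calc a * (h⁻¹ * g) = h⁻¹ * (h * a * h⁻¹) * g := by group
    _ = h⁻¹ * (g * a * g⁻¹) * g := by rw [h2]
    _ = h⁻¹ * g * a := by group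

end Cfsg.Agent.Lib.Tech
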