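import Cfsg.Agent.Lib.Tech.CentricRad
import Cfsg.Agent.S1954
import Cfsg.Agent.Lib.Struct.Pronormal
import Cfsg.Agent.Lib.Components.Basic

/-!
# Groups in which no `N(Q)/C(Q)` has a section `SL₂(p)`: enlarging a normal `p`-subgroup
-/

set_option autoImplicit false
set_option linter.unusedSectionVars false
set_option linter.style.haveILetI false

namespace Cfsg.Agent.Lib.Tech

open Subgroup Cfsg Cfsg.Agent.Lib.LocalEven Cfsg.Agent.Lib.LocalEven2 Cfsg.Agent.Lib.Known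

universe u

variable {p : ℕ} [hp : Fact p.Prime]

theorem map_conj_eq_of_mem {X : Type*} [Group X] (V : Subgroup X) {x : X} (hx : x ∈ normalizer (V : Set X)) :
    V.map (MulAut.conj x).toMonoidHom = V := by
  ext y
  constructor
  · rintro ⟨v, hv, rfl⟩
    exact (mem_normalizer_iff.1 hx v).1 hv
  · intro hy
    refine ⟨x⁻¹ * y * x, ?_, ?_⟩
    · apply (mem_normalizer_iff.1 hx _).2
      have e : x * (x⁻¹ * y * x) * x⁻¹ = y := by group
      rw [e]
      exact hy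
    · show x * (x⁻¹ * y * x) * x⁻¹ = y
      group

theorem mem_normalizer_of_map_conj {X : Type*} [Group X] (V : Subgroup X) {x : X}
    (hx : V.map (MulAut.conj x).toMonoidHom = V) : x ∈ normalizer (V : Set X) := by
  rw [mem_normalizer_iff]
  intro v
  constructor
  · intro hv
    rw [← hx]
    exact ⟨v, hv, rfl⟩
  · intro hv
    have h1 : x * v * x⁻¹ ∈ V.map (MulAut.conj x).toMonoidHom := by
      rw [hx]
      exact hv
    obtain ⟨w, hw, hwe⟩ := h1
    have : w = v := by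
      have h2 : x * w * x⁻¹ = x * v * x⁻¹ := hwe
      exact mul_left_cancel (mul_right_cancel h2)
    rwa [← this]

/-- Enlarge a normal `p`-subgroup `Y` not containing its centralizer in the Sylow subgroup. -/
theorem normal_step (hp2 : p ≠ 2) {K : Type u} [Group K] [Finite K] (hN : NoQd p K) (Y : Subgroup K)
    [hYn : Y.Normal] (hYp : IsPGroup p Y) (P : Sylow p K)
    (hne : ¬ ((P : Subgroup K) ⊓ centralizer (Y : Set K) ≤ Y)) :
    ∃ Y' : Subgroup K, Y ≤ Y' ∧ Y ≠ Y' ∧ Y' ≤ P ∧ (P : Subgroup K) ≤ normalizer (Y' : Set K) ∧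
      ∀ U : Subgroup K, U ≤ P → SSc (normalizer (Y' : Set K)) (P : Subgroup K) U := by
  classical
  obtain ⟨C, hC⟩ : ∃ C : Subgroup K, C = centralizer (Y : Set K) := ⟨_, rfl⟩
  haveI hCn : C.Normal := by
    rw [hC]
    infer_instance
  have hYP : Y ≤ P := (Cfsg.Agent.Lib.Basic.le_pCore hYn hYp).trans (Cfsg.Agent.Lib.Basic.pCore_le_sylow P)
  obtain ⟨R, hR⟩ := Cfsg.Agent.Lib.Struct.Pronormal.sylow_inf_normal C P
  have hRmem : ∀ x : C, x ∈ (R : Subgroup C) ↔ (x : K) ∈ (P : Subgroup K) := by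
    intro x
    rw [hR, mem_subgroupOf]
  obtain ⟨Z, hZ⟩ : ∃ Z : Subgroup C, Z = Y.subgroupOf C := ⟨_, rfl⟩
  have hZmem : ∀ x : C, x ∈ Z ↔ (x : K) ∈ Y := by
    intro x
    rw [hZ, mem_subgroupOf]
  have hZc : ∀ z ∈ Z, ∀ x : C, x * z = z * x := by
    intro z hz x
    apply Subtype.ext
    have h1 : (x : K) ∈ centralizer (Y : Set K) := hC ▸ x.2
    exact (mem_centralizer_iff.1 h1 _ ((hZmem z).1 hz)).symm
  have hZR : Z ≤ R := fun z hz => (hRmem z).2 (hYP ((hZmem z).1 hz))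
  have hZne : Z ≠ R := by
    intro he
    apply hne
    rintro t ⟨ht1, ht2⟩
    have htC : t ∈ C := hC ▸ ht2
    have h1 : (⟨t, htC⟩ : C) ∈ (R : Subgroup C) := (hRmem _).2 ht1
    rw [← he] at h1
    exact (hZmem _).1 h1
  obtain ⟨V₁, hZV, hZVne, hV₁R, hRN, hctrl₁⟩ := central_step hp2 (noQd_sub C hN) Z hZc R hZR hZne
  obtain ⟨V, hV⟩ : ∃ V : Subgroup K, V = V₁.map C.subtype := ⟨_, rfl⟩
  have hVmem : ∀ v (hv : v ∈ C), v ∈ V ↔ (⟨v, hv⟩ : C) ∈ V₁ := by
    intro v hv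
    rw [hV]
    constructor
    · rintro ⟨y, hy, hyx⟩
      have : y = ⟨v, hv⟩ := Subtype.ext hyx
      rwa [← this]
    · intro h
      exact ⟨_, h, rfl⟩
  have hVC : V ≤ C := by
    rw [hV]
    exact map_subtype_le _
  have hVPC : V ≤ (P : Subgroup K) ⊓ C := by
    intro v hv
    refine ⟨?_, hVC hv⟩
    exact (hRmem _).1 (hV₁R ((hVmem v (hVC hv)).1 hv))
  have hVn : ∀ x ∈ (P : Subgroup K) ⊓ C, V.map (MulAut.conj x).toMonoidHom = V := by
    rintro x ⟨hx1, hx2⟩
    have hx3 : (⟨x, hx2⟩ : C) ∈ normalizer (V₁ : Set C) := hRN ((hRmem _).2 hx1)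
    apply map_conj_eq_of_mem
    apply Cfsg.Agent.Lib.PGroups.mem_normalizer_of_conj_le'
    intro v hv
    have hvC := hVC hv
    have h1 := (mem_normalizer_iff.1 hx3 _).1 ((hVmem v hvC).1 hv)
    exact (hVmem _ (C.mul_mem (C.mul_mem hx2 hvC) (C.inv_mem hx2))).2 h1
  have hctrl : ∀ A : Subgroup K, A ≤ (P : Subgroup K) ⊓ C → ∀ n ∈ C, A.map (MulAut.conj n).toMonoidHom ≤ (P : Subgroup K) ⊓ C →
      ∃ h ∈ C ⊓ normalizer (V : Set K), ∃ c ∈ C ⊓ centralizer (A : Set K), n = h * c := by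
    intro A hA n hn hnA
    have hAC : A ≤ C := hA.trans inf_le_right
    obtain ⟨x, hx, hxu⟩ := hctrl₁ (A.subgroupOf C) (fun a ha => (hRmem a).2 (hA (mem_subgroupOf.1 ha)).1)
      ⟨n, hn⟩ (by
        intro u hu
        rw [hRmem]
        exact (hnA ⟨u, mem_subgroupOf.1 hu, rfl⟩).1)
    have hxV : (x : K) ∈ normalizer (V : Set K) := by
      apply Cfsg.Agent.Lib.PGroups.mem_normalizer_of_conj_le'
      intro v hv
      have hvC := hVC hv
      have h1 := (mem_normalizer_iff.1 hx _).1 ((hVmem v hvC).1 hv)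
      exact (hVmem _ (C.mul_mem (C.mul_mem x.2 hvC) (C.inv_mem x.2))).2 h1
    refine ⟨x, ⟨x.2, hxV⟩, (x : K)⁻¹ * n, ⟨C.mul_mem (C.inv_mem x.2) hn, ?_⟩, by group⟩
    refine mem_centralizer_iff.2 fun a ha => ?_
    have h1 := hxu ⟨a, hAC ha⟩ (mem_subgroupOf.2 ha)
    have h2 : (x : K) * a * (x : K)⁻¹ = n * a * n⁻¹ := congrArg Subtype.val h1
    calc a * ((x : K)⁻¹ * n) = (x : K)⁻¹ * ((x : K) * a * (x : K)⁻¹) * n := by group
      _ = (x : K)⁻¹ * (n * a * n⁻¹) * n := by rw [h2]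
      _ = (x : K)⁻¹ * n * a := by group
  obtain ⟨W, hW⟩ : ∃ W : Subgroup K, W = closure (⋃ x ∈ normalizer (((P : Subgroup K) ⊓ C : Subgroup K) : Set K),
      ((V.map (MulAut.conj x).toMonoidHom : Subgroup K) : Set K)) := ⟨_, rfl⟩
  have hmain := Cfsg.Agent.S1954.result C P V hVPC hVn hctrl W hW
  have hPN : (P : Subgroup K) ≤ normalizer (((P : Subgroup K) ⊓ C : Subgroup K) : Set K) := by
    intro t ht
    apply Cfsg.Agent.Lib.PGroups.mem_normalizer_of_conj_le'
    rintro x ⟨hx1, hx2⟩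
    exact ⟨P.mul_mem (P.mul_mem ht hx1) (P.inv_mem ht), hCn.conj_mem x hx2 t⟩
  have hWP : W ≤ P := by
    rw [hW, closure_le]
    intro w hw
    simp only [Set.mem_iUnion] at hw
    obtain ⟨x, hx, v, hv, rfl⟩ := hw
    exact ((mem_normalizer_iff.1 hx v).1 (hVPC hv)).1
  have hPNW : (P : Subgroup K) ≤ normalizer (W : Set K) := by
    intro t ht
    apply Cfsg.Agent.Lib.PGroups.mem_normalizer_of_conj_le'
    have hle : W ≤ W.comap (MulAut.conj t).toMonoidHom := by
      rw [hW, closure_le, ← hW]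
      intro w hw
      simp only [Set.mem_iUnion] at hw
      obtain ⟨x, hx, v, hv, rfl⟩ := hw
      show t * _ * t⁻¹ ∈ W
      rw [hW]
      apply Subgroup.subset_closure
      simp only [Set.mem_iUnion]
      refine ⟨t * x, mul_mem (hPN ht) hx, v, hv, ?_⟩
      show (t * x) * v * (t * x)⁻¹ = t * (x * v * x⁻¹) * t⁻¹
      group
    exact fun w hw => hle hw
  have hVW : V ≤ W := by
    intro v hv
    rw [hW]
    apply Subgroup.subset_closure
    simp only [Set.mem_iUnion]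
    exact ⟨1, one_mem _, v, hv, by simp⟩
  have hYW : ∀ h ∈ normalizer (W : Set K), h ∈ normalizer ((Y ⊔ W : Subgroup K) : Set K) := by
    intro h hh
    apply Cfsg.Agent.Lib.PGroups.mem_normalizer_of_conj_le'
    have hle : Y ⊔ W ≤ (Y ⊔ W).comap (MulAut.conj h).toMonoidHom := by
      refine sup_le ?_ ?_
      · intro y hy
        exact le_sup_left (a := Y) (b := W) (hYn.conj_mem y hy h)
      · intro w hw
        exact le_sup_right (a := Y) (b := W) ((mem_normalizer_iff.1 hh w).1 hw)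
    exact fun w hw => hle hw
  refine ⟨Y ⊔ W, le_sup_left, ?_, sup_le hYP hWP, fun t ht => hYW t (hPNW ht), ?_⟩
  · intro he
    apply hZVne
    apply le_antisymm hZV
    intro v hv
    rw [hZmem]
    have h1 : (v : K) ∈ V := (hVmem v v.2).2 hv
    rw [he]
    exact le_sup_right (a := Y) (b := W) (hVW h1)
  · intro U hU g hg
    obtain ⟨h, hh, c, hc, e⟩ := hmain U hU g (by
      rintro _ ⟨u, hu, rfl⟩
      exact hg u hu)
    refine ⟨h, hYW h hh, fun u hu => ?_⟩
    have h1 := mem_centralizer_iff.1 hc u hu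
    rw [e]
    calc h * u * h⁻¹ = h * (u * c) * c⁻¹ * h⁻¹ := by group
      _ = h * (c * u) * c⁻¹ * h⁻¹ := by rw [h1]
      _ = h * c * u * (h * c)⁻¹ := by group

end Cfsg.Agent.Lib.Tech
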