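import Cfsg.Agent.Lib.Tech.CentricRad2
import Cfsg.Agent.Lib.Transfer.Basic

/-!
# Groups in which no `N(Q)/C(Q)` has a section `SL₂(p)`: the least centric-radical subgroup
-/

set_option autoImplicit false
set_option linter.unusedSectionVars false
set_option linter.style.haveILetI false

namespace Cfsg.Agent.Lib.Tech

open Subgroup Cfsg Cfsg.Agent.Lib.LocalEven Cfsg.Agent.Lib.LocalEven2 Cfsg.Agent.Lib.Known

universe u

variable {p : ℕ} [hp : Fact p.Prime]

section aux

variable {G : Type*} [Group G] [Finite G]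

/-- A `p`-subgroup of an overgroup of a Sylow subgroup can be conjugated into it. -/
theorem exists_conj_le_sylow (P : Sylow p G) (L : Subgroup G) (hPL : (P : Subgroup G) ≤ L) (T : Subgroup G)
    (hT : IsPGroup p T) (hTL : T ≤ L) : ∃ c ∈ L, ∀ y ∈ T, c * y * c⁻¹ ∈ (P : Subgroup G) := by
  have hT' : IsPGroup p (T.subgroupOf L) := hT.comap_of_injective L.subtype L.subtype_injective
  obtain ⟨Q, hQ⟩ := hT'.exists_le_sylow
  obtain ⟨c, hc⟩ := MulAction.exists_smul_eq L Q (P.subtype hPL)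
  refine ⟨c, c.2, fun y hy => ?_⟩
  have h1 : (⟨y, hTL hy⟩ : L) ∈ (Q : Subgroup L) := hQ (by
    rw [Subgroup.mem_subgroupOf]; exact hy)
  have h2 : MulAut.conj c • (⟨y, hTL hy⟩ : L) ∈ ((c • Q : Sylow p L) : Subgroup L) := by
    rw [Sylow.coe_subgroup_smul]
    exact Subgroup.smul_mem_pointwise_smul _ _ _ h1
  rw [hc, Sylow.coe_subtype, Subgroup.mem_subgroupOf] at h2
  exact h2

/-- The intersection of a Sylow subgroup with a subgroup it normalizes is Sylow there. -/
theorem sylow_inf_of_normalizes (P : Sylow p G) (A : Subgroup G) (hPA : (P : Subgroup G) ≤ normalizer (A : Set G)) :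
    ∃ R : Sylow p A, (R : Subgroup A).map A.subtype = (P : Subgroup G) ⊓ A := by
  have h0 : IsPGroup p (((P : Subgroup G) ⊓ A : Subgroup G).subgroupOf A) :=
    (P.isPGroup'.to_le inf_le_left).comap_of_injective A.subtype A.subtype_injective
  obtain ⟨R, hR⟩ := h0.exists_le_sylow
  refine ⟨R, ?_⟩
  have hle : (P : Subgroup G) ⊓ A ≤ (R : Subgroup A).map A.subtype := by
    intro x hx
    exact ⟨⟨x, hx.2⟩, hR (mem_subgroupOf.2 hx), rfl⟩
  have hRA : (R : Subgroup A).map A.subtype ≤ A := map_subtype_le _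
  have hnA : ∀ t ∈ (P : Subgroup G), ∀ a ∈ A, t * a * t⁻¹ ∈ A := fun t ht a ha =>
    (mem_normalizer_iff.1 (hPA ht) a).1 ha
  obtain ⟨s, hs, hsR⟩ := exists_conj_le_sylow P ((P : Subgroup G) ⊔ A) le_sup_left _ (R.isPGroup'.map _)
    (hRA.trans le_sup_right)
  obtain ⟨t, ht, a, ha, rfl⟩ := mem_sup_mul hnA hs
  have hcard : Nat.card ((R : Subgroup A).map A.subtype : Subgroup G) ≤ Nat.card ((P : Subgroup G) ⊓ A : Subgroup G) := by
    have hle2 : ((R : Subgroup A).map A.subtype).map (MulAut.conj a).toMonoidHom ≤ (P : Subgroup G) ⊓ A := by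
      rintro _ ⟨y, hy, rfl⟩
      refine ⟨?_, A.mul_mem (A.mul_mem ha (hRA hy)) (A.inv_mem ha)⟩
      have h1 := hsR y hy
      have h2 := P.mul_mem (P.mul_mem (P.inv_mem ht) h1) ht
      have e : t⁻¹ * (t * a * y * (t * a)⁻¹) * t = a * y * a⁻¹ := by group
      rw [e] at h2
      exact h2
    have h3 := Subgroup.card_le_of_le hle2
    rwa [← cjS, card_cjS] at h3
  exact (Subgroup.eq_of_le_of_card_ge hle hcard).symm

/-- Conjugates of centralizing elements. -/
theorem centralizer_conj_mem' (Q : Subgroup G) {n : G} (hn : n ∈ normalizer (Q : Set G)) {c : G}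
    (hc : c ∈ centralizer (Q : Set G)) : n * c * n⁻¹ ∈ centralizer (Q : Set G) := by
  refine mem_centralizer_iff.2 fun q hq => ?_
  have h1 : n⁻¹ * q * n ∈ Q := by
    have := (mem_normalizer_iff.1 (inv_mem hn) q).1 hq
    simpa using this
  have h2 := mem_centralizer_iff.1 hc _ h1
  calc q * (n * c * n⁻¹) = n * ((n⁻¹ * q * n) * c) * n⁻¹ := by group
    _ = n * (c * (n⁻¹ * q * n)) * n⁻¹ := by rw [h2]
    _ = n * c * n⁻¹ * q := by group

theorem centralizer_le_normalizer_cr (Q : Subgroup G) : centralizer (Q : Set G) ≤ normalizer (Q : Set G) := by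
  intro c hc
  apply Cfsg.Agent.Lib.PGroups.mem_normalizer_of_conj_le'
  intro q hq
  have := mem_centralizer_iff.1 hc q hq
  rw [← this, mul_inv_cancel_right]
  exact hq

/-- A central Sylow subgroup contains all `p`-elements. -/
theorem pelt_mem_of_central_sylow {C Z : Subgroup G} (hZ : ∃ R : Sylow p C, (R : Subgroup C).map C.subtype = Z)
    (hZc : ∀ z ∈ Z, ∀ c ∈ C, c * z = z * c) {a : G} (ha : a ∈ C) (hap : ∃ k : ℕ, a ^ (p ^ k) = 1) : a ∈ Z := by
  obtain ⟨R, rfl⟩ := hZ
  obtain ⟨k, hk⟩ := hap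
  have h1 : IsPGroup p (zpowers (⟨a, ha⟩ : C)) := by
    rintro ⟨_, i, rfl⟩
    refine ⟨k, Subtype.ext ?_⟩
    apply Subtype.ext
    show (a ^ i) ^ (p ^ k) = 1
    rw [← zpow_natCast, ← zpow_mul, mul_comm, zpow_mul, zpow_natCast, hk, one_zpow]
  obtain ⟨S, hS⟩ := h1.exists_le_sylow
  obtain ⟨g, hg⟩ := MulAction.exists_smul_eq C S R
  have h2 : (⟨a, ha⟩ : C) ∈ (S : Subgroup C) := hS (mem_zpowers _)
  have h3 : MulAut.conj g • (⟨a, ha⟩ : C) ∈ ((g • S : Sylow p C) : Subgroup C) := by
    rw [Sylow.coe_subgroup_smul]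
    exact Subgroup.smul_mem_pointwise_smul _ _ _ h2
  rw [hg] at h3
  have h4 : (g : G) * a * (g : G)⁻¹ ∈ (R : Subgroup C).map C.subtype := ⟨_, h3, rfl⟩
  have h5 := hZc _ h4 g g.2
  have e : a = (g : G) * a * (g : G)⁻¹ := by
    calc a = (g : G)⁻¹ * (((g : G) * a * (g : G)⁻¹) * (g : G)) := by group
      _ = (g : G)⁻¹ * ((g : G) * ((g : G) * a * (g : G)⁻¹)) := by rw [h5]
      _ = (g : G) * a * (g : G)⁻¹ := by group
  rw [e]
  exact h4

/-- A commutator with an element of order prime to `p`, lying in the centralizer and of `p`-power order, is trivial. -/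
theorem comm_eq_one_of_pprime {d b z : G} (hd : ¬ p ∣ orderOf d) (hz : z = d * b * d⁻¹ * b⁻¹)
    (hzc : Commute z d) (hzp : ∃ k : ℕ, z ^ (p ^ k) = 1) : z = 1 := by
  have hpp := hp.out
  have e1 : b * d * b⁻¹ = z⁻¹ * d := by
    rw [hz]
    group
  obtain ⟨k, hk⟩ := hzp
  have h1 : orderOf (b * d * b⁻¹) = orderOf d := by
    have := orderOf_injective (MulAut.conj b).toMonoidHom (MulAut.conj b).injective d
    rw [← this]
    rfl
  have hcop : (orderOf z⁻¹).Coprime (orderOf d) := by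
    rw [orderOf_inv]
    have h2 : orderOf z ∣ p ^ k := orderOf_dvd_of_pow_eq_one hk
    obtain ⟨j, -, hj⟩ := (Nat.dvd_prime_pow hpp).1 h2
    rw [hj]
    exact Nat.Coprime.pow_left _ ((Nat.Prime.coprime_iff_not_dvd hpp).2 hd)
  have h3 := (hzc.inv_left).orderOf_mul_eq_mul_orderOf_of_coprime hcop
  rw [← e1, h1, orderOf_inv] at h3
  have h4 : orderOf z = 1 := by
    have hpos : 0 < orderOf d := orderOf_pos d
    nlinarith [orderOf_pos z]
  exact orderOf_eq_one_iff.1 h4

end aux

section main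

variable {G : Type u} [Group G] [Finite G]

/-- The main theorem on centric-radical subgroups. -/
theorem centric_radical_main (hp2 : p ≠ 2) (P : Sylow p G)
    (hfree : ∀ Q : Subgroup G, IsPGroup p ↥Q → ¬ ∃ (H K : Subgroup G) (_ : (K.subgroupOf H).Normal),
      Subgroup.centralizer (Q : Set G) ≤ K ∧ K ≤ H ∧ H ≤ Subgroup.normalizer (Q : Set G) ∧
      Nonempty ((↥H ⧸ K.subgroupOf H) ≃* Matrix.SpecialLinearGroup (Fin 2) (ZMod p)))
    (cr : Subgroup G → Prop)
    (hcr : ∀ Q : Subgroup G, cr Q ↔ (Q ≤ (P : Subgroup G) ∧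
      (∃ R : Sylow p ↥(Subgroup.centralizer (Q : Set G)),
        (R : Subgroup ↥(Subgroup.centralizer (Q : Set G))).map (Subgroup.centralizer (Q : Set G)).subtype = Q ⊓ Subgroup.centralizer (Q : Set G)) ∧
      ∀ X : Subgroup G, X ≤ Subgroup.normalizer (Q : Set G) →
        (∀ n ∈ Subgroup.normalizer (Q : Set G), X.map (MulAut.conj n).toMonoidHom = X) →
        Q ⊔ Subgroup.centralizer (Q : Set G) ≤ X → (∃ k : ℕ, (Q ⊔ Subgroup.centralizer (Q : Set G)).relIndex X = p ^ k) →
        X = Q ⊔ Subgroup.centralizer (Q : Set G))) :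
    ∃ Q : Subgroup G, cr Q ∧ (∀ R : Subgroup G, cr R → Q ≤ R) ∧ (∀ x ∈ (P : Subgroup G), Q.map (MulAut.conj x).toMonoidHom = Q) ∧
      ∀ A : Subgroup G, A ≤ (P : Subgroup G) → ∀ g : G, A.map (MulAut.conj g).toMonoidHom ≤ (P : Subgroup G) →
        ∃ h ∈ Subgroup.normalizer (Q : Set G), ∃ c ∈ Subgroup.centralizer (A : Set G), g = h * c := by
  classical
  have hpp := hp.out
  have hN : NoQd p G := noQd_of_free hfree
  let 𝓨 : Set (Subgroup G) := {Y | Y ≤ (P : Subgroup G) ∧ (P : Subgroup G) ≤ normalizer (Y : Set G) ∧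
    ∀ U : Subgroup G, U ≤ (P : Subgroup G) → SSc (normalizer (Y : Set G)) (P : Subgroup G) U}
  have hbotN : ∀ g : G, g ∈ normalizer ((⊥ : Subgroup G) : Set G) := by
    intro g
    apply Cfsg.Agent.Lib.PGroups.mem_normalizer_of_conj_le'
    intro w hw
    rw [mem_bot] at hw ⊢
    rw [hw]
    group
  have hbot : (⊥ : Subgroup G) ∈ 𝓨 :=
    ⟨bot_le, fun t _ => hbotN t, fun U _ g _ => ⟨g, hbotN g, fun _ _ => rfl⟩⟩
  obtain ⟨Q, hQ, hmax⟩ := (Set.toFinite 𝓨).exists_maximal ⟨⊥, hbot⟩
  obtain ⟨hQP, hPN, hQc⟩ := hQ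
  -- Step 1: centric
  have hcentric : (P : Subgroup G) ⊓ centralizer (Q : Set G) ≤ Q := by
    by_contra hne
    obtain ⟨N, hNdef⟩ : ∃ N : Subgroup G, N = normalizer (Q : Set G) := ⟨_, rfl⟩
    have hPN' : (P : Subgroup G) ≤ N := hNdef ▸ hPN
    have hQN : Q ≤ N := hNdef ▸ Subgroup.le_normalizer
    let PN : Sylow p N := P.subtype hPN'
    have hPNmem : ∀ x : N, x ∈ (PN : Subgroup N) ↔ (x : G) ∈ (P : Subgroup G) := by
      intro x
      show x ∈ ((P.subtype hPN' : Sylow p N) : Subgroup N) ↔ _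
      rw [Sylow.coe_subtype, mem_subgroupOf]
    obtain ⟨YN, hYN⟩ : ∃ YN : Subgroup N, YN = Q.subgroupOf N := ⟨_, rfl⟩
    have hYNmem : ∀ x : N, x ∈ YN ↔ (x : G) ∈ Q := by
      intro x
      rw [hYN, mem_subgroupOf]
    haveI hYNn : YN.Normal := by
      constructor
      intro y hy g
      rw [hYNmem] at hy ⊢
      have hg : (g : G) ∈ normalizer (Q : Set G) := hNdef ▸ g.2
      exact (mem_normalizer_iff.1 hg _).1 hy
    have hYNp : IsPGroup p YN := by
      rw [hYN]
      exact (P.isPGroup'.to_le hQP).comap_of_injective N.subtype N.subtype_injective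
    have hne' : ¬ ((PN : Subgroup N) ⊓ centralizer (YN : Set N) ≤ YN) := by
      intro hle
      apply hne
      rintro t ⟨ht1, ht2⟩
      have h1 : (⟨t, hPN' ht1⟩ : N) ∈ YN := by
        apply hle
        refine ⟨(hPNmem _).2 ht1, mem_centralizer_iff.2 fun y hy => ?_⟩
        apply Subtype.ext
        exact mem_centralizer_iff.1 ht2 _ ((hYNmem y).1 hy)
      exact (hYNmem _).1 h1
    obtain ⟨Y', hYY', hYne, hY'P, hPY', hctl⟩ := normal_step hp2 (noQd_sub N hN) YN hYNp PN hne'
    obtain ⟨Y'', hY''⟩ : ∃ Y'' : Subgroup G, Y'' = Y'.map N.subtype := ⟨_, rfl⟩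
    have hY''mem : ∀ x (hx : x ∈ N), x ∈ Y'' ↔ (⟨x, hx⟩ : N) ∈ Y' := by
      intro x hx
      rw [hY'']
      constructor
      · rintro ⟨y, hy, hyx⟩
        have : y = ⟨x, hx⟩ := Subtype.ext hyx
        rwa [← this]
      · intro h
        exact ⟨_, h, rfl⟩
    have hY''N : Y'' ≤ N := by
      rw [hY'']
      exact map_subtype_le _
    have hnorm : ∀ x : N, x ∈ normalizer (Y' : Set N) → (x : G) ∈ normalizer (Y'' : Set G) := by
      intro x hx
      apply Cfsg.Agent.Lib.PGroups.mem_normalizer_of_conj_le'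
      intro w hw
      have hwN := hY''N hw
      have h1 := (mem_normalizer_iff.1 hx _).1 ((hY''mem w hwN).1 hw)
      exact (hY''mem _ (N.mul_mem (N.mul_mem x.2 hwN) (N.inv_mem x.2))).2 h1
    have hY''𝓨 : Y'' ∈ 𝓨 := by
      refine ⟨?_, ?_, ?_⟩
      · intro w hw
        exact (hPNmem _).1 (hY'P ((hY''mem w (hY''N hw)).1 hw))
      · intro t ht
        exact hnorm ⟨t, hPN' ht⟩ (hPY' ((hPNmem _).2 ht))
      · intro U hU g hg
        obtain ⟨x, hx, hxu⟩ := hQc U hU g hg
        have hxN : x ∈ N := hNdef ▸ hx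
        obtain ⟨x', hx', hx'u⟩ := hctl (U.subgroupOf N)
          (fun u hu => (hPNmem _).2 (hU (mem_subgroupOf.1 hu))) ⟨x, hxN⟩ (by
            intro u hu
            rw [hPNmem]
            show x * u * x⁻¹ ∈ (P : Subgroup G)
            rw [hxu u (mem_subgroupOf.1 hu)]
            exact hg u (mem_subgroupOf.1 hu))
        refine ⟨x', hnorm x' hx', fun u hu => ?_⟩
        have h1 := hx'u ⟨u, hPN' (hU hu)⟩ (mem_subgroupOf.2 hu)
        have h2 : (x' : G) * u * (x' : G)⁻¹ = x * u * x⁻¹ := congrArg Subtype.val h1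
        rw [h2, hxu u hu]
    have hQY'' : Q ≤ Y'' := by
      intro q hq
      rw [hY''mem q (hQN hq)]
      exact hYY' ((hYNmem _).2 hq)
    have h3 := hmax hY''𝓨 hQY''
    apply hYne
    apply le_antisymm hYY'
    intro y hy
    rw [hYNmem]
    apply h3
    rw [hY''mem y y.2]
    exact hy
  obtain ⟨CQ, hCQ⟩ : ∃ CQ : Subgroup G, CQ = centralizer (Q : Set G) := ⟨_, rfl⟩
  rw [← hCQ] at hcentric
  have hCQN : CQ ≤ normalizer (Q : Set G) := hCQ ▸ centralizer_le_normalizer_cr Q
  have hCQn : ∀ n ∈ normalizer (Q : Set G), ∀ c ∈ CQ, n * c * n⁻¹ ∈ CQ := by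
    intro n hn c hc
    rw [hCQ] at hc ⊢
    exact centralizer_conj_mem' Q hn hc
  have hPCQ : (P : Subgroup G) ≤ normalizer (CQ : Set G) := fun t ht =>
    Cfsg.Agent.Lib.PGroups.mem_normalizer_of_conj_le' CQ t (hCQn t (hPN ht))
  have hZcentral : ∀ z ∈ Q ⊓ CQ, ∀ c ∈ CQ, c * z = z * c := by
    rintro z ⟨hz1, -⟩ c hc
    rw [hCQ] at hc
    exact (mem_centralizer_iff.1 hc z hz1).symm
  have hSyl : ∃ R : Sylow p CQ, (R : Subgroup CQ).map CQ.subtype = Q ⊓ CQ := by
    obtain ⟨R, hR⟩ := sylow_inf_of_normalizes P CQ hPCQ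
    refine ⟨R, hR.trans ?_⟩
    exact le_antisymm (le_inf hcentric inf_le_right) (inf_le_inf_right _ hQP)
  -- Step 2: radical
  have hrad : ∀ X : Subgroup G, X ≤ normalizer (Q : Set G) →
      (∀ n ∈ normalizer (Q : Set G), X.map (MulAut.conj n).toMonoidHom = X) →
      Q ⊔ CQ ≤ X → (∃ k : ℕ, (Q ⊔ CQ).relIndex X = p ^ k) → X = Q ⊔ CQ := by
    rintro X hXN hXn hXle ⟨k, hk⟩
    have hXconj : ∀ n ∈ normalizer (Q : Set G), ∀ y ∈ X, n * y * n⁻¹ ∈ X := by
      intro n hn y hy
      rw [← hXn n hn]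
      exact ⟨y, hy, rfl⟩
    have hPNX : (P : Subgroup G) ≤ normalizer (X : Set G) := fun t ht =>
      Cfsg.Agent.Lib.PGroups.mem_normalizer_of_conj_le' X t (hXconj t (hPN ht))
    obtain ⟨R, hR⟩ := sylow_inf_of_normalizes P X hPNX
    obtain ⟨T, hT⟩ : ∃ T : Subgroup G, T = (P : Subgroup G) ⊓ X := ⟨_, rfl⟩
    rw [← hT] at hR
    have hTP : T ≤ P := hT ▸ inf_le_left
    have hTX : T ≤ X := hT ▸ inf_le_right
    have hQX : Q ≤ X := le_sup_left.trans hXle
    have hCX : CQ ≤ X := le_sup_right.trans hXle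
    have hQT : Q ≤ T := hT ▸ le_inf hQP hQX
    -- `X ≤ T ⊔ CQ`
    have hXJ : X ≤ T ⊔ CQ := by
      have hJX : T ⊔ CQ ≤ X := sup_le hTX hCX
      have h1 := Subgroup.relIndex_mul_relIndex (Q ⊔ CQ) (T ⊔ CQ) X (sup_le_sup_right hQT _) hJX
      have h2 := Subgroup.relIndex_mul_relIndex T (T ⊔ CQ) X le_sup_left hJX
      have h3 : (T ⊔ CQ).relIndex X ∣ p ^ k := by
        rw [← hk, ← h1]
        exact Dvd.intro_left _ rfl
      obtain ⟨j, -, hj⟩ := (Nat.dvd_prime_pow hpp).1 h3
      have h4 : ¬ p ∣ T.relIndex X := by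
        have e : T.subgroupOf X = (R : Subgroup X) := by
          rw [← hR]
          ext x
          rw [mem_subgroupOf]
          constructor
          · rintro ⟨y, hy, hyx⟩
            have : y = x := Subtype.ext hyx
            rwa [← this]
          · intro h
            exact ⟨x, h, rfl⟩
        rw [Subgroup.relIndex, e]
        exact R.not_dvd_index
      have hj0 : j = 0 := by
        by_contra hj0
        apply h4
        rw [← h2, hj]
        exact Dvd.dvd.mul_left (dvd_pow_self p hj0) _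
      rw [hj, hj0, pow_zero] at h2
      rw [hj0, pow_zero, Subgroup.relIndex_eq_one] at hj
      exact hj
    have hT𝓨 : T ∈ 𝓨 := by
      refine ⟨hTP, ?_, ?_⟩
      · intro t ht
        apply Cfsg.Agent.Lib.PGroups.mem_normalizer_of_conj_le'
        intro y hy
        rw [hT] at hy ⊢
        exact ⟨P.mul_mem (P.mul_mem ht hy.1) (P.inv_mem ht), (mem_normalizer_iff.1 (hPNX ht) y).1 hy.2⟩
      · intro U hU g hg
        obtain ⟨x, hx, hxu⟩ := hQc U hU g hg
        have hPCn : ∀ t ∈ (P : Subgroup G), ∀ c ∈ CQ, t * c * t⁻¹ ∈ CQ := fun t ht c hc => hCQn t (hPN ht) c hc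
        obtain ⟨A₂, hA₂⟩ : ∃ A₂ : Subgroup G, A₂ = (U ⊔ T).map (MulAut.conj x).toMonoidHom := ⟨_, rfl⟩
        have hA₂L : A₂ ≤ (P : Subgroup G) ⊔ CQ := by
          rw [hA₂, Subgroup.map_sup]
          refine sup_le ?_ ?_
          · rintro _ ⟨u, hu, rfl⟩
            apply le_sup_left (a := (P : Subgroup G)) (b := CQ)
            show x * u * x⁻¹ ∈ (P : Subgroup G)
            rw [hxu u hu]
            exact hg u hu
          · rintro _ ⟨t, ht, rfl⟩
            have h1 : x * t * x⁻¹ ∈ X := hXconj x hx t (hTX ht)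
            exact sup_le_sup_right hTP _ (hXJ h1)
        have hA₂p : IsPGroup p A₂ := by
          rw [hA₂]
          exact (P.isPGroup'.to_le (sup_le hU hTP)).map _
        obtain ⟨s, hs, hsA⟩ := exists_conj_le_sylow P _ le_sup_left A₂ hA₂p hA₂L
        obtain ⟨t, ht, d, hd, rfl⟩ := mem_sup_mul hPCn hs
        have hdA : ∀ y ∈ A₂, d * y * d⁻¹ ∈ (P : Subgroup G) := by
          intro y hy
          have h1 := P.mul_mem (P.mul_mem (P.inv_mem ht) (hsA y hy)) ht
          have e : t⁻¹ * (t * d * y * (t * d)⁻¹) * t = d * y * d⁻¹ := by group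
          rwa [e] at h1
        obtain ⟨a, b, hab, hcomm, ⟨k', hk'⟩, hb, ha, hb'⟩ := Cfsg.Agent.Lib.PGroups.exists_pPart p d
        subst hab
        have hzle : ∀ y ∈ zpowers (a * b), y ∈ CQ := fun y hy => (zpowers_le.2 hd) hy
        have haZ : a ∈ Q ⊓ CQ := pelt_mem_of_central_sylow hSyl hZcentral (hzle a ha)
          ⟨k', by rw [← hk', pow_orderOf_eq_one]⟩
        have haP : a ∈ (P : Subgroup G) := hQP haZ.1
        have hbC : b ∈ CQ := hzle b hb'
        have hbA : ∀ y ∈ A₂, b * y * b⁻¹ ∈ (P : Subgroup G) := by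
          intro y hy
          have h1 := P.mul_mem (P.mul_mem (P.inv_mem haP) (hdA y hy)) haP
          have e : a⁻¹ * (a * b * y * (a * b)⁻¹) * a = b * y * b⁻¹ := by group
          rwa [e] at h1
        have hmemA : ∀ v ∈ U ⊔ T, x * v * x⁻¹ ∈ A₂ := by
          intro v hv
          rw [hA₂]
          exact ⟨v, hv, rfl⟩
        have hbxN : b * x ∈ normalizer (Q : Set G) := mul_mem (hCQN hbC) hx
        refine ⟨b * x, ?_, ?_⟩
        · apply Cfsg.Agent.Lib.PGroups.mem_normalizer_of_conj_le'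
          intro w hw
          have h1 := hbA _ (hmemA w (le_sup_right (a := U) (b := T) hw))
          have e : b * x * w * (b * x)⁻¹ = b * (x * w * x⁻¹) * b⁻¹ := by group
          rw [e]
          rw [hT]
          refine ⟨h1, ?_⟩
          rw [← e]
          exact hXconj _ hbxN w (hTX hw)
        · intro u hu
          obtain ⟨y, hy⟩ : ∃ y : G, y = x * u * x⁻¹ := ⟨_, rfl⟩
          have hyP : y ∈ (P : Subgroup G) := by
            rw [hy, hxu u hu]
            exact hg u hu
          have hyA : y ∈ A₂ := by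
            rw [hy]
            exact hmemA u (le_sup_left (a := U) (b := T) hu)
          obtain ⟨z, hz⟩ : ∃ z : G, z = b * y * b⁻¹ * y⁻¹ := ⟨_, rfl⟩
          have hzP : z ∈ (P : Subgroup G) := by
            rw [hz]
            exact P.mul_mem (hbA y hyA) (P.inv_mem hyP)
          have hzC : z ∈ CQ := by
            have h1 : z = b * (y * b⁻¹ * y⁻¹) := by
              rw [hz]
              group
            rw [h1]
            exact CQ.mul_mem hbC (hPCn y hyP _ (CQ.inv_mem hbC))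
          have hzZ : z ∈ Q ⊓ CQ := ⟨hcentric ⟨hzP, hzC⟩, hzC⟩
          have hzp : ∃ k : ℕ, z ^ (p ^ k) = 1 := by
            obtain ⟨m, hm⟩ := P.isPGroup' ⟨z, hzP⟩
            exact ⟨m, congrArg Subtype.val hm⟩
          have hz1 : z = 1 := comm_eq_one_of_pprime hb hz (hZcentral z hzZ b hbC).symm hzp
          have hby : b * y * b⁻¹ = y := by
            rw [hz] at hz1
            exact mul_inv_eq_one.1 hz1
          have e : b * x * u * (b * x)⁻¹ = b * y * b⁻¹ := by
            rw [hy]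
            group
          rw [e, hby, hy, hxu u hu]
    have hTQ := hmax hT𝓨 hQT
    apply le_antisymm (hXJ.trans (sup_le_sup_right hTQ _)) hXle
  refine ⟨Q, ?_, ?_, ?_, ?_⟩
  · rw [hcr]
    refine ⟨hQP, ?_, ?_⟩
    · rw [← hCQ]
      exact hSyl
    · rw [← hCQ]
      exact hrad
  · -- Step 3: least
    intro R hR
    obtain ⟨hRP, hRS, hRrad⟩ := (hcr R).1 hR
    by_contra hnot
    obtain ⟨CR, hCR⟩ : ∃ CR : Subgroup G, CR = centralizer (R : Set G) := ⟨_, rfl⟩
    rw [← hCR] at hRS hRrad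
    have hCRN : CR ≤ normalizer (R : Set G) := hCR ▸ centralizer_le_normalizer_cr R
    have hCRn : ∀ n ∈ normalizer (R : Set G), ∀ c ∈ CR, n * c * n⁻¹ ∈ CR := by
      intro n hn c hc
      rw [hCR] at hc ⊢
      exact centralizer_conj_mem' R hn hc
    -- an element of `Q`
    obtain ⟨q, hqQ, hqN, hqR⟩ : ∃ q ∈ Q, q ∈ normalizer (R : Set G) ∧ q ∉ R := by
      have hQRP : Q ⊔ R ≤ (P : Subgroup G) := sup_le hQP hRP
      have hne : R ≠ Q ⊔ R := by
        intro he
        apply hnot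
        rw [he]
        exact le_sup_left
      obtain ⟨t, htP, htN, htV⟩ := Cfsg.Agent.Lib.Transfer.exists_mem_normalizer_of_ne (Q ⊔ R) R
        (P.isPGroup'.to_le hQRP) le_sup_right hne
      rw [sup_comm] at htP
      obtain ⟨r, hr, q, hq, rfl⟩ := mem_sup_mul (fun r hr q hq => (mem_normalizer_iff.1 (hPN (hRP hr)) q).1 hq) htP
      refine ⟨q, hq, ?_, ?_⟩
      · have h1 : q = r⁻¹ * (r * q) := by group
        rw [h1]
        exact mul_mem (inv_mem (Subgroup.le_normalizer hr)) htN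
      · intro hqR
        exact htV (R.mul_mem hr hqR)
    obtain ⟨S, hS⟩ : ∃ S : Subgroup G, S = Q ⊓ normalizer (R : Set G) := ⟨_, rfl⟩
    have hSN : S ≤ normalizer (R : Set G) := hS ▸ inf_le_right
    have hSp : IsPGroup p S := P.isPGroup'.to_le ((hS ▸ inf_le_left : S ≤ Q).trans hQP)
    obtain ⟨Y, hY⟩ : ∃ Y : Subgroup G, Y = R ⊔ CR := ⟨_, rfl⟩
    rw [← hY] at hRrad
    have hYN : Y ≤ normalizer (R : Set G) := hY ▸ sup_le Subgroup.le_normalizer hCRN
    have hYconj : ∀ n ∈ normalizer (R : Set G), ∀ y ∈ Y, n * y * n⁻¹ ∈ Y := by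
      intro n hn y hy
      have hle : Y ≤ Y.comap (MulAut.conj n).toMonoidHom := by
        conv_lhs => rw [hY]
        refine sup_le ?_ ?_
        · intro r hr
          show n * r * n⁻¹ ∈ Y
          rw [hY]
          exact le_sup_left (a := R) (b := CR) ((mem_normalizer_iff.1 hn r).1 hr)
        · intro c hc
          show n * c * n⁻¹ ∈ Y
          rw [hY]
          exact le_sup_right (a := R) (b := CR) (hCRn n hn c hc)
      exact hle hy
    obtain ⟨X, hX⟩ : ∃ X : Subgroup G, X = S ⊔ Y := ⟨_, rfl⟩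
    have hXN : X ≤ normalizer (R : Set G) := hX ▸ sup_le hSN hYN
    have hYX : Y ≤ X := hX ▸ le_sup_right
    have hSX : S ≤ X := hX ▸ le_sup_left
    have hXeq : X = Y := by
      apply hRrad X hXN ?_ hYX ?_
      · intro n hn
        apply map_conj_eq_of_mem
        obtain ⟨h, hh, hhu⟩ := hQc R hRP n (fun u hu => hRP ((mem_normalizer_iff.1 hn u).1 hu))
        have hcC : h⁻¹ * n ∈ CR := by
          rw [hCR]
          refine mem_centralizer_iff.2 fun r hr => ?_
          have h1 := hhu r hr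
          calc r * (h⁻¹ * n) = h⁻¹ * (h * r * h⁻¹) * n := by group
            _ = h⁻¹ * (n * r * n⁻¹) * n := by rw [h1]
            _ = h⁻¹ * n * r := by group
        have hhNR : h ∈ normalizer (R : Set G) := by
          have e : h = n * (h⁻¹ * n)⁻¹ := by group
          rw [e]
          exact mul_mem hn (inv_mem (hCRN hcC))
        have hhX : h ∈ normalizer (X : Set G) := by
          apply Cfsg.Agent.Lib.PGroups.mem_normalizer_of_conj_le'
          have hle : X ≤ X.comap (MulAut.conj h).toMonoidHom := by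
            conv_lhs => rw [hX]
            refine sup_le ?_ ?_
            · rintro s hs
              apply hSX
              show h * s * h⁻¹ ∈ S
              rw [hS] at hs ⊢
              exact ⟨(mem_normalizer_iff.1 hh s).1 hs.1, by
                apply Cfsg.Agent.Lib.PGroups.mem_normalizer_of_conj_le'
                intro r hr
                have h2 : (h * s * h⁻¹) * r * (h * s * h⁻¹)⁻¹ = h * (s * (h⁻¹ * r * h) * s⁻¹) * h⁻¹ := by group
                rw [h2]
                have h3 : h⁻¹ * r * h ∈ R := by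
                  have := (mem_normalizer_iff.1 (inv_mem hhNR) r).1 hr
                  simpa using this
                exact (mem_normalizer_iff.1 hhNR _).1 ((mem_normalizer_iff.1 hs.2 _).1 h3)⟩
            · intro y hy
              exact hYX (hYconj h hhNR y hy)
          exact fun w hw => hle hw
        have e : n = h * (h⁻¹ * n) := by group
        rw [e]
        exact mul_mem hhX (Subgroup.le_normalizer (hYX (hY ▸ le_sup_right (a := R) (b := CR) hcC)))
      · -- the index is a power of `p`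
        have hXmem : ∀ w : X, ∃ s ∈ S, ∃ y ∈ Y, (w : G) = s * y := by
          intro w
          have hle : X ≤ S ⊔ Y := hX.le
          exact mem_sup_mul (fun s hs y hy => hYconj s (hSN hs) y hy) (hle w.2)
        haveI hYXn : (Y.subgroupOf X).Normal := by
          constructor
          intro y hy g
          rw [mem_subgroupOf] at hy ⊢
          exact hYconj _ (hXN g.2) _ hy
        have hq : IsPGroup p (X ⧸ Y.subgroupOf X) := by
          intro w
          obtain ⟨w, rfl⟩ := QuotientGroup.mk'_surjective _ w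
          obtain ⟨s, hs, y, hy, hw⟩ := hXmem w
          obtain ⟨m, hm⟩ := hSp ⟨s, hs⟩
          have hsm : s ^ (p ^ m) = 1 := congrArg Subtype.val hm
          refine ⟨m, ?_⟩
          have hsX : s ∈ X := hSX hs
          have h1 : QuotientGroup.mk' (Y.subgroupOf X) w = QuotientGroup.mk' (Y.subgroupOf X) ⟨s, hsX⟩ := by
            symm
            apply QuotientGroup.eq.2
            rw [mem_subgroupOf]
            show s⁻¹ * (w : G) ∈ Y
            rw [hw, inv_mul_cancel_left]
            exact hy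
          show (QuotientGroup.mk' (Y.subgroupOf X) w) ^ (p ^ m) = 1
          rw [h1, ← map_pow]
          have h2 : (⟨s, hsX⟩ : X) ^ (p ^ m) = 1 := Subtype.ext hsm
          rw [h2, map_one]
        obtain ⟨n, hn⟩ := IsPGroup.iff_card.1 hq
        refine ⟨n, ?_⟩
        rw [Subgroup.relIndex, Subgroup.index_eq_card, hn]
    have hqY : q ∈ Y := by
      rw [← hXeq]
      apply hSX
      rw [hS]
      exact ⟨hqQ, hqN⟩
    rw [hY] at hqY
    obtain ⟨r, hr, c, hc, hrc⟩ := mem_sup_mul (fun r hr c hc => hCRn r (Subgroup.le_normalizer hr) c hc) hqY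
    have hrcC : Commute r c := by
      rw [hCR] at hc
      exact (mem_centralizer_iff.1 hc r hr)
    have hcp : ∃ k : ℕ, c ^ (p ^ k) = 1 := by
      obtain ⟨m, hm⟩ := P.isPGroup' ⟨q, hQP hqQ⟩
      have hqm : q ^ (p ^ m) = 1 := congrArg Subtype.val hm
      obtain ⟨m', hm'⟩ := P.isPGroup' ⟨r, hRP hr⟩
      have hrm : r ^ (p ^ m') = 1 := congrArg Subtype.val hm'
      refine ⟨m + m', ?_⟩
      have e : c = r⁻¹ * q := by
        rw [hrc]
        group
      have hc2 : Commute r⁻¹ q := by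
        rw [hrc]
        exact (Commute.refl r).inv_left.mul_right hrcC.inv_left
      rw [e, hc2.mul_pow, inv_pow, pow_add, pow_mul q, hqm, one_pow, mul_one, mul_comm, pow_mul r, hrm, one_pow, inv_one]
    have hcZ : c ∈ R ⊓ CR := by
      refine pelt_mem_of_central_sylow hRS ?_ hc hcp
      rintro z ⟨hz1, -⟩ c' hc'
      rw [hCR] at hc'
      exact (mem_centralizer_iff.1 hc' z hz1).symm
    apply hqR
    rw [hrc]
    exact R.mul_mem hr hcZ.1
  · intro x hx
    exact map_conj_eq_of_mem Q (hPN hx)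
  · intro A hA g hgA
    obtain ⟨x, hx, hxu⟩ := hQc A hA g (fun u hu => hgA ⟨u, hu, rfl⟩)
    refine ⟨x, hx, x⁻¹ * g, ?_, by group⟩
    refine mem_centralizer_iff.2 fun a ha => ?_
    have h1 := hxu a ha
    calc a * (x⁻¹ * g) = x⁻¹ * (x * a * x⁻¹) * g := by group
      _ = x⁻¹ * (g * a * g⁻¹) * g := by rw [h1]
      _ = x⁻¹ * g * a := by group

end main

end Cfsg.Agent.Lib.Tech
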