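import Cfsg.Agent.Lib.Transfer.Critical
import Cfsg.Agent.Lib.OddLocal.PGroup
import Cfsg.Agent.Lib.PGroups.Parts
import Cfsg.Prelude.Def_KGroupFacts
import Cfsg.Prelude.Def_Transfer

/-!
# A small subgroup detecting `p'`-automorphisms
-/

set_option autoImplicit false

namespace Cfsg.Agent.Lib.Tech

open Subgroup
open scoped commutatorElement

theorem crit_aut_main {P : Type*} [Group P] [Finite P] {p : ℕ} [hpp : Fact p.Prime] (hP : IsPGroup p P)
    (G : Subgroup (MulAut P)) (hG : Cfsg.Inn P ≤ G) :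
    ∃ D : Subgroup P,
      (∀ α ∈ G, D.map α.toMonoidHom = D) ∧
      D ≤ Subgroup.closure {y : P | ∃ α ∈ Cfsg.pResidual p ↥G, ∃ x : P, y = x⁻¹ * (α : MulAut P) x} ∧
      (∀ d ∈ D, d ^ p = 1 ∨ (p = 2 ∧ d ^ 4 = 1)) ∧
      ⁅D, (⊤ : Subgroup P)⁆ ≤ D ⊓ Subgroup.centralizer (D : Set P) ∧
      (∀ α ∈ G, (orderOf α).Coprime p → (∀ d ∈ D, α d = d) → α = 1) ∧
      ∀ A : Subgroup P, A ≤ D → IsMulCommutative ↥A →
        (∀ B : Subgroup P, A ≤ B → B ≤ D → IsMulCommutative ↥B → B = A) →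
        A.Normal ∧ ∀ α ∈ G, (∀ a ∈ A, α a = a) → ∃ k : ℕ, orderOf α = p ^ k := by
  classical
  obtain ⟨C, hCc, hCΦ, hC2, hC3⟩ := Cfsg.Agent.Lib.Transfer.exists_critical hP
  obtain ⟨e, he0, hpe, hch, hee⟩ : ∃ e : ℕ, e ≠ 0 ∧ p ∣ e ∧ p ∣ e.choose 2 ∧
      (∀ d : P, d ^ e = 1 → d ^ p = 1 ∨ (p = 2 ∧ d ^ 4 = 1)) := by
    by_cases h2 : p = 2
    · subst h2
      exact ⟨4, by norm_num, by norm_num, by decide, fun d hd => Or.inr ⟨rfl, hd⟩⟩
    · exact ⟨p, hpp.out.ne_zero, dvd_rfl,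
        Cfsg.Agent.Lib.Transfer.dvd_choose_two_of_odd (hpp.out.odd_of_ne_two h2), fun d hd => Or.inl hd⟩
  have hcent : ∀ x ∈ C, ∀ g : P, ⁅x, g⁆ ∈ centralizer (C : Set P) := fun x hx g =>
    (mem_inf.1 (hC2 (Subgroup.commutator_mem_commutator hx (mem_top g)))).2
  have hpowc : ∀ x ∈ C, x ^ p ∈ centralizer (C : Set P) := by
    intro x hx
    have h1 := Cfsg.Agent.Lib.Transfer.pow_mem_frattini (hP.to_subgroup C) (⟨x, hx⟩ : C)
    exact hCΦ ⟨_, h1, rfl⟩
  have hcp : ∀ x ∈ C, ∀ y ∈ C, ⁅x, y⁆ ^ p = 1 := by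
    intro x hx y hy
    have h1 : y * ⁅x, y⁆ = ⁅x, y⁆ * y := mem_centralizer_iff.1 (hcent x hx y) y hy
    have h2 : x * y ^ p = y ^ p * x := mem_centralizer_iff.1 (hpowc y hy) x hx
    have h3 : x * y * x⁻¹ = ⁅x, y⁆ * y := by
      rw [commutatorElement_def]; group
    have h4 : (x * y * x⁻¹) ^ p = y ^ p := by
      rw [conj_pow, h2]; group
    rw [h3, (show Commute ⁅x, y⁆ y from h1.symm).mul_pow] at h4
    exact mul_eq_right.1 h4
  have hmulpow : ∀ x ∈ C, ∀ y ∈ C, (x * y) ^ e = x ^ e * y ^ e := by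
    intro x hx y hy
    have h1 := Cfsg.Agent.Lib.OddLocal.mul_pow_of_central_commutator y x ⁅y, x⁆
      (by rw [commutatorElement_def]; group)
      (mem_centralizer_iff.1 (hcent y hy x) y hy).symm
      (mem_centralizer_iff.1 (hcent y hy x) x hx).symm e
    obtain ⟨r, hr⟩ := hch
    rw [h1, hr, pow_mul, hcp y hy x hx, one_pow, mul_one]
  -- `O^p(G)` and its invariance
  let O : Subgroup ↥G := Cfsg.pResidual p ↥G
  have hOn : ∀ β : ↥G, ∀ α ∈ O, β * α * β⁻¹ ∈ O := by
    intro β α hα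
    have hle : O ≤ O.comap (MulAut.conj β).toMonoidHom := by
      refine (closure_le _).2 ?_
      intro g hg
      refine subset_closure ?_
      have h1 : orderOf ((MulAut.conj β).toMonoidHom g) = orderOf g :=
        orderOf_injective _ (MulEquiv.injective _) g
      show (orderOf _).Coprime p
      rw [h1]
      exact hg
    exact hle hα
  -- `C₀`
  let S₀ : Set P := {y : P | ∃ α ∈ O, ∃ x ∈ C, y = x⁻¹ * (α : MulAut P) x}
  let C₀ : Subgroup P := closure S₀
  have hC₀C : C₀ ≤ C := by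
    refine (closure_le _).2 ?_
    rintro _ ⟨α, -, x, hx, rfl⟩
    exact mul_mem (inv_mem hx) (Cfsg.Agent.Lib.Transfer.map_mem_of_char hCc _ hx)
  have hC₀big : C₀ ≤ closure {y : P | ∃ α ∈ Cfsg.pResidual p ↥G, ∃ x : P, y = x⁻¹ * (α : MulAut P) x} := by
    refine closure_mono ?_
    rintro _ ⟨α, hα, x, -, rfl⟩
    exact ⟨α, hα, x, rfl⟩
  have hC₀inv : ∀ β ∈ G, ∀ x ∈ C₀, β x ∈ C₀ := by
    intro β hβ
    have hle : C₀ ≤ C₀.comap β.toMonoidHom := by
      refine (closure_le _).2 ?_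
      rintro _ ⟨α, hα, x, hx, rfl⟩
      refine subset_closure ?_
      refine ⟨(⟨β, hβ⟩ : ↥G) * α * (⟨β, hβ⟩ : ↥G)⁻¹, hOn _ _ hα, β x,
        Cfsg.Agent.Lib.Transfer.map_mem_of_char hCc _ hx, ?_⟩
      simp [MulAut.mul_apply]
    exact fun x hx => hle hx
  -- `D`
  let D : Subgroup P :=
    { carrier := {d | d ∈ C₀ ∧ d ^ e = 1}
      mul_mem' := by
        rintro a b ⟨ha, ha'⟩ ⟨hb, hb'⟩
        refine ⟨mul_mem ha hb, ?_⟩
        rw [hmulpow a (hC₀C ha) b (hC₀C hb), ha', hb', one_mul]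
      one_mem' := ⟨one_mem _, one_pow _⟩
      inv_mem' := by
        rintro a ⟨ha, ha'⟩
        exact ⟨inv_mem ha, by rw [inv_pow, ha', inv_one]⟩ }
  have hDmem : ∀ d, d ∈ D ↔ d ∈ C₀ ∧ d ^ e = 1 := fun d => Iff.rfl
  have hDC₀ : D ≤ C₀ := fun d hd => ((hDmem d).1 hd).1
  have hDC : D ≤ C := hDC₀.trans hC₀C
  have hDinv : ∀ β ∈ G, ∀ x ∈ D, β x ∈ D := by
    intro β hβ x hx
    obtain ⟨h1, h2⟩ := (hDmem x).1 hx
    exact (hDmem _).2 ⟨hC₀inv β hβ x h1, by rw [← map_pow, h2, map_one]⟩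
  have hDconj : ∀ d ∈ D, ∀ g : P, g * d * g⁻¹ ∈ D := by
    intro d hd g
    have h1 : MulAut.conj g ∈ G := hG ⟨g, rfl⟩
    have h2 := hDinv _ h1 d hd
    simpa [MulAut.conj_apply] using h2
  have hDcen : ∀ d ∈ D, ∀ g : P, ⁅d, g⁆ ∈ D ⊓ centralizer (D : Set P) := by
    intro d hd g
    refine mem_inf.2 ⟨?_, ?_⟩
    · rw [commutatorElement_def, mul_assoc, mul_assoc, ← mul_assoc g]
      exact mul_mem hd (hDconj _ (inv_mem hd) g)
    · exact centralizer_le (show (D : Set P) ⊆ C from hDC) (hcent d (hDC hd) g)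
  have hfaith : ∀ α ∈ G, (orderOf α).Coprime p → (∀ d ∈ D, α d = d) → α = 1 := by
    intro α hαG hα hfix
    have hαO : (⟨α, hαG⟩ : ↥G) ∈ O := by
      refine subset_closure ?_
      show (orderOf _).Coprime p
      rwa [Subgroup.orderOf_mk]
    -- `α` fixes `C₀`
    have hstep : ∀ k : ℕ, ∀ x ∈ C₀, x ^ (e ^ k) = 1 → α x = x := by
      intro k
      induction k with
      | zero =>
        intro x _ hx
        have : x = 1 := by simpa using hx
        rw [this, map_one]
      | succ k ih =>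
        intro x hx hxk
        have h1 : α (x ^ e) = x ^ e := by
          refine ih _ (pow_mem hx e) ?_
          rw [← pow_mul, ← pow_succ']
          exact hxk
        have hw : x⁻¹ * α x ∈ D := by
          refine (hDmem _).2 ⟨mul_mem (inv_mem hx) (hC₀inv α hαG x hx), ?_⟩
          rw [hmulpow _ (inv_mem (hC₀C hx)) _ (hC₀C (hC₀inv α hαG x hx)), ← map_pow, h1, inv_pow,
            inv_mul_cancel]
        have h2 := hfix _ hw
        have h3 := Cfsg.Agent.Lib.Transfer.eq_one_of_coprime_aut hP α hα (g := x) (w := x⁻¹ * α x)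
          (by group) h2
        rw [inv_mul_eq_one] at h3
        exact h3.symm
    have hC₀fix : ∀ x ∈ C₀, α x = x := by
      intro x hx
      obtain ⟨k, hk⟩ := hP x
      refine hstep k x hx ?_
      obtain ⟨r, hr⟩ := hpe
      rw [hr, mul_pow, pow_mul, hk, one_pow]
    have hCfix : ∀ x ∈ C, α x = x := by
      intro x hx
      have hw : x⁻¹ * α x ∈ C₀ := subset_closure ⟨⟨α, hαG⟩, hαO, x, hx, rfl⟩
      have h3 := Cfsg.Agent.Lib.Transfer.eq_one_of_coprime_aut hP α hα (g := x) (w := x⁻¹ * α x)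
        (by group) (hC₀fix _ hw)
      rw [inv_mul_eq_one] at h3
      exact h3.symm
    exact Cfsg.Agent.Lib.Transfer.eq_one_of_fix_critical hP C hC2 hC3 α hα hCfix
  refine ⟨D, ?_, hDC₀.trans hC₀big, ?_, ?_, hfaith, ?_⟩
  · intro α hα
    refine le_antisymm ?_ ?_
    · rintro _ ⟨x, hx, rfl⟩
      exact hDinv α hα x hx
    · intro x hx
      refine ⟨α⁻¹ x, hDinv _ (G.inv_mem hα) x hx, ?_⟩
      simp
  · intro d hd
    exact hee d ((hDmem d).1 hd).2
  · rw [Subgroup.commutator_le]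
    intro d hd g _
    exact hDcen d hd g
  · intro A hAD hAc hAmax
    have hAcomm : ∀ a ∈ A, ∀ b ∈ A, a * b = b * a := by
      intro a ha b hb
      have := isMulCommutative_iff.mp hAc (⟨a, ha⟩ : A) ⟨b, hb⟩
      exact congrArg Subtype.val this
    -- everything in `D` centralizing `A` lies in `A`
    have hmaxl : ∀ w ∈ D, (∀ a ∈ A, a * w = w * a) → w ∈ A := by
      intro w hwD hwA
      let B : Subgroup P := closure ((A : Set P) ∪ {w})
      have hAB : A ≤ B := by
        intro a ha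
        exact subset_closure (Or.inl ha)
      have hBD : B ≤ D := by
        refine (closure_le _).2 ?_
        rintro x (hx | hx)
        · exact hAD hx
        · rw [Set.mem_singleton_iff.1 hx]; exact hwD
      have hBc : IsMulCommutative ↥B := by
        refine Subgroup.isMulCommutative_closure ?_
        rintro x (hx | hx) y (hy | hy)
        · exact hAcomm x hx y hy
        · rw [Set.mem_singleton_iff.1 hy]; exact hwA x hx
        · rw [Set.mem_singleton_iff.1 hx]; exact (hwA y hy).symm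
        · rw [Set.mem_singleton_iff.1 hx, Set.mem_singleton_iff.1 hy]
      rw [← hAmax B hAB hBD hBc]
      exact subset_closure (Or.inr rfl)
    -- the central commutators lie in `A`
    have hcomA : ∀ d ∈ D, ∀ g : P, ⁅d, g⁆ ∈ A := by
      intro d hd g
      obtain ⟨h1, h2⟩ := mem_inf.1 (hDcen d hd g)
      refine hmaxl _ h1 ?_
      intro a ha
      exact mem_centralizer_iff.1 h2 a (hAD ha)
    refine ⟨⟨?_⟩, ?_⟩
    · intro a ha g
      have h1 := hcomA a (hAD ha) g
      have h2 : g * a * g⁻¹ = ⁅a, g⁆⁻¹ * a := by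
        rw [commutatorElement_def]; group
      rw [h2]
      exact mul_mem (inv_mem h1) ha
    · intro α hαG hαA
      obtain ⟨a, b, hab, -, ⟨k, hk⟩, hb, -, hbz⟩ := Cfsg.Agent.Lib.PGroups.exists_pPart p α
      -- the `p'`-part fixes `A`
      let F : Subgroup (MulAut P) :=
        { carrier := {γ | γ ∈ G ∧ ∀ x ∈ A, γ x = x}
          mul_mem' := by
            rintro γ δ ⟨h1, h2⟩ ⟨h3, h4⟩
            refine ⟨mul_mem h1 h3, fun x hx => ?_⟩
            rw [MulAut.mul_apply, h4 x hx, h2 x hx]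
          one_mem' := ⟨one_mem _, fun x _ => rfl⟩
          inv_mem' := by
            rintro γ ⟨h1, h2⟩
            refine ⟨inv_mem h1, fun x hx => ?_⟩
            have := h2 x hx
            nth_rewrite 1 [← this]
            simp }
      have hαF : α ∈ F := ⟨hαG, hαA⟩
      have hbF : b ∈ F := (zpowers_le.2 hαF) hbz
      obtain ⟨hbG, hbA⟩ := hbF
      have hbcop : (orderOf b).Coprime p := (Nat.Prime.coprime_iff_not_dvd hpp.out).2 hb |>.symm
      have hbD : ∀ x ∈ D, b x = x := by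
        intro x hx
        have hbx : b x ∈ D := hDinv b hbG x hx
        have hw : x⁻¹ * b x ∈ A := by
          refine hmaxl _ (mul_mem (inv_mem hx) hbx) ?_
          intro u hu
          -- `x u x⁻¹ = c u` with `c ∈ A`
          have hc := hcomA x hx u
          have h1 : x * u * x⁻¹ = ⁅x, u⁆ * u := by
            rw [commutatorElement_def]; group
          have h2 : b (x * u * x⁻¹) = x * u * x⁻¹ := by
            rw [h1, map_mul, hbA _ hc, hbA _ hu]
          have h3 : b x * u * (b x)⁻¹ = x * u * x⁻¹ := by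
            rw [← h2]
            simp [map_mul, hbA _ hu]
          calc u * (x⁻¹ * b x) = x⁻¹ * (x * u * x⁻¹) * b x := by group
            _ = x⁻¹ * (b x * u * (b x)⁻¹) * b x := by rw [h3]
            _ = _ := by group
        have h3 := Cfsg.Agent.Lib.Transfer.eq_one_of_coprime_aut hP b hbcop (g := x) (w := x⁻¹ * b x)
          (by group) (hbA _ hw)
        rw [inv_mul_eq_one] at h3
        exact h3.symm
      have hb1 : b = 1 := hfaith b hbG hbcop hbD
      refine ⟨k, ?_⟩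
      rw [hab, hb1, mul_one, hk]

end Cfsg.Agent.Lib.Tech
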