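import Mathlib
import Cfsg.Agent.Lib.Components.Layer
import Cfsg.Agent.Lib.Components.Quasi
import Cfsg.Agent.Lib.Components.Basic
import Cfsg.Agent.Lib.Coprime.Conj

/-!
# The diagonal of a pair of components swapped by an involution is maximal modulo the centre.
-/

set_option autoImplicit false
set_option linter.unusedSectionVars false
set_option linter.style.haveILetI false

namespace Cfsg.Agent.Lib.Tech

open Cfsg Subgroup Cfsg.Agent.Lib.Components

/-- **A diagonal of two swapped components is maximal modulo the centre.** -/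
theorem diag_generation {H : Type*} [Group H] [Finite H] (a : H) (L : Subgroup H) (hL : Cfsg.IsComponent L)
    (hLa : L.map (MulAut.conj a).toMonoidHom ≠ L) (x : H) (hxM : x ∈ L ⊔ L.map (MulAut.conj a).toMonoidHom)
    (hxJ : x ∉ Subgroup.closure {y : H | ∃ l ∈ L, y = l * (a * l * a⁻¹)} ⊔
      ((L ⊔ L.map (MulAut.conj a).toMonoidHom) ⊓ Subgroup.centralizer ((L ⊔ L.map (MulAut.conj a).toMonoidHom : Subgroup H) : Set H))) :
    Subgroup.closure {y : H | ∃ l ∈ L, y = l * (a * l * a⁻¹)} ⊔ Subgroup.zpowers x = L ⊔ L.map (MulAut.conj a).toMonoidHom := by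
  classical
  set L₂ : Subgroup H := L.map (MulAut.conj a).toMonoidHom with hL₂
  set M : Subgroup H := L ⊔ L₂ with hM
  set J : Subgroup H := Subgroup.closure {y : H | ∃ l ∈ L, y = l * (a * l * a⁻¹)} with hJ
  have hcomm : ∀ v ∈ L, ∀ w ∈ L₂, v * w = w * v :=
    component_commutes hL (component_conj hL a) (Ne.symm hLa)
  have hφ : ∀ l ∈ L, a * l * a⁻¹ ∈ L₂ := fun l hl => ⟨l, hl, rfl⟩
  have hgen : ∀ l ∈ L, l * (a * l * a⁻¹) ∈ J := fun l hl => Subgroup.subset_closure ⟨l, hl, rfl⟩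
  have hJM : J ≤ M := by
    rw [hJ, Subgroup.closure_le]
    rintro _ ⟨l, hl, rfl⟩
    exact Subgroup.mul_mem _ (Subgroup.mem_sup_left hl) (Subgroup.mem_sup_right (hφ l hl))
  apply le_antisymm
  · exact sup_le hJM ((Subgroup.zpowers_le).2 hxM)
  set K : Subgroup H := J ⊔ Subgroup.zpowers x with hK
  have hJK : J ≤ K := le_sup_left
  have hxK : x ∈ K := Subgroup.mem_sup_right (Subgroup.mem_zpowers x)
  have hL₂N : L₂ ≤ normalizer (L : Set H) := by
    intro w hw
    apply Cfsg.Agent.Lib.Coprime.mem_normalizer_of_conj_le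
    intro v hv
    have e : w * v * w⁻¹ = v := by
      rw [← hcomm v hv w hw]
      group
    rwa [e]
  obtain ⟨l₁, hl₁, l₂, hl₂, rfl⟩ := exists_mul_of_mem_sup_of_le_normalizer hL₂N hxM
  obtain ⟨m, hm, hme⟩ := hl₂
  have hme' : l₂ = a * m * a⁻¹ := hme.symm
  subst hme'
  have hminv : m⁻¹ ∈ L := L.inv_mem hm
  set u : H := l₁ * m⁻¹ with hu
  have huL : u ∈ L := L.mul_mem hl₁ hminv
  have hj : m⁻¹ * (a * m⁻¹ * a⁻¹) ∈ J := hgen _ hminv
  have hxj : (l₁ * (a * m * a⁻¹)) * (m⁻¹ * (a * m⁻¹ * a⁻¹)) = u := by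
    have h1 : (a * m * a⁻¹) * m⁻¹ = m⁻¹ * (a * m * a⁻¹) := (hcomm m⁻¹ hminv _ (hφ m hm)).symm
    calc (l₁ * (a * m * a⁻¹)) * (m⁻¹ * (a * m⁻¹ * a⁻¹))
        = l₁ * ((a * m * a⁻¹) * m⁻¹) * (a * m⁻¹ * a⁻¹) := by group
      _ = l₁ * (m⁻¹ * (a * m * a⁻¹)) * (a * m⁻¹ * a⁻¹) := by rw [h1]
      _ = u := by
        rw [hu]
        group
  have huK : u ∈ K := by
    rw [← hxj]
    exact K.mul_mem hxK (hJK hj)
  have huC : u ∉ centralizer (L : Set H) := by
    intro hc
    apply hxJ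
    have h1 : u ∈ M ⊓ centralizer (M : Set H) := by
      refine Subgroup.mem_inf.2 ⟨Subgroup.mem_sup_left huL, ?_⟩
      have h2 : M ≤ centralizer ({u} : Set H) := by
        refine sup_le ?_ ?_
        · intro v hv
          rw [Subgroup.mem_centralizer_iff]
          rintro _ rfl
          exact (Subgroup.mem_centralizer_iff.1 hc v hv).symm
        · intro w hw
          rw [Subgroup.mem_centralizer_iff]
          rintro _ rfl
          exact hcomm u huL w hw
      rw [Subgroup.mem_centralizer_iff]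
      intro v hv
      exact (Subgroup.mem_centralizer_iff.1 (h2 hv) u rfl).symm
    have h3 : l₁ * (a * m * a⁻¹) = u * (m⁻¹ * (a * m⁻¹ * a⁻¹))⁻¹ := by
      rw [← hxj]
      group
    rw [h3, sup_comm]
    exact Subgroup.mul_mem _ (Subgroup.mem_sup_left h1) (Subgroup.mem_sup_right (J.inv_mem hj))
  have hN : ((K ⊓ L).subgroupOf L).Normal := by
    constructor
    rintro ⟨w, hw⟩ hwK ⟨l, hl⟩
    rw [Subgroup.mem_subgroupOf] at hwK ⊢
    obtain ⟨h1, h2⟩ := Subgroup.mem_inf.1 hwK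
    refine Subgroup.mem_inf.2 ⟨?_, L.mul_mem (L.mul_mem hl h2) (L.inv_mem hl)⟩
    have h3 : (a * l * a⁻¹) * w = w * (a * l * a⁻¹) := (hcomm w hw _ (hφ l hl)).symm
    have e : l * w * l⁻¹ = (l * (a * l * a⁻¹)) * w * (l * (a * l * a⁻¹))⁻¹ := by
      calc l * w * l⁻¹ = l * (w * (a * l * a⁻¹)) * (a * l * a⁻¹)⁻¹ * l⁻¹ := by group
        _ = l * ((a * l * a⁻¹) * w) * (a * l * a⁻¹)⁻¹ * l⁻¹ := by rw [h3]
        _ = _ := by group
    show l * w * l⁻¹ ∈ K
    rw [e]
    exact K.mul_mem (K.mul_mem (hJK (hgen l hl)) h1) (K.inv_mem (hJK (hgen l hl)))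
  have hLK : L ≤ K := by
    rcases qs_normal_in hL.2 (inf_le_right : K ⊓ L ≤ L) hN with h | h
    · exact inf_eq_right.1 h
    · exact absurd (h (Subgroup.mem_inf.2 ⟨huK, huL⟩)) huC
  refine sup_le hLK ?_
  rintro _ ⟨l, hl, rfl⟩
  have e : (MulAut.conj a).toMonoidHom l = l⁻¹ * (l * (a * l * a⁻¹)) := by
    show a * l * a⁻¹ = _
    group
  rw [e]
  exact K.mul_mem (K.inv_mem (hLK hl)) (hJK (hgen l hl))

end Cfsg.Agent.Lib.Tech
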