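import Mathlib
import Cfsg.Prelude.Def_Transfer
import Cfsg.Prelude.Def_LocalEven
import Cfsg.Agent.Lib.LocalEven.GWFinal
import Cfsg.Agent.Lib.PLocal.ThompsonMap
import Cfsg.Agent.Lib.Struct.Transv2
import Cfsg.Agent.Lib.Components.Signal
import Cfsg.Agent.Lib.Coprime.Abelian
import Cfsg.Agent.Lib.Basic.Nilpotent
import Cfsg.Agent.Lib.LocalEven.PReduced
import Cfsg.Agent.Lib.LocalEven.StrongClosed
import Cfsg.Agent.Lib.OddLocal.Basic
import Cfsg.Agent.Lib.PGroups.Parts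
import Cfsg.Agent.Lib.Char.PBlock
import Cfsg.Agent.Lib.Struct.PLen
import Cfsg.Agent.Lib.Coprime.SZ
import Cfsg.Agent.Lib.Fusion.QdBasic
import Cfsg.Agent.Lib.PLocal.WS2

/-!
# `S₄`-free groups: an element of odd order inverted by an offender produces a section `S₄`.
-/

set_option autoImplicit false
set_option linter.unusedSectionVars false
set_option linter.style.haveILetI false

namespace Cfsg.Agent.Lib.Tech

open Cfsg Subgroup Cfsg.Agent.Lib.LocalEven Cfsg.Agent.Lib.PLocal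
open scoped commutatorElement

universe u

section Inverted

variable {X : Type*} [Group X] [Finite X]

/-- A transvection and its conjugate under an odd-order element which it inverts: a section `S₄`. -/
theorem involves_S4_of_inverted {S₀ : Subgroup X} (hcomm : ∀ u ∈ S₀, ∀ v ∈ S₀, u * v = v * u)
    {a c w : X} (ha2 : a * a = 1) (hTV : TV S₀ a w) (hcN : c ∈ normalizer (S₀ : Set X))
    (hinv : ∀ v ∈ S₀, (a * c * a⁻¹) * v * (a * c * a⁻¹)⁻¹ = c⁻¹ * v * c)
    (hodd : Odd (orderOf c)) {w₀ : X} (hw₀ : w₀ ∈ S₀) (hmove : c * w₀ * c⁻¹ ≠ w₀) :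
    Involves (Equiv.Perm (Fin 4)) X := by
  classical
  have hTV' := hTV.conj hcN
  set a' := c * a * c⁻¹ with ha'
  set w' := c * w * c⁻¹ with hw'
  set y := a * a' with hy
  have hcS : ∀ v ∈ S₀, c * v * c⁻¹ ∈ S₀ := fun v hv => (mem_normalizer_iff.mp hcN v).mp hv
  have hcS' : ∀ v ∈ S₀, c⁻¹ * v * c ∈ S₀ := fun v hv => by
    have := (mem_normalizer_iff.mp (inv_mem hcN) v).mp hv
    simpa using this
  have hyv : ∀ v ∈ S₀, y * v * y⁻¹ = c⁻¹ * (c⁻¹ * v * c) * c := by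
    intro v hv
    have e1 : y = (a * c * a⁻¹) * c⁻¹ := by
      rw [hy, ha']
      have : a⁻¹ = a := by
        rw [inv_eq_iff_mul_eq_one]
        exact ha2
      rw [this]
      group
    rw [e1]
    have e2 := hinv _ (hcS' v hv)
    calc (a * c * a⁻¹) * c⁻¹ * v * ((a * c * a⁻¹) * c⁻¹)⁻¹
        = (a * c * a⁻¹) * (c⁻¹ * v * c) * (a * c * a⁻¹)⁻¹ := by group
      _ = _ := e2
  have hyS : ∀ v ∈ S₀, y * v * y⁻¹ ∈ S₀ := by
    intro v hv
    rw [hyv v hv]
    exact hcS' _ (hcS' v hv)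
  -- the contradiction from `y ^ 4` centralizing
  have hy4 : (∀ v ∈ S₀, y ^ 4 * v = v * y ^ 4) → False := by
    intro h
    have hpow : ∀ n : ℕ, ∀ v ∈ S₀, y ^ n * v * (y ^ n)⁻¹ = (c⁻¹) ^ (2 * n) * v * c ^ (2 * n) := by
      intro n
      induction n with
      | zero => intro v _; simp
      | succ n ih =>
        intro v hv
        have e : y ^ (n + 1) * v * (y ^ (n + 1))⁻¹ = y ^ n * (y * v * y⁻¹) * (y ^ n)⁻¹ := by
          rw [pow_succ]
          group
        rw [e, ih _ (hyS v hv), hyv v hv]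
        have e3 : 2 * (n + 1) = 2 * n + 1 + 1 := by ring
        rw [e3, pow_succ (c⁻¹), pow_succ (c⁻¹), pow_succ c, pow_succ c]
        have h1 : c * c ^ (2 * n) = c ^ (2 * n) * c := (Commute.self_pow c _).eq
        calc (c⁻¹) ^ (2 * n) * (c⁻¹ * (c⁻¹ * v * c) * c) * c ^ (2 * n)
            = (c⁻¹) ^ (2 * n) * c⁻¹ * c⁻¹ * v * (c * (c * c ^ (2 * n))) := by group
          _ = (c⁻¹) ^ (2 * n) * c⁻¹ * c⁻¹ * v * (c ^ (2 * n) * c * c) := by
              rw [h1, ← mul_assoc c, h1]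
    have h8 : c ^ 8 * w₀ * (c ^ 8)⁻¹ = w₀ := by
      have hu : c ^ 8 * w₀ * (c ^ 8)⁻¹ ∈ S₀ := by
        have : ∀ n : ℕ, c ^ n * w₀ * (c ^ n)⁻¹ ∈ S₀ := by
          intro n
          induction n with
          | zero => simpa using hw₀
          | succ n ih =>
            have e : c ^ (n + 1) * w₀ * (c ^ (n + 1))⁻¹ = c * (c ^ n * w₀ * (c ^ n)⁻¹) * c⁻¹ := by
              rw [pow_succ']
              group
            rw [e]
            exact hcS _ ih
        exact this 8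
      have h1 := hpow 4 _ hu
      have h2 := h _ hu
      have h3 : y ^ 4 * (c ^ 8 * w₀ * (c ^ 8)⁻¹) * (y ^ 4)⁻¹ = c ^ 8 * w₀ * (c ^ 8)⁻¹ := by
        rw [h2]
        group
      rw [h3] at h1
      rw [h1]
      have h4 : (c⁻¹) ^ (2 * 4) = (c ^ 8)⁻¹ := by
        rw [inv_pow]
      rw [h4]
      group
    have hcop : Nat.Coprime 8 (orderOf c) := by
      have : Nat.Coprime 2 (orderOf c) := Nat.coprime_two_left.mpr hodd
      have h8' : (8 : ℕ) = 2 ^ 3 := by norm_num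
      rw [h8']
      exact Nat.Coprime.pow_left 3 this
    obtain ⟨k, hk⟩ := exists_pow_eq_self_of_coprime hcop
    apply hmove
    have hall : ∀ n : ℕ, (c ^ 8) ^ n * w₀ * ((c ^ 8) ^ n)⁻¹ = w₀ := by
      intro n
      induction n with
      | zero => simp
      | succ n ih =>
        have e : (c ^ 8) ^ (n + 1) * w₀ * ((c ^ 8) ^ (n + 1))⁻¹ =
            (c ^ 8) ^ n * (c ^ 8 * w₀ * (c ^ 8)⁻¹) * ((c ^ 8) ^ n)⁻¹ := by
          rw [pow_succ]
          group
        rw [e, h8, ih]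
    have := hall k
    rwa [hk] at this
  by_cases h1 : a' * w * a'⁻¹ = w
  · exfalso
    obtain ⟨Λ, h3, h4, h5⟩ := pair_pow_four hcomm hTV hTV' h1
    exact hy4 (h5 y (Λ.mul_mem h3 h4))
  by_cases h2 : a * w' * a⁻¹ = w'
  · exfalso
    obtain ⟨Λ, h3, h4, h5⟩ := pair_pow_four hcomm hTV' hTV h2
    exact hy4 (h5 y (Λ.mul_mem h4 h3))
  -- the four-group
  have h3 : a' * w * a'⁻¹ * w⁻¹ = w' := by
    rcases hTV'.act w hTV.memV with h | h
    · exfalso
      apply h1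
      exact eq_of_mul_inv_eq_one h
    · exact h
  have h4 : a * w' * a⁻¹ * w'⁻¹ = w := by
    rcases hTV.act w' hTV'.memV with h | h
    · exfalso
      apply h2
      exact eq_of_mul_inv_eq_one h
    · exact h
  have hne : w ≠ w' := by
    intro e
    apply h1
    rw [e]
    exact hTV'.fix
  refine involves_S4_of_four hTV.invol hTV'.invol hne hTV.ne hTV'.ne (hcomm _ hTV.memV _ hTV'.memV) hTV.fix ?_ ?_ hTV'.fix
  · exact mul_inv_eq_iff_eq_mul.mp h4
  · have := mul_inv_eq_iff_eq_mul.mp h3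
    rw [this]
    exact hcomm _ hTV'.memV _ hTV.memV

/-- A non-central element of index two gives a transvection. -/
theorem exists_TV {S₀ : Subgroup X} (hcomm : ∀ u ∈ S₀, ∀ v ∈ S₀, u * v = v * u)
    (hexp : ∀ v ∈ S₀, v * v = 1) {a : X} (ha2 : a * a = 1) (haN : a ∈ normalizer (S₀ : Set X))
    (hidx : ∀ u ∈ S₀, ∀ v ∈ S₀, a * u * a⁻¹ ≠ u → a * v * a⁻¹ ≠ v → a * (u * v) * a⁻¹ = u * v)
    {w₀ : X} (hw₀ : w₀ ∈ S₀) (hmove : a * w₀ * a⁻¹ ≠ w₀) :
    TV S₀ a (a * w₀ * a⁻¹ * w₀⁻¹) := by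
  have hainv : a⁻¹ = a := by
    rw [inv_eq_iff_mul_eq_one]
    exact ha2
  have hS : ∀ v ∈ S₀, a * v * a⁻¹ ∈ S₀ := fun v hv => (mem_normalizer_iff.mp haN v).mp hv
  set w := a * w₀ * a⁻¹ * w₀⁻¹ with hw
  have hwS : w ∈ S₀ := S₀.mul_mem (hS _ hw₀) (S₀.inv_mem hw₀)
  have hinv : ∀ v ∈ S₀, v⁻¹ = v := by
    intro v hv
    rw [inv_eq_iff_mul_eq_one]
    exact hexp v hv
  have hww : w⁻¹ = w := hinv w hwS
  refine ⟨hwS, ?_, hexp w hwS, ?_, ?_⟩
  · intro e
    apply hmove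
    exact eq_of_mul_inv_eq_one e
  · have e : a * w * a⁻¹ = w⁻¹ := by
      rw [hw]
      calc a * (a * w₀ * a⁻¹ * w₀⁻¹) * a⁻¹ = (a * a) * w₀ * (a⁻¹ * w₀⁻¹ * a⁻¹) := by group
        _ = w₀ * (a⁻¹ * w₀⁻¹ * a⁻¹) := by rw [ha2, one_mul]
        _ = w₀ * (a * w₀⁻¹ * a⁻¹) := by rw [hainv]
        _ = (a * w₀ * a⁻¹ * w₀⁻¹)⁻¹ := by group
    rw [e, hww]
  · intro v hv
    by_cases h1 : a * v * a⁻¹ = v
    · left
      rw [h1]
      group
    · right
      have h2 := hidx v hv w₀ hw₀ h1 hmove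
      have h3 : a * (v * w₀) * a⁻¹ = (a * v * a⁻¹) * (a * w₀ * a⁻¹) := by group
      rw [h3] at h2
      have h4 : a * v * a⁻¹ * v⁻¹ = (v * w₀) * (a * w₀ * a⁻¹)⁻¹ * v⁻¹ := by
        rw [← h2]
        group
      rw [h4]
      have h5 : (v * w₀) * (a * w₀ * a⁻¹)⁻¹ * v⁻¹ = v * (w₀ * (a * w₀ * a⁻¹)⁻¹) * v⁻¹ := by group
      rw [h5, hcomm v hv _ (S₀.mul_mem hw₀ (S₀.inv_mem (hS _ hw₀))), mul_inv_cancel_right]
      have h6 : w₀ * (a * w₀ * a⁻¹)⁻¹ = w⁻¹ := by
        rw [hw]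
        group
      rw [h6, hww]


/-- An odd-order element inverted by an element of a hyperplane complement. -/
theorem exists_inverted_of_solvable {Y : Type*} [Group Y] [Finite Y] [Group.IsSolvable Y]
    (hO : pCore 2 Y = ⊥) {E : Subgroup Y} (hE : IsElementaryAbelian 2 E) (hne : E ≠ ⊥) :
    ∃ B : Subgroup Y, B ≤ E ∧ B.relIndex E ≤ 2 ∧ ∃ a ∈ E, a ∉ B ∧ ∃ c : Y, c ≠ 1 ∧
      Odd (orderOf c) ∧ (∀ x ∈ B, x * c = c * x) ∧ a * c * a⁻¹ = c⁻¹ := by
  classical
  haveI : Fact (Nat.Prime 2) := ⟨Nat.prime_two⟩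
  have hcop : (Nat.card (pPrimeCore 2 Y)).Coprime 2 :=
    Cfsg.Agent.Lib.Components.coprime_card_pPrimeCore 2
  have hR : ¬ 2 ∣ Nat.card (pPrimeCore 2 Y) := by
    intro h
    have h1 := Nat.Coprime.eq_one_of_dvd hcop.symm h
    omega
  have hoddR : ∀ r ∈ pPrimeCore 2 Y, Odd (orderOf r) := by
    intro r hr
    have h1 : orderOf r ∣ Nat.card (pPrimeCore 2 Y) := by
      have := orderOf_dvd_natCard (⟨r, hr⟩ : pPrimeCore 2 Y)
      rwa [Subgroup.orderOf_mk] at this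
    rw [← Nat.not_even_iff_odd]
    intro h2
    exact hR ((even_iff_two_dvd.mp h2).trans h1)
  have hEc := (isEA_iff.mp hE).1
  have hE2 : ∀ x ∈ E, x * x = 1 := fun x hx => by
    have := hE.2 x hx
    rwa [pow_two] at this
  have hEinv : ∀ x ∈ E, x⁻¹ = x := fun x hx => by
    rw [inv_eq_iff_mul_eq_one]
    exact hE2 x hx
  haveI hRn : (pPrimeCore 2 Y).Normal := Cfsg.Agent.Lib.Basic.pPrimeCore_normal 2
  have hAN : E ≤ normalizer (pPrimeCore 2 Y : Set Y) := by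
    rw [normalizer_eq_top_iff.mpr hRn]
    exact le_top
  have hND : ¬ pPrimeCore 2 Y ≤ centralizer (E : Set Y) := by
    intro h
    apply hne
    rw [eq_bot_iff]
    intro x hx
    have hxC : x ∈ centralizer (pPrimeCore 2 Y : Set Y) := by
      rw [mem_centralizer_iff]
      intro r hr
      exact (mem_centralizer_iff.mp (h hr) x hx).symm
    have hxR := Cfsg.Agent.Lib.Struct.centralizer_pPrimeCore_two_le hO hxC
    have h1 := hoddR x hxR
    have h2 : orderOf x ∣ 2 := orderOf_dvd_of_pow_eq_one (hE.2 x hx)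
    have h3 : orderOf x = 1 := by
      rcases (Nat.dvd_prime Nat.prime_two).mp h2 with h | h
      · exact h
      · rw [h] at h1
        exact absurd h1 (by decide)
    rw [mem_bot]
    exact orderOf_eq_one_iff.mp h3
  obtain ⟨B, hBE, hidx, hB⟩ := Cfsg.Agent.Lib.Components.exists_hyperplane_not_le hE hR hAN hND
  obtain ⟨y, hy, hyE⟩ := SetLike.not_le_iff_exists.mp hB
  obtain ⟨hyR, hyB⟩ := mem_inf.mp hy
  rw [mem_centralizer_iff] at hyB hyE
  push Not at hyE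
  obtain ⟨a, ha, hay⟩ := hyE
  have hay' : a * y ≠ y * a := hay
  refine ⟨B, hBE, hidx, a, ha, ?_, y⁻¹ * (a * y * a⁻¹), ?_, ?_, ?_, ?_⟩
  · intro haB
    exact hay' (hyB a haB)
  · intro h
    apply hay'
    have : a * y * a⁻¹ = y := (inv_mul_eq_one.mp h).symm
    calc a * y = a * y * a⁻¹ * a := by group
      _ = y * a := by rw [this]
  · apply hoddR
    exact mul_mem (inv_mem hyR) (hRn.conj_mem _ hyR a)
  · intro x hx
    have h1 : x * y = y * x := hyB x hx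
    have h2 : x * a = a * x := hEc x (hBE hx) a ha
    have h3 : x * a⁻¹ = a⁻¹ * x := by
      rw [hEinv a ha]
      exact h2
    have h4 : x * y⁻¹ = y⁻¹ * x := by
      have := (Commute.inv_right (show Commute x y from h1)).eq
      exact this
    calc x * (y⁻¹ * (a * y * a⁻¹)) = y⁻¹ * (x * a) * y * a⁻¹ := by
          rw [← mul_assoc x, h4]; group
      _ = y⁻¹ * a * (x * y) * a⁻¹ := by rw [h2]; group
      _ = y⁻¹ * a * y * (x * a⁻¹) := by rw [h1]; group
      _ = y⁻¹ * (a * y * a⁻¹) * x := by rw [h3]; group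
  · have e : a⁻¹ = a := hEinv a ha
    have e2 : a * a = 1 := hE2 a ha
    calc a * (y⁻¹ * (a * y * a⁻¹)) * a⁻¹ = a * y⁻¹ * a⁻¹ * ((a * a) * y * (a⁻¹ * a⁻¹)) := by group
      _ = a * y⁻¹ * a⁻¹ * y := by
          rw [e2, one_mul]
          have : a⁻¹ * a⁻¹ = 1 := by
            rw [e]; exact e2
          rw [this, mul_one]
      _ = (y⁻¹ * (a * y * a⁻¹))⁻¹ := by group

/-- A nontrivial subgroup normalized by `A` with `K ⊔ A` a `p`-group has a nontrivial
`A`-fixed element. -/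
theorem exists_fixed_of_pGroup {X : Type*} [Group X] [Finite X] {p : ℕ} [Fact p.Prime]
    {K A : Subgroup X} (hKA : A ≤ normalizer (K : Set X)) (hK : K ≠ ⊥)
    (hP : IsPGroup p ↥(K ⊔ A)) : ∃ w ∈ K, w ≠ 1 ∧ ∀ x ∈ A, x * w = w * x := by
  have hKP : K ≤ K ⊔ A := le_sup_left
  haveI hN : (K.subgroupOf (K ⊔ A)).Normal :=
    (normal_subgroupOf_iff_le_normalizer hKP).mpr (sup_le le_normalizer hKA)
  haveI : Group.IsNilpotent ↥(K ⊔ A) := hP.isNilpotent
  have hne : K.subgroupOf (K ⊔ A) ≠ ⊥ := by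
    intro h
    apply hK
    rw [subgroupOf_eq_bot] at h
    have h2 := disjoint_iff.mp h
    rwa [inf_eq_left.mpr hKP] at h2
  have h1 := Cfsg.Agent.Lib.Basic.normal_inf_center_ne_bot _ hne
  haveI := (nontrivial_iff_ne_bot _).mpr h1
  obtain ⟨w, hw, hw1⟩ := Subgroup.exists_ne_one_of_nontrivial (K.subgroupOf (K ⊔ A) ⊓ center ↥(K ⊔ A))
  obtain ⟨hw2, hw3⟩ := mem_inf.mp hw
  refine ⟨w.1, hw2, fun e => hw1 (Subtype.ext e), fun x hx => ?_⟩
  have h2 := mem_center_iff.mp hw3 ⟨x, le_sup_right (a := K) hx⟩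
  exact congrArg Subtype.val h2


theorem pCore_quotient_self_eq_bot {G : Type*} [Group G] [Finite G] (p : ℕ) [Fact p.Prime] :
    pCore p (G ⧸ pCore p G) = ⊥ := by
  haveI hQn : (pCore p G).Normal := Cfsg.Agent.Lib.Basic.pCore_normal p
  rw [Cfsg.Agent.Lib.LocalEven.pCore_quotient_eq_bot_iff]
  intro D hD hDp
  apply Cfsg.Agent.Lib.Basic.le_pCore hD
  intro x
  obtain ⟨k, hk⟩ := hDp x x.2
  obtain ⟨m, hm⟩ := Cfsg.Agent.Lib.Basic.pCore_isPGroup (G := G) p ⟨_, hk⟩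
  refine ⟨k + m, ?_⟩
  apply Subtype.ext
  have := congrArg Subtype.val hm
  simpa [pow_add, pow_mul] using this

/-- The key lemma: in a solvable `S₄`-free group with a faithful normal elementary abelian
`2`-subgroup `V` modulo `O₂`, the largest elementary abelian subgroups of a `2`-subgroup
containing `V` lie in `O₂`. -/
theorem le_pCore_of_maxEA {G : Type*} [Group G] [Finite G] [Group.IsSolvable G]
    (hS4 : ¬ Involves (Equiv.Perm (Fin 4)) G) {V : Subgroup G} (hVn : V.Normal)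
    (hVcomm : ∀ u ∈ V, ∀ v ∈ V, u * v = v * u) (hVexp : ∀ v ∈ V, v * v = 1)
    (hC : ∀ x : G, (∀ v ∈ V, x * v = v * x) → x ∈ pCore 2 G)
    (hQV : ∀ x ∈ pCore 2 G, ∀ v ∈ V, x * v = v * x)
    {S : Subgroup G} (hS : IsPGroup 2 S) (hVS : V ≤ S) {A : Subgroup G}
    (hA : IsMaxEAIn 2 S A) : A ≤ pCore 2 G := by
  classical
  haveI : Fact (Nat.Prime 2) := ⟨Nat.prime_two⟩
  by_contra hAQ
  set Q := pCore 2 G with hQ
  haveI hQn : Q.Normal := Cfsg.Agent.Lib.Basic.pCore_normal 2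
  let π : G →* G ⧸ Q := QuotientGroup.mk' Q
  have hπ : ∀ x, π x = 1 ↔ x ∈ Q := fun x => QuotientGroup.eq_one_iff x
  have hO : pCore 2 (G ⧸ Q) = ⊥ := pCore_quotient_self_eq_bot 2
  have hAea := hA.2.1
  have hAc := (isEA_iff.mp hAea).1
  have hA2 : ∀ x ∈ A, x * x = 1 := fun x hx => by
    have := hAea.2 x hx
    rwa [pow_two] at this
  have hEne : A.map π ≠ ⊥ := by
    intro h
    apply hAQ
    intro x hx
    rw [← hπ]
    have : π x ∈ A.map π := mem_map_of_mem _ hx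
    rwa [h, mem_bot] at this
  obtain ⟨B, hBE, hidx, ab, hab, habB, cb, hcb1, hcbodd, hcbB, hinvbar⟩ :=
    exists_inverted_of_solvable hO (isEA_map π hAea) hEne
  obtain ⟨a, haA, rfl⟩ := hab
  obtain ⟨c₀, rfl⟩ := QuotientGroup.mk'_surjective Q cb
  obtain ⟨t, c, hc₀, -, ⟨k, ht⟩, hcodd, htz, -⟩ := Cfsg.Agent.Lib.PGroups.exists_pPart 2 c₀
  have hπt : π t = 1 := by
    have h1 : orderOf (π t) ∣ 2 ^ k := by
      rw [← ht]
      exact orderOf_map_dvd π t
    have h2 : orderOf (π t) ∣ orderOf (π c₀) := by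
      apply orderOf_dvd_of_mem_zpowers
      obtain ⟨n, hn⟩ := Subgroup.mem_zpowers_iff.mp htz
      rw [← hn, map_zpow]
      exact zpow_mem (Subgroup.mem_zpowers _) n
    have h3 : Nat.Coprime (2 ^ k) (orderOf (π c₀)) :=
      Nat.Coprime.pow_left k (Nat.coprime_two_left.mpr hcbodd)
    exact orderOf_eq_one_iff.mp (Nat.eq_one_of_dvd_coprimes h3 h1 h2)
  have hcπ : (QuotientGroup.mk' Q) c₀ = π c := by
    change π c₀ = π c
    rw [hc₀, map_mul, hπt, one_mul]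
  rw [hcπ] at hcb1 hcbB hinvbar
  have hcodd' : Odd (orderOf c) := Nat.not_even_iff_odd.mp fun h => hcodd (even_iff_two_dvd.mp h)
  have hcQ : c ∉ Q := fun h => hcb1 ((hπ c).mpr h)
  -- action modulo `Q`
  have hact : ∀ x y : G, π x = π y → ∀ v ∈ V, x * v * x⁻¹ = y * v * y⁻¹ := by
    intro x y hxy v hv
    have h1 : y⁻¹ * x ∈ Q := by
      rw [← hπ, map_mul, map_inv, hxy, inv_mul_cancel]
    have h2 := hQV _ h1 v hv
    calc x * v * x⁻¹ = y * ((y⁻¹ * x) * v) * x⁻¹ := by group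
      _ = y * (v * (y⁻¹ * x)) * x⁻¹ := by rw [h2]
      _ = y * v * y⁻¹ := by group
  let A₁ : Subgroup G := A ⊓ B.comap π
  have hA₁A : A₁ ≤ A := inf_le_left
  have hA₁idx : A₁.relIndex A ≤ 2 := by
    change (A ⊓ B.comap π).relIndex A ≤ 2
    rw [inf_relIndex_left, relIndex_comap]
    exact hidx
  have hxt : ∀ x ∈ A₁, ∀ t ∈ zpowers c, π (x * t * x⁻¹) = π t := by
    intro x hx t ht
    obtain ⟨n, rfl⟩ := mem_zpowers_iff.mp ht
    have h1 : π x * π c = π c * π x := hcbB (π x) (mem_comap.mp hx.2)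
    have h2 : Commute (π x) (π (c ^ n)) := by
      rw [map_zpow]
      exact (show Commute (π x) (π c) from h1).zpow_right n
    rw [map_mul, map_mul, map_inv, h2.eq]
    group
  have hinv : ∀ v ∈ V, (a * c * a⁻¹) * v * (a * c * a⁻¹)⁻¹ = c⁻¹ * v * c := by
    intro v hv
    have h1 : π (a * c * a⁻¹) = π c⁻¹ := by
      rw [map_inv, ← hinvbar]
      simp only [map_mul, map_inv]
    have := hact _ _ h1 v hv
    rwa [inv_inv] at this
  have ha2 : a * a = 1 := hA2 a haA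
  let S₀ : Subgroup G := V ⊓ centralizer (A₁ : Set G)
  have hS₀V : S₀ ≤ V := inf_le_left
  have hS₀c : ∀ u ∈ S₀, ∀ x ∈ A₁, x * u = u * x := fun u hu x hx =>
    mem_centralizer_iff.mp (mem_inf.mp hu).2 x hx
  have hcomm : ∀ u ∈ S₀, ∀ v ∈ S₀, u * v = v * u := fun u hu v hv =>
    hVcomm u (hS₀V hu) v (hS₀V hv)
  have hexp : ∀ v ∈ S₀, v * v = 1 := fun v hv => hVexp v (hS₀V hv)
  have hmemS₀ : ∀ u ∈ V, (∀ x ∈ A₁, x * u = u * x) → u ∈ S₀ := fun u hu h =>
    mem_inf.mpr ⟨hu, mem_centralizer_iff.mpr h⟩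
  -- `c` normalizes `S₀`
  have hcconj : ∀ w ∈ S₀, c * w * c⁻¹ ∈ S₀ := by
    intro w hw
    apply hmemS₀ _ (hVn.conj_mem w (hS₀V hw) c)
    intro x hx
    have h1 := hact _ _ (hxt x hx c (mem_zpowers c)) w (hS₀V hw)
    have h2 := hS₀c w hw x hx
    have h3 : x * c * x⁻¹ * w * (x * c * x⁻¹)⁻¹ = x * (c * (x⁻¹ * (w * x)) * c⁻¹) * x⁻¹ := by group
    have h4 : x⁻¹ * (w * x) = w := by
      rw [← h2]
      group
    rw [h3, h4] at h1
    calc x * (c * w * c⁻¹) = x * (c * w * c⁻¹) * x⁻¹ * x := by group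
      _ = c * w * c⁻¹ * x := by rw [h1]
  have hcN : c ∈ normalizer (S₀ : Set G) := Cfsg.Agent.Lib.PGroups.mem_normalizer_of_conj_le' S₀ c hcconj
  have hah : ∀ x ∈ A₁, x * a = a * x := fun x hx => hAc x (hA₁A hx) a haA
  have haconj : ∀ w ∈ S₀, a * w * a⁻¹ ∈ S₀ := by
    intro w hw
    apply hmemS₀ _ (hVn.conj_mem w (hS₀V hw) a)
    intro x hx
    have h2 := hS₀c w hw x hx
    have h3 : x * a⁻¹ = a⁻¹ * x := by
      have := (Commute.inv_right (show Commute x a from hah x hx)).eq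
      exact this
    calc x * (a * w * a⁻¹) = a * (x * w) * a⁻¹ := by
          rw [← mul_assoc x, ← mul_assoc x, hah x hx]
          group
      _ = a * w * (x * a⁻¹) := by rw [h2]; group
      _ = a * w * a⁻¹ * x := by rw [h3]; group
  have haN : a ∈ normalizer (S₀ : Set G) := Cfsg.Agent.Lib.PGroups.mem_normalizer_of_conj_le' S₀ a haconj
  -- the commutator
  have hVS' : IsPGroup 2 V := hS.to_le hVS
  have hcV : IsMulCommutative V := ⟨⟨fun a b => Subtype.ext (hVcomm a.1 a.2 b.1 b.2)⟩⟩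
  have hCA : Cfsg.Agent.Lib.Coprime.CoprimeAction (zpowers c) V := by
    refine ⟨?_, ?_, ?_⟩
    · rw [normalizer_eq_top_iff.mpr hVn]
      exact le_top
    · obtain ⟨k, hk⟩ := IsPGroup.iff_card.mp hVS'
      rw [hk, Nat.card_zpowers]
      exact Nat.Coprime.pow_right k (Nat.coprime_two_right.mpr hcodd')
    · right
      exact Group.isSolvable_of_comm fun a b => hcV.is_comm.comm a b
  have hKinf := hCA.commutator_inf_centralizer_eq_bot hcV
  haveI hVn' := hVn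
  have hKV : ⁅V, zpowers c⁆ ≤ V := commutator_le_left V _
  have hKne : ⁅V, zpowers c⁆ ≠ ⊥ := by
    intro h
    apply hcQ
    apply hC
    intro v hv
    have h1 := commutator_mem_commutator hv (mem_zpowers c)
    rw [h, mem_bot, commutatorElement_eq_one_iff_mul_comm] at h1
    exact h1.symm
  have hKA : A₁ ≤ normalizer ((⁅V, zpowers c⁆ : Subgroup G) : Set G) := by
    intro x hx
    apply Cfsg.Agent.Lib.PGroups.mem_normalizer_of_conj_le'
    have hle : ⁅V, zpowers c⁆ ≤ (⁅V, zpowers c⁆ : Subgroup G).comap (MulAut.conj x).toMonoidHom := by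
      rw [commutator_le]
      intro v hv t ht
      rw [mem_comap]
      have h1 : (MulAut.conj x).toMonoidHom ⁅v, t⁆ = x * ⁅v, t⁆ * x⁻¹ := rfl
      rw [h1]
      have hv' : x * v * x⁻¹ ∈ V := hVn.conj_mem v hv x
      have h2 := hact _ _ (hxt x hx t ht) _ (V.inv_mem hv')
      have h3 : x * ⁅v, t⁆ * x⁻¹ = ⁅x * v * x⁻¹, t⁆ := by
        rw [commutatorElement_def, commutatorElement_def]
        calc x * (v * t * v⁻¹ * t⁻¹) * x⁻¹
            = (x * v * x⁻¹) * ((x * t * x⁻¹) * (x * v * x⁻¹)⁻¹ * (x * t * x⁻¹)⁻¹) := by group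
          _ = (x * v * x⁻¹) * (t * (x * v * x⁻¹)⁻¹ * t⁻¹) := by rw [h2]
          _ = _ := by group
      rw [h3]
      exact commutator_mem_commutator hv' ht
    exact fun w hw => hle hw
  have hPle : ⁅V, zpowers c⁆ ⊔ A₁ ≤ S := sup_le (hKV.trans hVS) (hA₁A.trans hA.1)
  obtain ⟨w, hwK, hw1, hwA⟩ := exists_fixed_of_pGroup hKA hKne (hS.to_le hPle)
  have hwV : w ∈ V := hKV hwK
  have hwS₀ : w ∈ S₀ := hmemS₀ w hwV hwA
  have hwmove : c * w * c⁻¹ ≠ w := by
    intro e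
    apply hw1
    have h1 : w ∈ ⁅V, zpowers c⁆ ⊓ (V ⊓ centralizer (zpowers c : Set G)) := by
      refine mem_inf.mpr ⟨hwK, mem_inf.mpr ⟨hwV, mem_centralizer_iff.mpr ?_⟩⟩
      intro t ht
      obtain ⟨n, rfl⟩ := mem_zpowers_iff.mp ht
      have h2 : Commute c w := by
        change c * w = w * c
        calc c * w = c * w * c⁻¹ * c := by group
          _ = w * c := by rw [e]
      exact (h2.zpow_left n).eq
    rw [hKinf, mem_bot] at h1
    exact h1
  -- `a` moves something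
  obtain ⟨w₀, hw₀, hamove⟩ : ∃ w₀ ∈ S₀, a * w₀ * a⁻¹ ≠ w₀ := by
    by_contra hfix
    push Not at hfix
    apply hwmove
    have h1 := hfix _ (hcconj w hwS₀)
    have h2 := hinv w hwV
    have h3 : a * (c * w * c⁻¹) * a⁻¹ = (a * c * a⁻¹) * (a * w * a⁻¹) * (a * c * a⁻¹)⁻¹ := by group
    rw [h3, hfix w hwS₀, h2] at h1
    -- `c ^ 2` fixes `w`
    have h4 : c ^ 2 * w * (c ^ 2)⁻¹ = w := by
      calc c ^ 2 * w * (c ^ 2)⁻¹ = c * (c * w * c⁻¹) * c⁻¹ := by
            rw [pow_two]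
            group
        _ = c * (c⁻¹ * w * c) * c⁻¹ := by rw [h1]
        _ = w := by group
    have hcop : Nat.Coprime 2 (orderOf c) := Nat.coprime_two_left.mpr hcodd'
    obtain ⟨k, hk⟩ := exists_pow_eq_self_of_coprime hcop
    have hall : ∀ n : ℕ, (c ^ 2) ^ n * w * ((c ^ 2) ^ n)⁻¹ = w := by
      intro n
      induction n with
      | zero => simp
      | succ n ih =>
        have e : (c ^ 2) ^ (n + 1) * w * ((c ^ 2) ^ (n + 1))⁻¹ =
            (c ^ 2) ^ n * (c ^ 2 * w * (c ^ 2)⁻¹) * ((c ^ 2) ^ n)⁻¹ := by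
          rw [pow_succ]
          group
        rw [e, h4, ih]
    have := hall k
    rwa [hk] at this
  -- Hall's condition
  have hS₀ea : IsElementaryAbelian 2 S₀ := by
    rw [isEA_iff]
    refine ⟨hcomm, fun v hv => ?_⟩
    rw [pow_two]
    exact hexp v hv
  have hA₁ea : IsElementaryAbelian 2 A₁ := isEA_mono hA₁A hAea
  have hsup : IsElementaryAbelian 2 (S₀ ⊔ A₁) :=
    isEA_sup hS₀ea hA₁ea (fun u hu x hx => (hS₀c u hu x hx).symm)
  have hE'le : S₀ ⊔ A₁ ≤ S := sup_le (hS₀V.trans hVS) (hA₁A.trans hA.1)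
  have h3 := hA.2.2 _ hE'le hsup
  have h4 : A₁ ≤ normalizer (S₀ : Set G) := by
    intro x hx
    apply Cfsg.Agent.Lib.PGroups.mem_normalizer_of_conj_le'
    intro u hu
    have e : x * u * x⁻¹ = u := by
      rw [hS₀c u hu x hx]
      group
    rw [e]
    exact hu
  have h5 : A₁.relIndex (S₀ ⊔ A₁) = (S₀ ⊓ A₁).relIndex S₀ := relIndex_sup_eq_inf h4
  have h6 : Nat.card A₁ * A₁.relIndex (S₀ ⊔ A₁) = Nat.card ↥(S₀ ⊔ A₁) :=
    Cfsg.Agent.Lib.OddLocal.card_mul_relIndex le_sup_right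
  have h7 : Nat.card A₁ * A₁.relIndex A = Nat.card A :=
    Cfsg.Agent.Lib.OddLocal.card_mul_relIndex hA₁A
  have hoff : (S₀ ⊓ A₁).relIndex S₀ ≤ 2 := by
    rw [← h6, ← h7, h5] at h3
    have h8 : Nat.card A₁ * (S₀ ⊓ A₁).relIndex S₀ ≤ Nat.card A₁ * 2 :=
      h3.trans (Nat.mul_le_mul_left _ hA₁idx)
    exact Nat.le_of_mul_le_mul_left h8 Nat.card_pos
  have hfixA₁ : ∀ u ∈ A₁, a * u * a⁻¹ = u := by
    intro u hu
    rw [← hah u hu]
    group
  have hne0 : (S₀ ⊓ A₁).relIndex S₀ ≠ 0 := Subgroup.FiniteIndex.index_ne_zero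
  have hidx' : ∀ u ∈ S₀, ∀ v ∈ S₀, a * u * a⁻¹ ≠ u → a * v * a⁻¹ ≠ v →
      a * (u * v) * a⁻¹ = u * v := by
    intro u hu v hv hu' hv'
    have huA : u ∉ A₁ := fun h => hu' (hfixA₁ u h)
    have hvA : v ∉ A₁ := fun h => hv' (hfixA₁ v h)
    have hne1 : (S₀ ⊓ A₁).relIndex S₀ ≠ 1 := by
      intro h
      exact huA (relIndex_eq_one.mp h hu).2
    have h2 : (S₀ ⊓ A₁).relIndex S₀ = 2 := by omega
    have h2' : ((S₀ ⊓ A₁).subgroupOf S₀).index = 2 := h2
    have hmem : ∀ y : S₀, y ∈ (S₀ ⊓ A₁).subgroupOf S₀ ↔ (y : G) ∈ A₁ := by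
      intro y
      rw [mem_subgroupOf]
      exact ⟨fun h => h.2, fun h => ⟨y.2, h⟩⟩
    have h8 := (Subgroup.mul_mem_iff_of_index_two h2' (a := (⟨u, hu⟩ : S₀)) (b := ⟨v, hv⟩)).mpr
      (by
        rw [hmem, hmem]
        exact ⟨fun h => absurd h huA, fun h => absurd h hvA⟩)
    rw [hmem] at h8
    exact hfixA₁ _ h8
  have hTV := exists_TV hcomm hexp ha2 haN hidx' hw₀ hamove
  apply hS4
  refine involves_S4_of_inverted hcomm ha2 hTV hcN ?_ hcodd' hwS₀ hwmove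
  exact fun v hv => hinv v (hS₀V hv)


/-- The involutions of a commutative normal subgroup (with `1`). -/
theorem exists_omega_two {X : Type*} [Group X] {Z : Subgroup X} [hZ : Z.Normal]
    (hc : ∀ u ∈ Z, ∀ v ∈ Z, u * v = v * u) :
    ∃ V : Subgroup X, V.Normal ∧ ∀ x, x ∈ V ↔ x ∈ Z ∧ x * x = 1 := by
  let V : Subgroup X :=
    { carrier := {x | x ∈ Z ∧ x * x = 1}
      mul_mem' := by
        rintro x y ⟨hx, hx2⟩ ⟨hy, hy2⟩
        refine ⟨Z.mul_mem hx hy, ?_⟩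
        calc x * y * (x * y) = x * (y * x) * y := by group
          _ = x * (x * y) * y := by rw [hc y hy x hx]
          _ = (x * x) * (y * y) := by group
          _ = 1 := by rw [hx2, hy2, one_mul]
      one_mem' := ⟨Z.one_mem, one_mul 1⟩
      inv_mem' := by
        rintro x ⟨hx, hx2⟩
        refine ⟨Z.inv_mem hx, ?_⟩
        rw [← mul_inv_rev, hx2, inv_one] }
  refine ⟨V, ⟨?_⟩, fun x => Iff.rfl⟩
  rintro x ⟨hx, hx2⟩ g
  refine ⟨hZ.conj_mem x hx g, ?_⟩
  calc g * x * g⁻¹ * (g * x * g⁻¹) = g * (x * x) * g⁻¹ := by group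
    _ = 1 := by rw [hx2]; group

/-- **The reduced case.** -/
theorem thompson_normal_of_class_two {X : Type*} [Group X] [Finite X] [Group.IsSolvable X]
    (hS4 : ¬ Involves (Equiv.Perm (Fin 4)) X) (hO : pPrimeCore 2 X = ⊥) (S : Sylow 2 X)
    (hcl : ∀ s₁ ∈ (S : Subgroup X), ∀ s₂ ∈ (S : Subgroup X), ∀ s₃ ∈ (S : Subgroup X),
      ⁅⁅s₁, s₂⁆, s₃⁆ = 1) :
    (thompsonSubgroupOf 2 (S : Subgroup X)).Normal := by
  classical
  haveI : Fact (Nat.Prime 2) := ⟨Nat.prime_two⟩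
  set Q := pCore 2 X with hQdef
  haveI hQn : Q.Normal := Cfsg.Agent.Lib.Basic.pCore_normal 2
  have hQp : IsPGroup 2 Q := Cfsg.Agent.Lib.Basic.pCore_isPGroup 2
  have hCQ : centralizer (Q : Set X) ≤ Q :=
    Cfsg.Agent.Lib.Char.centralizer_pCore_le_of_isPSolvable
      (Cfsg.Agent.Lib.Struct.isPSolvable_of_isSolvable 2 _ _ rfl inferInstance) hO
  have hQS : Q ≤ S := Cfsg.Agent.Lib.Basic.pCore_le_sylow S
  let Z : Subgroup X := Q ⊓ centralizer (Q : Set X)
  haveI hZn : Z.Normal := inferInstance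
  have hZQ : Z ≤ Q := inf_le_left
  have hZc : ∀ u ∈ Z, ∀ q ∈ Q, q * u = u * q := fun u hu q hq =>
    mem_centralizer_iff.mp (mem_inf.mp hu).2 q hq
  have hZcomm : ∀ u ∈ Z, ∀ v ∈ Z, u * v = v * u := fun u hu v hv =>
    hZc v hv u (hZQ hu)
  obtain ⟨V, hVn, hVmem⟩ := exists_omega_two hZcomm
  have hVZ : V ≤ Z := fun x hx => ((hVmem x).mp hx).1
  -- the kernel on `Q / Z`
  let πZ : X →* X ⧸ Z := QuotientGroup.mk' Z
  haveI hQbar : (Q.map πZ).Normal := hQn.map _ (QuotientGroup.mk'_surjective Z)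
  let H : Subgroup X := (centralizer ((Q.map πZ : Subgroup _) : Set (X ⧸ Z))).comap πZ
  haveI hHn : H.Normal := inferInstance
  have hHmem : ∀ x, x ∈ H ↔ ∀ q ∈ Q, ⁅x, q⁆ ∈ Z := by
    intro x
    rw [mem_comap, mem_centralizer_iff]
    constructor
    · intro h q hq
      have h1 := h (πZ q) (mem_map_of_mem _ hq)
      have h2 : πZ ⁅x, q⁆ = 1 := by
        rw [commutatorElement_def, map_mul, map_mul, map_mul, map_inv, map_inv, ← h1]
        group
      exact (QuotientGroup.eq_one_iff _).mp h2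
    · rintro h _ ⟨q, hq, rfl⟩
      have h2 : πZ ⁅x, q⁆ = 1 := (QuotientGroup.eq_one_iff _).mpr (h q hq)
      rw [commutatorElement_def, map_mul, map_mul, map_mul, map_inv, map_inv] at h2
      have h3 : πZ x * πZ q * (πZ x)⁻¹ = πZ q := mul_inv_eq_one.mp h2
      calc πZ q * πZ x = πZ x * πZ q * (πZ x)⁻¹ * πZ x := by rw [h3]
        _ = πZ x * πZ q := by group
  have hSH : (S : Subgroup X) ≤ H := by
    intro s hs
    rw [hHmem]
    intro q hq
    refine mem_inf.mpr ⟨?_, mem_centralizer_iff.mpr ?_⟩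
    · rw [commutatorElement_def]
      exact Q.mul_mem (hQn.conj_mem q hq s) (Q.inv_mem hq)
    · intro r hr
      have h1 := hcl s hs q (hQS hq) r (hQS hr)
      rw [commutatorElement_eq_one_iff_mul_comm] at h1
      exact h1.symm
  have hQH : Q ≤ H := hQS.trans hSH
  -- the group `↥H`
  have hS4' : ¬ Involves (Equiv.Perm (Fin 4)) H := fun h =>
    hS4 (Cfsg.Agent.Lib.Fusion.Qd.involves_of_subgroup H h)
  haveI hCh : (pCore 2 H).Characteristic := Cfsg.Agent.Lib.Basic.pCore_characteristic 2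
  have hRn : ((pCore 2 H).map H.subtype).Normal :=
    Cfsg.Agent.Lib.Coprime.normal_map_subtype_of_characteristic H (pCore 2 H)
  have hRQ : (pCore 2 H).map H.subtype ≤ Q :=
    Cfsg.Agent.Lib.Basic.le_pCore hRn ((Cfsg.Agent.Lib.Basic.pCore_isPGroup 2).map _)
  have hV'n : (V.subgroupOf H).Normal := hVn.subgroupOf H
  have hVc : ∀ v ∈ V, ∀ q ∈ Q, q * v = v * q := fun v hv q hq => hZc v (hVZ hv) q hq
  -- odd elements centralizing `V`
  have hodd1 : ∀ o ∈ H, (∀ v ∈ V, o * v = v * o) → Odd (orderOf o) → o = 1 := by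
    intro o hoH hoV hoodd
    have hZp : IsPGroup 2 Z := hQp.to_le hZQ
    have hcop : ∀ W : Subgroup X, W.Normal → IsPGroup 2 W →
        Cfsg.Agent.Lib.Coprime.CoprimeAction (zpowers o) W := by
      intro W hW hWp
      refine ⟨?_, ?_, Or.inl ?_⟩
      · rw [normalizer_eq_top_iff.mpr hW]
        exact le_top
      · obtain ⟨k, hk⟩ := IsPGroup.iff_card.mp hWp
        rw [hk, Nat.card_zpowers]
        exact Nat.Coprime.pow_right k (Nat.coprime_two_right.mpr hoodd)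
      · exact Group.isSolvable_of_comm fun a b => by
          obtain ⟨a, ha⟩ := a
          obtain ⟨b, hb⟩ := b
          obtain ⟨i, rfl⟩ := mem_zpowers_iff.mp ha
          obtain ⟨j, rfl⟩ := mem_zpowers_iff.mp hb
          apply Subtype.ext
          exact (Commute.refl o).zpow_zpow i j |>.eq
    have hcentt : ∀ y : X, o * y = y * o → y ∈ centralizer (zpowers o : Set X) := by
      intro y hy
      rw [mem_centralizer_iff]
      intro t ht
      obtain ⟨n, rfl⟩ := mem_zpowers_iff.mp ht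
      exact ((show Commute o y from hy).zpow_left n).eq
    have hZcm : IsMulCommutative Z := ⟨⟨fun a b => Subtype.ext (hZcomm a.1 a.2 b.1 b.2)⟩⟩
    have h1 : ⁅Z, zpowers o⁆ = ⊥ := by
      apply (hcop Z hZn hZp).commutator_eq_bot_of_omega hZcm hZp
      intro x hx hx2
      apply hcentt
      apply hoV
      rw [hVmem]
      refine ⟨hx, ?_⟩
      rwa [pow_two] at hx2
    have h2 : ⁅Q, zpowers o⁆ = ⊥ := by
      apply (hcop Q hQn hQp).commutator_eq_bot_of_chain (N := Z) ?_ h1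
      rw [commutator_le]
      intro q hq t ht
      have htH : t ∈ H := by
        obtain ⟨n, rfl⟩ := mem_zpowers_iff.mp ht
        exact zpow_mem hoH n
      have h3 := (hHmem t).mp htH q hq
      have h4 : ⁅q, t⁆ = ⁅t, q⁆⁻¹ := (commutatorElement_inv t q).symm
      rw [h4]
      exact Z.inv_mem h3
    have h3 : o ∈ centralizer (Q : Set X) := by
      rw [mem_centralizer_iff]
      intro q hq
      have h4 := commutator_mem_commutator hq (mem_zpowers o)
      rw [h2, mem_bot, commutatorElement_eq_one_iff_mul_comm] at h4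
      exact h4
    have h4 : o ∈ Q := hCQ h3
    obtain ⟨k, hk⟩ := hQp ⟨o, h4⟩
    have h5 : o ^ 2 ^ k = 1 := congrArg Subtype.val hk
    have h6 : orderOf o ∣ 2 ^ k := orderOf_dvd_of_pow_eq_one h5
    have h7 : Nat.Coprime (orderOf o) (2 ^ k) := Nat.Coprime.pow_right k (Nat.coprime_two_right.mpr hoodd)
    exact orderOf_eq_one_iff.mp (Nat.Coprime.eq_one_of_dvd h7 h6)
  have hC' : ∀ x : H, (∀ v ∈ V.subgroupOf H, x * v = v * x) → x ∈ pCore 2 H := by
    haveI : (centralizer (V : Set X)).Normal := inferInstance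
    have hL : ((centralizer (V : Set X)).subgroupOf H).Normal :=
      Subgroup.Normal.subgroupOf inferInstance H
    have hLp : IsPGroup 2 ((centralizer (V : Set X)).subgroupOf H) := by
      intro y
      obtain ⟨t, o, hy, -, ⟨k, ht⟩, hoodd, -, hoz⟩ :=
        Cfsg.Agent.Lib.PGroups.exists_pPart 2 ((y : H) : X)
      have hyH : ((y : H) : X) ∈ H := (y : H).2
      have hyC : ((y : H) : X) ∈ centralizer (V : Set X) := mem_subgroupOf.mp y.2
      obtain ⟨n, rfl⟩ := mem_zpowers_iff.mp hoz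
      have ho1 : ((y : H) : X) ^ n = 1 := by
        apply hodd1 _ (zpow_mem hyH n)
        · intro v hv
          have h1 := mem_centralizer_iff.mp hyC v hv
          exact (((show Commute v _ from h1).symm).zpow_left n).eq
        · exact Nat.not_even_iff_odd.mp fun h => hoodd (even_iff_two_dvd.mp h)
      rw [ho1, mul_one] at hy
      refine ⟨k, ?_⟩
      apply Subtype.ext
      apply Subtype.ext
      have h2 : ((y : H) : X) ^ 2 ^ k = 1 := by
        rw [hy, ← ht]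
        exact pow_orderOf_eq_one t
      exact h2
    intro x hx
    apply Cfsg.Agent.Lib.Basic.le_pCore hL hLp
    rw [mem_subgroupOf, mem_centralizer_iff]
    intro v hv
    have h1 := hx ⟨v, hQH (hZQ (hVZ hv))⟩ hv
    exact (congrArg Subtype.val h1).symm
  have hQV' : ∀ x ∈ pCore 2 H, ∀ v ∈ V.subgroupOf H, x * v = v * x := by
    intro x hx v hv
    have hxQ : (x : X) ∈ Q := hRQ ⟨x, hx, rfl⟩
    apply Subtype.ext
    exact hVc v (mem_subgroupOf.mp hv) _ hxQ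
  have hAQ : ∀ A, IsMaxEAIn 2 (S : Subgroup X) A → A ≤ Q := by
    intro A hA
    have hS'map : ((S : Subgroup X).subgroupOf H).map H.subtype = S := by
      rw [subgroupOf_map_subtype]
      exact inf_eq_left.mpr hSH
    have hA' := IsMaxEAIn.of_map H.subtype (T := (S : Subgroup X).subgroupOf H) (A := A)
      (fun x _ hx => H.subtype_injective (by simpa using hx)) (by rw [hS'map]; exact hA)
    have hS'p : IsPGroup 2 ((S : Subgroup X).subgroupOf H) := S.isPGroup'.comap_subtype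
    have hV'S' : V.subgroupOf H ≤ (S : Subgroup X).subgroupOf H := fun v hv =>
      mem_subgroupOf.mpr (hQS (hZQ (hVZ (mem_subgroupOf.mp hv))))
    have hle := le_pCore_of_maxEA hS4' hV'n
      (fun u hu v hv => Subtype.ext (hZcomm _ (hVZ (mem_subgroupOf.mp hu)) _ (hVZ (mem_subgroupOf.mp hv))))
      (fun v hv => Subtype.ext ((hVmem _).mp (mem_subgroupOf.mp hv)).2)
      hC' hQV' hS'p hV'S' hA'
    intro a ha
    have haS := hA.1 ha
    have haH := hSH haS
    have h1 : (⟨a, haH⟩ : H) ∈ (S : Subgroup X).subgroupOf H ⊓ A.comap H.subtype := ⟨haS, ha⟩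
    exact hRQ ⟨_, hle h1, rfl⟩
  have hJQ : thompsonSubgroupOf 2 (S : Subgroup X) ≤ Q := by
    rw [thompsonOf_eq]
    exact sSup_le fun A hA => hAQ A hA
  have hJJ : thompsonSubgroupOf 2 Q = thompsonSubgroupOf 2 (S : Subgroup X) :=
    thompsonOf_eq_of_le hJQ hQS
  rw [← hJJ]
  refine ⟨fun x hx g => ?_⟩
  have hmap : Q.map (MulAut.conj g).toMonoidHom = Q := by
    apply le_antisymm
    · rintro _ ⟨q, hq, rfl⟩
      exact hQn.conj_mem q hq g
    · intro q hq
      refine ⟨g⁻¹ * q * g⁻¹⁻¹, hQn.conj_mem q hq g⁻¹, ?_⟩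
      change g * (g⁻¹ * q * g⁻¹⁻¹) * g⁻¹ = q
      group
  have h1 := thompsonOf_conj (p := 2) Q g
  rw [hmap] at h1
  rw [← h1]
  exact ⟨x, hx, rfl⟩

/-- **`S₄`-free solvable groups with Sylow `2`-subgroups of class at most `2`.** -/
theorem normalizer_thompson_sup_of_class_two {G : Type*} [Group G] [Finite G] [Group.IsSolvable G]
    (hS4 : ¬ Involves (Equiv.Perm (Fin 4)) G) (S : Sylow 2 G)
    (hcl : Subgroup.lowerCentralSeries (S : Subgroup G) 2 = ⊥) :
    normalizer ((thompsonSubgroupOf 2 (S : Subgroup G)) : Set G) ⊔ pPrimeCore 2 G = ⊤ := by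
  classical
  haveI : Fact (Nat.Prime 2) := ⟨Nat.prime_two⟩
  set K := pPrimeCore 2 G with hKdef
  haveI hKn : K.Normal := Cfsg.Agent.Lib.Basic.pPrimeCore_normal 2
  have hK : (Nat.card K).Coprime 2 := Cfsg.Agent.Lib.Components.coprime_card_pPrimeCore 2
  let π : G →* G ⧸ K := QuotientGroup.mk' K
  have hπs : Function.Surjective π := QuotientGroup.mk'_surjective K
  let Sb : Sylow 2 (G ⧸ K) := S.mapSurjective hπs
  have hSb : (Sb : Subgroup (G ⧸ K)) = (S : Subgroup G).map π := rfl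
  have hO : pPrimeCore 2 (G ⧸ K) = ⊥ := Cfsg.Agent.Lib.Components.pPrimeCore_quotient_eq_bot 2
  have hS4' : ¬ Involves (Equiv.Perm (Fin 4)) (G ⧸ K) := fun h =>
    hS4 (Cfsg.Agent.Lib.Fusion.Qd.involves_of_quotient K h)
  have hcl0 : ∀ s₁ ∈ (S : Subgroup G), ∀ s₂ ∈ (S : Subgroup G), ∀ s₃ ∈ (S : Subgroup G),
      ⁅⁅s₁, s₂⁆, s₃⁆ = 1 := by
    intro s₁ h₁ s₂ h₂ s₃ h₃
    have h1 : ⁅⁅s₁, s₂⁆, s₃⁆ ∈ Subgroup.lowerCentralSeries (S : Subgroup G) 2 :=
      commutator_mem_commutator (commutator_mem_commutator h₁ h₂) h₃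
    rw [hcl, mem_bot] at h1
    exact h1
  have hcl' : ∀ s₁ ∈ (Sb : Subgroup (G ⧸ K)), ∀ s₂ ∈ (Sb : Subgroup (G ⧸ K)),
      ∀ s₃ ∈ (Sb : Subgroup (G ⧸ K)), ⁅⁅s₁, s₂⁆, s₃⁆ = 1 := by
    rw [hSb]
    rintro _ ⟨s₁, h₁, rfl⟩ _ ⟨s₂, h₂, rfl⟩ _ ⟨s₃, h₃, rfl⟩
    rw [← map_commutatorElement, ← map_commutatorElement, hcl0 s₁ h₁ s₂ h₂ s₃ h₃, map_one]
  have hN := thompson_normal_of_class_two hS4' hO Sb hcl'
  have hmap : (thompsonSubgroupOf 2 (S : Subgroup G)).map π =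
      thompsonSubgroupOf 2 (Sb : Subgroup (G ⧸ K)) :=
    thompsonOf_map π (Cfsg.Agent.Lib.PLocal.injOn_quotient_of_isPGroup K hK S.isPGroup')
  rw [← hmap] at hN
  have hJp : IsPGroup 2 (thompsonSubgroupOf 2 (S : Subgroup G)) :=
    S.isPGroup'.to_le (map_subtype_le _)
  rw [eq_top_iff]
  intro g _
  have hy : QuotientGroup.mk' K g ∈ normalizer
      (((thompsonSubgroupOf 2 (S : Subgroup G)).map (QuotientGroup.mk' K) : Subgroup _) :
        Set (G ⧸ K)) := by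
    rw [normalizer_eq_top_iff.mpr hN]
    exact mem_top _
  obtain ⟨k, hk, hkn⟩ := exists_normalizer_lift K hK hJp hy
  rw [sup_comm]
  have := mul_mem_sup hk hkn
  simpa using this

end Inverted

end Cfsg.Agent.Lib.Tech
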