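import Cfsg.Agent.Lib.Tech.FFA5
import Cfsg.Agent.Lib.Tech.S4Free

/-!
# The module theorem for a normal elementary abelian `2`-subgroup.
-/

set_option autoImplicit false
set_option linter.unusedSectionVars false
set_option linter.style.haveILetI false

namespace Cfsg.Agent.Lib.Tech.FFA

open Cfsg Subgroup Cfsg.Agent.Lib.LocalEven Cfsg.Agent.Lib.PLocal

/-- A section `Perm (Fin 4)` from a natural `GL₂(2)`-section. -/
theorem involves_S4_of_section {G : Type*} [Group G] [Finite G] {W : Subgroup G} {a b u v : G}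
    (ha : a ∈ normalizer (W : Set G)) (hb : b ∈ normalizer (W : Set G))
    (hu : u ∈ normalizer (W : Set G)) (hv : v ∈ normalizer (W : Set G)) (huv : u * v = v * u)
    (hu2 : u * u = 1) (hv2 : v * v = 1) (huW : u ∉ W) (hvW : v ∉ W) (huvW : u * v ∉ W)
    (h1 : a * u * a⁻¹ * u⁻¹ * v⁻¹ ∈ W) (h2 : a * v * a⁻¹ * v⁻¹ ∈ W)
    (h3 : b * v * b⁻¹ * v⁻¹ * u⁻¹ ∈ W) (h4 : b * u * b⁻¹ * u⁻¹ ∈ W) :
    Involves (Equiv.Perm (Fin 4)) G := by
  let N : Subgroup G := normalizer (W : Set G)
  haveI hn : (W.subgroupOf N).Normal := Subgroup.normal_in_normalizer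
  let π : N →* N ⧸ W.subgroupOf N := QuotientGroup.mk' _
  have key : ∀ x y : N, x.1 * y.1⁻¹ ∈ W → π x = π y := by
    intro x y hxy
    have h5 : π (x * y⁻¹) = 1 := by
      refine (QuotientGroup.eq_one_iff _).mpr ?_
      rw [mem_subgroupOf]
      simpa using hxy
    rw [map_mul, map_inv] at h5
    exact mul_inv_eq_one.mp h5
  have hone : ∀ x : N, π x = 1 → x.1 ∈ W := by
    intro x hx
    have := (QuotientGroup.eq_one_iff _).mp hx
    exact mem_subgroupOf.mp this
  let a' : N := ⟨a, ha⟩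
  let b' : N := ⟨b, hb⟩
  let u' : N := ⟨u, hu⟩
  let v' : N := ⟨v, hv⟩
  apply Cfsg.Agent.Lib.Fusion.Qd.involves_of_subgroup N
  apply Cfsg.Agent.Lib.Fusion.Qd.involves_of_quotient (W.subgroupOf N)
  refine involves_S4_of_four (w := π v') (w' := π u') (a := π a') (b := π b') ?_ ?_ ?_ ?_ ?_ ?_ ?_ ?_ ?_ ?_
  · rw [← map_mul]
    have : v' * v' = 1 := Subtype.ext hv2
    rw [this, map_one]
  · rw [← map_mul]
    have : u' * u' = 1 := Subtype.ext hu2
    rw [this, map_one]
  · intro e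
    apply huvW
    have h5 : π (v' * u') = 1 := by
      rw [map_mul, e, ← map_mul]
      have : u' * u' = 1 := Subtype.ext hu2
      rw [this, map_one]
    have h6 := hone _ h5
    have : (v' * u').1 = u * v := by
      show v * u = u * v
      exact huv.symm
    rwa [this] at h6
  · intro e
    exact hvW (hone _ e)
  · intro e
    exact huW (hone _ e)
  · rw [← map_mul, ← map_mul]
    congr 1
    exact Subtype.ext huv.symm
  · rw [← map_inv, ← map_mul, ← map_mul]
    apply key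
    exact h2
  · rw [← map_inv, ← map_mul, ← map_mul, ← map_mul]
    apply key
    have e : (a' * u' * a'⁻¹).1 * (v' * u').1⁻¹ = a * u * a⁻¹ * u⁻¹ * v⁻¹ := by
      show a * u * a⁻¹ * (v * u)⁻¹ = _
      group
    rw [e]
    exact h1
  · rw [← map_inv, ← map_mul, ← map_mul, ← map_mul]
    apply key
    have e : (b' * v' * b'⁻¹).1 * (v' * u').1⁻¹ = b * v * b⁻¹ * v⁻¹ * u⁻¹ := by
      show b * v * b⁻¹ * (v * u)⁻¹ = _
      rw [← huv]
      group
    rw [e]
    exact h3
  · rw [← map_inv, ← map_mul, ← map_mul]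
    apply key
    exact h4

variable {G : Type*} [Group G]

/-- The normal subgroup `V` as a module. -/
structure AV (V : Subgroup G) where
  val : G
  mem : val ∈ V

namespace AV

variable {V : Subgroup G}

@[ext] theorem ext' {x y : AV V} (h : x.val = y.val) : x = y := by
  cases x
  cases y
  simp_all

instance : Add (AV V) := ⟨fun x y => ⟨x.val * y.val, V.mul_mem x.mem y.mem⟩⟩
instance : Zero (AV V) := ⟨⟨1, V.one_mem⟩⟩
instance : Neg (AV V) := ⟨fun x => ⟨x.val⁻¹, V.inv_mem x.mem⟩⟩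

variable [hc : Fact (∀ u ∈ V, ∀ v ∈ V, u * v = v * u)]

instance : AddCommGroup (AV V) :=
  { AddGroup.ofLeftAxioms (G := AV V) (fun _ _ _ => ext' (mul_assoc _ _ _))
      (fun _ => ext' (one_mul _)) (fun _ => ext' (inv_mul_cancel _)) with
    add_comm := fun x y => ext' (hc.out _ x.mem _ y.mem) }

@[simp] theorem add_val (x y : AV V) : (x + y).val = x.val * y.val := rfl
@[simp] theorem zero_val : (0 : AV V).val = 1 := rfl
@[simp] theorem neg_val (x : AV V) : (-x).val = x.val⁻¹ := rfl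
@[simp] theorem sub_val (x y : AV V) : (x - y).val = x.val * y.val⁻¹ := by
  rw [sub_eq_add_neg]
  rfl

variable [hn : V.Normal]

instance : DistribMulAction G (AV V) where
  smul g x := ⟨g * x.val * g⁻¹, hn.conj_mem _ x.mem g⟩
  one_smul x := ext' (by
    show 1 * x.val * 1⁻¹ = x.val
    group)
  mul_smul g h x := ext' (by
    show (g * h) * x.val * (g * h)⁻¹ = g * (h * x.val * h⁻¹) * g⁻¹
    group)
  smul_zero g := ext' (by
    show g * 1 * g⁻¹ = 1
    group)
  smul_add g x y := ext' (by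
    show g * (x.val * y.val) * g⁻¹ = g * x.val * g⁻¹ * (g * y.val * g⁻¹)
    group)

@[simp] theorem smul_val (g : G) (x : AV V) : (g • x).val = g * x.val * g⁻¹ := rfl

theorem card_eq [Finite G] : Nat.card (AV V) = Nat.card V :=
  Nat.card_congr ⟨fun x => ⟨x.val, x.mem⟩, fun x => ⟨x.1, x.2⟩, fun _ => rfl, fun _ => rfl⟩

end AV

section Application

variable [Finite G] {V : Subgroup G} [hc : Fact (∀ u ∈ V, ∀ v ∈ V, u * v = v * u)] [hn : V.Normal]

instance : Finite (AV V) :=
  Finite.of_injective (fun x : AV V => x.val) fun _ _ h => AV.ext' h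

/-- A subgroup of `G` from an additive subgroup of `AV V`. -/
def subOf (W₀ : AddSubgroup (AV V)) : Subgroup G where
  carrier := {g | ∃ h : g ∈ V, (⟨g, h⟩ : AV V) ∈ W₀}
  one_mem' := ⟨V.one_mem, W₀.zero_mem⟩
  mul_mem' := by
    rintro x y ⟨hx, hx'⟩ ⟨hy, hy'⟩
    exact ⟨V.mul_mem hx hy, W₀.add_mem hx' hy'⟩
  inv_mem' := by
    rintro x ⟨hx, hx'⟩
    exact ⟨V.inv_mem hx, W₀.neg_mem hx'⟩

theorem mem_subOf_val {W₀ : AddSubgroup (AV V)} {x : AV V} : x.val ∈ subOf W₀ ↔ x ∈ W₀ :=
  ⟨fun ⟨_, h⟩ => h, fun h => ⟨x.mem, h⟩⟩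

theorem noS3_of_free (hS4 : ¬ Involves (Equiv.Perm (Fin 4)) G) (hVexp : ∀ v ∈ V, v * v = 1) :
    NoS3 G (AV V) := by
  intro W₀ a b u v ha ha' hb hb' hu hv huv h1 h2 h3 h4
  apply hS4
  have hnorm : ∀ g : G, (∀ x ∈ W₀, g • x ∈ W₀) → (∀ x ∈ W₀, g⁻¹ • x ∈ W₀) →
      g ∈ normalizer ((subOf W₀ : Subgroup G) : Set G) := by
    intro g h5 h6
    rw [mem_normalizer_iff]
    intro x
    constructor
    · rintro ⟨hx, hx'⟩
      exact ⟨_, h5 _ hx'⟩
    · rintro ⟨hx, hx'⟩
      have hxV : x ∈ V := by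
        have := hn.conj_mem _ hx g⁻¹
        have e : g⁻¹ * (g * x * g⁻¹) * g⁻¹⁻¹ = x := by group
        rwa [e] at this
      refine ⟨hxV, ?_⟩
      have e := h6 _ hx'
      have e2 : g⁻¹ • (⟨g * x * g⁻¹, hx⟩ : AV V) = ⟨x, hxV⟩ := by
        apply AV.ext'
        show g⁻¹ * (g * x * g⁻¹) * g⁻¹⁻¹ = x
        group
      rwa [e2] at e
  have hnormV : ∀ w : AV V, w.val ∈ normalizer ((subOf W₀ : Subgroup G) : Set G) := by
    intro w
    rw [mem_normalizer_iff]
    intro x
    constructor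
    · intro hx
      have hxV : x ∈ V := hx.1
      have e : w.val * x * w.val⁻¹ = x := by
        rw [hc.out _ w.mem _ hxV]
        group
      rwa [e]
    · intro hx
      have hxV : w.val * x * w.val⁻¹ ∈ V := hx.1
      have hxV2 : x ∈ V := by
        have := V.mul_mem (V.mul_mem (V.inv_mem w.mem) hxV) w.mem
        have e : w.val⁻¹ * (w.val * x * w.val⁻¹) * w.val = x := by group
        rwa [e] at this
      have e : w.val * x * w.val⁻¹ = x := by
        rw [hc.out _ w.mem _ hxV2]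
        group
      rwa [e] at hx
  refine involves_S4_of_section (W := subOf W₀) (a := a) (b := b) (u := u.val) (v := v.val)
    (hnorm a ha ha') (hnorm b hb hb') (hnormV u) (hnormV v) (hc.out _ u.mem _ v.mem)
    (hVexp _ u.mem) (hVexp _ v.mem) ?_ ?_ ?_ ?_ ?_ ?_ ?_
  · exact fun h => hu (mem_subOf_val.mp h)
  · exact fun h => hv (mem_subOf_val.mp h)
  · exact fun h => huv (mem_subOf_val (x := u + v).mp h)
  · have := mem_subOf_val.mpr h1
    simpa using this
  · have := mem_subOf_val.mpr h2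
    simpa using this
  · have := mem_subOf_val.mpr h3
    simpa using this
  · have := mem_subOf_val.mpr h4
    simpa using this

end Application

end Cfsg.Agent.Lib.Tech.FFA
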