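import Cfsg.Agent.Lib.Tech.FFA6
import Cfsg.Agent.Lib.Tech.CentricRad3
import Cfsg.Agent.Lib.Components.PComp2

/-!
# `S₄`-free groups with Sylow `2`-subgroups of class at most two.
-/

set_option autoImplicit false
set_option linter.unusedSectionVars false
set_option linter.style.haveILetI false

namespace Cfsg.Agent.Lib.Tech.FFA

open Cfsg Subgroup Cfsg.Agent.Lib.LocalEven Cfsg.Agent.Lib.PLocal
open scoped commutatorElement

variable {G : Type*} [Group G]

theorem isEA_sup_two {H K : Subgroup G} (hH : IsElementaryAbelian 2 H)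
    (hK : IsElementaryAbelian 2 K) (hc : ∀ h ∈ H, ∀ k ∈ K, h * k = k * h) :
    IsElementaryAbelian 2 (H ⊔ K) := by
  have hcomm := comm_sup (isEA_iff.mp hH).1 (isEA_iff.mp hK).1 hc
  refine isEA_iff.mpr ⟨hcomm, fun x hx => ?_⟩
  have hcl : Subgroup.closure ((H : Set G) ∪ K) = H ⊔ K := (sup_eq_closure H K).symm
  rw [sup_eq_closure] at hx
  induction hx using Subgroup.closure_induction with
  | mem x hx =>
    rcases hx with hx | hx
    · exact (isEA_iff.mp hH).2 x hx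
    · exact (isEA_iff.mp hK).2 x hx
  | one => exact one_pow 2
  | mul x y h₁ h₂ ih₁ ih₂ =>
    rw [hcl] at h₁ h₂
    have : Commute x y := hcomm x h₁ y h₂
    rw [this.mul_pow, ih₁, ih₂, one_mul]
  | inv x _ ih => rw [inv_pow, ih, inv_one]

theorem card_sup_mul_card_inf_normal [Finite G] (A B : Subgroup G) [B.Normal] :
    Nat.card ↥(A ⊔ B) * Nat.card ↥(A ⊓ B) = Nat.card A * Nat.card B := by
  have h1 : B.relIndex (A ⊔ B) = B.relIndex A := Subgroup.relIndex_sup_right A B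
  have h2 : Nat.card ↥(A ⊔ B) = Nat.card B * B.relIndex (A ⊔ B) :=
    (Cfsg.Agent.Lib.OddLocal.card_mul_relIndex le_sup_right).symm
  have h3 : Nat.card A = Nat.card ↥(A ⊓ B) * B.relIndex A := by
    rw [← Subgroup.inf_relIndex_left A B]
    exact (Cfsg.Agent.Lib.OddLocal.card_mul_relIndex inf_le_left).symm
  rw [h2, h1, h3]
  ring

theorem offender_count [Finite G] {V S A : Subgroup G} [hVn : V.Normal]
    (hVcomm : ∀ u ∈ V, ∀ v ∈ V, u * v = v * u) (hVexp : ∀ v ∈ V, v * v = 1) (hVS : V ≤ S)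
    (hA : IsMaxEAIn 2 S A) :
    Nat.card V ≤ (centralizer (V : Set G)).relIndex A * Nat.card ↥(V ⊓ centralizer (A : Set G)) := by
  have hAea := isEA_iff.mp hA.2.1
  have hVea : IsElementaryAbelian 2 V :=
    isEA_iff.mpr ⟨hVcomm, fun v hv => by rw [pow_two]; exact hVexp v hv⟩
  obtain ⟨CV, hCV⟩ : ∃ CV, CV = V ⊓ centralizer (A : Set G) := ⟨_, rfl⟩
  obtain ⟨CA, hCA⟩ : ∃ CA, CA = A ⊓ centralizer (V : Set G) := ⟨_, rfl⟩
  have hCVV : CV ≤ V := hCV ▸ inf_le_left
  have hCVc : ∀ x ∈ CV, ∀ a ∈ A, a * x = x * a := fun x hx a ha => by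
    rw [hCV] at hx
    exact mem_centralizer_iff.mp hx.2 a ha
  have hCAA : CA ≤ A := hCA ▸ inf_le_left
  have hCAc : ∀ x ∈ CA, ∀ v ∈ V, v * x = x * v := fun x hx v hv => by
    rw [hCA] at hx
    exact mem_centralizer_iff.mp hx.2 v hv
  have hCVea : IsElementaryAbelian 2 CV :=
    isEA_iff.mpr ⟨fun a ha b hb => hVcomm a (hCVV ha) b (hCVV hb),
      fun a ha => (isEA_iff.mp hVea).2 a (hCVV ha)⟩
  have hCAea : IsElementaryAbelian 2 CA :=
    isEA_iff.mpr ⟨fun a ha b hb => hAea.1 a (hCAA ha) b (hCAA hb),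
      fun a ha => hAea.2 a (hCAA ha)⟩
  -- `C_V(A) ≤ A`
  have hCVA : CV ≤ A := by
    have hE1 : IsElementaryAbelian 2 (CV ⊔ A) :=
      isEA_sup_two hCVea hA.2.1 fun x hx a ha => (hCVc x hx a ha).symm
    have h1 := hA.2.2 _ (sup_le (hCVV.trans hVS) hA.1) hE1
    have h2 : A = CV ⊔ A := Subgroup.eq_of_le_of_card_ge le_sup_right h1
    rw [h2]
    exact le_sup_left
  have hinf : CA ⊓ V = CV := by
    apply le_antisymm
    · rintro x ⟨hx1, hx2⟩
      rw [hCV]
      refine ⟨hx2, mem_centralizer_iff.mpr fun a ha => ?_⟩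
      exact hAea.1 a ha x (hCAA hx1)
    · intro x hx
      refine ⟨?_, hCVV hx⟩
      rw [hCA]
      refine ⟨hCVA hx, mem_centralizer_iff.mpr fun v hv => ?_⟩
      exact hVcomm v hv x (hCVV hx)
  have hE2 : IsElementaryAbelian 2 (CA ⊔ V) :=
    isEA_sup_two hCAea hVea fun x hx v hv => (hCAc x hx v hv).symm
  have h3 := hA.2.2 _ (sup_le (hCAA.trans hA.1) hVS) hE2
  have h4 := card_sup_mul_card_inf_normal CA V
  rw [hinf] at h4
  have h5 : Nat.card A = Nat.card CA * (centralizer (V : Set G)).relIndex A := by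
    rw [← Subgroup.inf_relIndex_left A, ← hCA]
    exact (Cfsg.Agent.Lib.OddLocal.card_mul_relIndex hCAA).symm
  have hpos : 0 < Nat.card CA := Nat.card_pos
  apply Nat.le_of_mul_le_mul_left _ hpos
  rw [← h4, ← hCV]
  calc Nat.card ↥(CA ⊔ V) * Nat.card CV ≤ Nat.card A * Nat.card CV := by gcongr
    _ = _ := by rw [h5]; ring

section Application

variable [Finite G]

theorem le_pCore_of_maxEA_quad_aux {V : Subgroup G} [hc : Fact (∀ u ∈ V, ∀ v ∈ V, u * v = v * u)]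
    [hn : V.Normal] (hS4 : ¬ Involves (Equiv.Perm (Fin 4)) G) (hVexp : ∀ v ∈ V, v * v = 1)
    (hC : ∀ x : G, (∀ v ∈ V, x * v = v * x) → x ∈ pCore 2 G)
    (hQV : ∀ x ∈ pCore 2 G, ∀ v ∈ V, x * v = v * x) {S : Subgroup G} (hVS : V ≤ S)
    (hquad : ∀ T : Subgroup G, IsPGroup 2 T → ∀ s ∈ T, ∀ s' ∈ T, ∀ v ∈ V,
      s * (s' * v * s'⁻¹ * v⁻¹) * s⁻¹ = s' * v * s'⁻¹ * v⁻¹)
    {A : Subgroup G} (hA : IsMaxEAIn 2 S A) : A ≤ pCore 2 G := by
  classical
  haveI : Fact (Nat.Prime 2) := ⟨Nat.prime_two⟩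
  have hV2 : ∀ x : AV V, x + x = 0 := fun x => AV.ext' (hVexp _ x.mem)
  have hQ : QuadH G (AV V) := by
    intro T hT s hs s' hs' x
    apply AV.ext'
    simp only [AV.sub_val, AV.smul_val]
    exact hquad T hT s hs s' hs' _ x.mem
  have hS3 := noS3_of_free (V := V) hS4 hVexp
  have hcent : ∀ {g : G}, (∀ x : AV V, g • x = x) → ∀ v ∈ V, g * v = v * g := by
    intro g h v hv
    have h1 := congrArg AV.val (h ⟨v, hv⟩)
    simp only [AV.smul_val] at h1
    exact mul_inv_eq_iff_eq_mul.mp h1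
  have hO : ∀ N : Subgroup G, N.Normal → (∀ n ∈ N, ∃ k : ℕ, ∀ x : AV V, n ^ 2 ^ k • x = x) →
      ∀ n ∈ N, ∀ x : AV V, n • x = x := by
    intro N hN h n hn x
    have hNp : IsPGroup 2 N := by
      rintro ⟨n, hn⟩
      obtain ⟨k, hk⟩ := h n hn
      have h1 : n ^ 2 ^ k ∈ pCore 2 G := hC _ (hcent hk)
      obtain ⟨m, hm⟩ := Cfsg.Agent.Lib.Basic.pCore_isPGroup (G := G) 2 ⟨_, h1⟩
      refine ⟨k + m, Subtype.ext ?_⟩
      have := congrArg Subtype.val hm
      simpa [pow_add, pow_mul] using this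
    have h1 : n ∈ pCore 2 G := Cfsg.Agent.Lib.Basic.le_pCore hN hNp hn
    apply AV.ext'
    simp only [AV.smul_val]
    rw [hQV n h1 _ x.mem]
    group
  have hAp : IsPGroup 2 A := by
    rintro ⟨a, ha⟩
    refine ⟨1, Subtype.ext ?_⟩
    exact (isEA_iff.mp hA.2.1).2 a ha
  have hSTeq : (ST (⊥ : AddSubgroup (AV V)) ⊤ : Subgroup G) = centralizer (V : Set G) := by
    ext g
    constructor
    · intro hg
      rw [mem_centralizer_iff]
      intro v hv
      have h1 : g • (⟨v, hv⟩ : AV V) - ⟨v, hv⟩ ∈ (⊥ : AddSubgroup (AV V)) :=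
        ST_apply hg (AddSubgroup.mem_top _)
      rw [AddSubgroup.mem_bot, sub_eq_zero] at h1
      exact (hcent (g := g) (by
        intro x
        have h2 : g • x - x ∈ (⊥ : AddSubgroup (AV V)) := ST_apply hg (AddSubgroup.mem_top _)
        rw [AddSubgroup.mem_bot, sub_eq_zero] at h2
        exact h2) v hv).symm
    · intro hg
      rw [mem_centralizer_iff] at hg
      have hbot : InvS (⊤ : Subgroup G) (⊥ : AddSubgroup (AV V)) := by
        intro n _ x hx
        rw [AddSubgroup.mem_bot] at hx ⊢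
        rw [hx, smul_zero]
      apply mem_ST_of hbot (mem_top g)
      intro x _
      rw [AddSubgroup.mem_bot, sub_eq_zero]
      apply AV.ext'
      simp only [AV.smul_val]
      rw [← hg _ x.mem]
      group
  have hcard : Nat.card (cenS (⊥ : AddSubgroup (AV V)) ⊤ (A : Set G)) =
      Nat.card ↥(V ⊓ centralizer (A : Set G)) := by
    refine Nat.card_congr ⟨fun x => ⟨x.1.val, x.1.mem, mem_centralizer_iff.mpr fun a ha => ?_⟩,
      fun x => ⟨⟨x.1, x.2.1⟩, AddSubgroup.mem_top _, fun a ha => ?_⟩, fun x => ?_, fun x => ?_⟩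
    · have h1 := x.2.2 a ha
      rw [AddSubgroup.mem_bot, sub_eq_zero] at h1
      have h2 := congrArg AV.val h1
      simp only [AV.smul_val] at h2
      exact mul_inv_eq_iff_eq_mul.mp h2
    · rw [AddSubgroup.mem_bot, sub_eq_zero]
      apply AV.ext'
      simp only [AV.smul_val]
      have h1 := mem_centralizer_iff.mp x.2.2 a ha
      rw [h1]
      group
    · rfl
    · rfl
  have hoff : Nat.card (AV V) ≤ (ST (⊥ : AddSubgroup (AV V)) ⊤ : Subgroup G).relIndex A *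
      Nat.card (cenS (⊥ : AddSubgroup (AV V)) ⊤ (A : Set G)) := by
    rw [hSTeq, hcard, AV.card_eq]
    exact offender_count hc.out hVexp hVS hA
  intro a ha
  apply hC
  intro v hv
  exact hcent (fun x => ffa_main hV2 hQ hS3 hO A hAp hoff a ha x) v hv

/-- **The key lemma**, with the quadratic action of `2`-subgroups. -/
theorem le_pCore_of_maxEA_quad (hS4 : ¬ Involves (Equiv.Perm (Fin 4)) G) {V : Subgroup G}
    (hVn : V.Normal) (hVcomm : ∀ u ∈ V, ∀ v ∈ V, u * v = v * u) (hVexp : ∀ v ∈ V, v * v = 1)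
    (hC : ∀ x : G, (∀ v ∈ V, x * v = v * x) → x ∈ pCore 2 G)
    (hQV : ∀ x ∈ pCore 2 G, ∀ v ∈ V, x * v = v * x) {S : Subgroup G} (hVS : V ≤ S)
    (hquad : ∀ T : Subgroup G, IsPGroup 2 T → ∀ s ∈ T, ∀ s' ∈ T, ∀ v ∈ V,
      s * (s' * v * s'⁻¹ * v⁻¹) * s⁻¹ = s' * v * s'⁻¹ * v⁻¹)
    {A : Subgroup G} (hA : IsMaxEAIn 2 S A) : A ≤ pCore 2 G := by
  haveI : Fact (∀ u ∈ V, ∀ v ∈ V, u * v = v * u) := ⟨hVcomm⟩
  exact le_pCore_of_maxEA_quad_aux hS4 hVexp hC hQV hVS hquad hA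

end Application

end Cfsg.Agent.Lib.Tech.FFA
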