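import Cfsg.Agent.Lib.Tech.FFA7

/-!
# `S₄`-free `2`-constrained groups with Sylow `2`-subgroups of class at most two:
`J_e(S)` controls the group modulo `O_{2'}`.
-/

set_option autoImplicit false
set_option linter.unusedSectionVars false
set_option linter.style.haveILetI false

namespace Cfsg.Agent.Lib.Tech.FFA

open Cfsg Subgroup Cfsg.Agent.Lib.LocalEven Cfsg.Agent.Lib.PLocal Cfsg.Agent.Lib.Tech
open scoped commutatorElement

/-- **The reduced case.** -/
theorem thompson_normal_con {X : Type*} [Group X] [Finite X]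
    (hS4 : ¬ Involves (Equiv.Perm (Fin 4)) X) (hCQ : centralizer (pCore 2 X : Set X) ≤ pCore 2 X)
    (S : Sylow 2 X)
    (hcl : ∀ s₁ ∈ (S : Subgroup X), ∀ s₂ ∈ (S : Subgroup X), ∀ s₃ ∈ (S : Subgroup X),
      ⁅⁅s₁, s₂⁆, s₃⁆ = 1) :
    (thompsonSubgroupOf 2 (S : Subgroup X)).Normal := by
  classical
  haveI : Fact (Nat.Prime 2) := ⟨Nat.prime_two⟩
  set Q := pCore 2 X with hQdef
  haveI hQn : Q.Normal := Cfsg.Agent.Lib.Basic.pCore_normal 2
  have hQp : IsPGroup 2 Q := Cfsg.Agent.Lib.Basic.pCore_isPGroup 2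
  have hQS : Q ≤ S := Cfsg.Agent.Lib.Basic.pCore_le_sylow S
  let Z : Subgroup X := Q ⊓ centralizer (Q : Set X)
  haveI hZn : Z.Normal := inferInstance
  have hZQ : Z ≤ Q := inf_le_left
  have hZc : ∀ u ∈ Z, ∀ q ∈ Q, q * u = u * q := fun u hu q hq =>
    mem_centralizer_iff.mp (mem_inf.mp hu).2 q hq
  have hZcomm : ∀ u ∈ Z, ∀ v ∈ Z, u * v = v * u := fun u hu v hv =>
    hZc v hv u (hZQ hu)
  obtain ⟨V, hVn, hVmem⟩ := exists_omega_two hZcomm
  have hVZ : V ≤ Z := fun x hx => ((hVmem x).mp hx).1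
  -- the kernel on `Q / Z`
  let πZ : X →* X ⧸ Z := QuotientGroup.mk' Z
  haveI hQbar : (Q.map πZ).Normal := hQn.map _ (QuotientGroup.mk'_surjective Z)
  let H : Subgroup X := (centralizer ((Q.map πZ : Subgroup _) : Set (X ⧸ Z))).comap πZ
  haveI hHn : H.Normal := inferInstance
  have hHmem : ∀ x, x ∈ H ↔ ∀ q ∈ Q, ⁅x, q⁆ ∈ Z := by
    intro x
    rw [mem_comap, mem_centralizer_iff]
    constructor
    · intro h q hq
      have h1 := h (πZ q) (mem_map_of_mem _ hq)
      have h2 : πZ ⁅x, q⁆ = 1 := by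
        rw [commutatorElement_def, map_mul, map_mul, map_mul, map_inv, map_inv, ← h1]
        group
      exact (QuotientGroup.eq_one_iff _).mp h2
    · rintro h _ ⟨q, hq, rfl⟩
      have h2 : πZ ⁅x, q⁆ = 1 := (QuotientGroup.eq_one_iff _).mpr (h q hq)
      rw [commutatorElement_def, map_mul, map_mul, map_mul, map_inv, map_inv] at h2
      have h3 : πZ x * πZ q * (πZ x)⁻¹ = πZ q := mul_inv_eq_one.mp h2
      calc πZ q * πZ x = πZ x * πZ q * (πZ x)⁻¹ * πZ x := by rw [h3]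
        _ = πZ x * πZ q := by group
  have hSH : (S : Subgroup X) ≤ H := by
    intro s hs
    rw [hHmem]
    intro q hq
    refine mem_inf.mpr ⟨?_, mem_centralizer_iff.mpr ?_⟩
    · rw [commutatorElement_def]
      exact Q.mul_mem (hQn.conj_mem q hq s) (Q.inv_mem hq)
    · intro r hr
      have h1 := hcl s hs q (hQS hq) r (hQS hr)
      rw [commutatorElement_eq_one_iff_mul_comm] at h1
      exact h1.symm
  have hQH : Q ≤ H := hQS.trans hSH
  -- the group `↥H`
  have hS4' : ¬ Involves (Equiv.Perm (Fin 4)) H := fun h =>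
    hS4 (Cfsg.Agent.Lib.Fusion.Qd.involves_of_subgroup H h)
  haveI hCh : (pCore 2 H).Characteristic := Cfsg.Agent.Lib.Basic.pCore_characteristic 2
  have hRn : ((pCore 2 H).map H.subtype).Normal :=
    Cfsg.Agent.Lib.Coprime.normal_map_subtype_of_characteristic H (pCore 2 H)
  have hRQ : (pCore 2 H).map H.subtype ≤ Q :=
    Cfsg.Agent.Lib.Basic.le_pCore hRn ((Cfsg.Agent.Lib.Basic.pCore_isPGroup 2).map _)
  have hV'n : (V.subgroupOf H).Normal := hVn.subgroupOf H
  have hVc : ∀ v ∈ V, ∀ q ∈ Q, q * v = v * q := fun v hv q hq => hZc v (hVZ hv) q hq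
  -- odd elements centralizing `V`
  have hodd1 : ∀ o ∈ H, (∀ v ∈ V, o * v = v * o) → Odd (orderOf o) → o = 1 := by
    intro o hoH hoV hoodd
    have hZp : IsPGroup 2 Z := hQp.to_le hZQ
    have hcop : ∀ W : Subgroup X, W.Normal → IsPGroup 2 W →
        Cfsg.Agent.Lib.Coprime.CoprimeAction (zpowers o) W := by
      intro W hW hWp
      refine ⟨?_, ?_, Or.inl ?_⟩
      · rw [normalizer_eq_top_iff.mpr hW]
        exact le_top
      · obtain ⟨k, hk⟩ := IsPGroup.iff_card.mp hWp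
        rw [hk, Nat.card_zpowers]
        exact Nat.Coprime.pow_right k (Nat.coprime_two_right.mpr hoodd)
      · exact Group.isSolvable_of_comm fun a b => by
          obtain ⟨a, ha⟩ := a
          obtain ⟨b, hb⟩ := b
          obtain ⟨i, rfl⟩ := mem_zpowers_iff.mp ha
          obtain ⟨j, rfl⟩ := mem_zpowers_iff.mp hb
          apply Subtype.ext
          exact (Commute.refl o).zpow_zpow i j |>.eq
    have hcentt : ∀ y : X, o * y = y * o → y ∈ centralizer (zpowers o : Set X) := by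
      intro y hy
      rw [mem_centralizer_iff]
      intro t ht
      obtain ⟨n, rfl⟩ := mem_zpowers_iff.mp ht
      exact ((show Commute o y from hy).zpow_left n).eq
    have hZcm : IsMulCommutative Z := ⟨⟨fun a b => Subtype.ext (hZcomm a.1 a.2 b.1 b.2)⟩⟩
    have h1 : ⁅Z, zpowers o⁆ = ⊥ := by
      apply (hcop Z hZn hZp).commutator_eq_bot_of_omega hZcm hZp
      intro x hx hx2
      apply hcentt
      apply hoV
      rw [hVmem]
      refine ⟨hx, ?_⟩
      rwa [pow_two] at hx2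
    have h2 : ⁅Q, zpowers o⁆ = ⊥ := by
      apply (hcop Q hQn hQp).commutator_eq_bot_of_chain (N := Z) ?_ h1
      rw [commutator_le]
      intro q hq t ht
      have htH : t ∈ H := by
        obtain ⟨n, rfl⟩ := mem_zpowers_iff.mp ht
        exact zpow_mem hoH n
      have h3 := (hHmem t).mp htH q hq
      have h4 : ⁅q, t⁆ = ⁅t, q⁆⁻¹ := (commutatorElement_inv t q).symm
      rw [h4]
      exact Z.inv_mem h3
    have h3 : o ∈ centralizer (Q : Set X) := by
      rw [mem_centralizer_iff]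
      intro q hq
      have h4 := commutator_mem_commutator hq (mem_zpowers o)
      rw [h2, mem_bot, commutatorElement_eq_one_iff_mul_comm] at h4
      exact h4
    have h4 : o ∈ Q := hCQ h3
    obtain ⟨k, hk⟩ := hQp ⟨o, h4⟩
    have h5 : o ^ 2 ^ k = 1 := congrArg Subtype.val hk
    have h6 : orderOf o ∣ 2 ^ k := orderOf_dvd_of_pow_eq_one h5
    have h7 : Nat.Coprime (orderOf o) (2 ^ k) := Nat.Coprime.pow_right k (Nat.coprime_two_right.mpr hoodd)
    exact orderOf_eq_one_iff.mp (Nat.Coprime.eq_one_of_dvd h7 h6)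
  have hC' : ∀ x : H, (∀ v ∈ V.subgroupOf H, x * v = v * x) → x ∈ pCore 2 H := by
    haveI : (centralizer (V : Set X)).Normal := inferInstance
    have hL : ((centralizer (V : Set X)).subgroupOf H).Normal :=
      Subgroup.Normal.subgroupOf inferInstance H
    have hLp : IsPGroup 2 ((centralizer (V : Set X)).subgroupOf H) := by
      intro y
      obtain ⟨t, o, hy, -, ⟨k, ht⟩, hoodd, -, hoz⟩ :=
        Cfsg.Agent.Lib.PGroups.exists_pPart 2 ((y : H) : X)
      have hyH : ((y : H) : X) ∈ H := (y : H).2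
      have hyC : ((y : H) : X) ∈ centralizer (V : Set X) := mem_subgroupOf.mp y.2
      obtain ⟨n, rfl⟩ := mem_zpowers_iff.mp hoz
      have ho1 : ((y : H) : X) ^ n = 1 := by
        apply hodd1 _ (zpow_mem hyH n)
        · intro v hv
          have h1 := mem_centralizer_iff.mp hyC v hv
          exact (((show Commute v _ from h1).symm).zpow_left n).eq
        · exact Nat.not_even_iff_odd.mp fun h => hoodd (even_iff_two_dvd.mp h)
      rw [ho1, mul_one] at hy
      refine ⟨k, ?_⟩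
      apply Subtype.ext
      apply Subtype.ext
      have h2 : ((y : H) : X) ^ 2 ^ k = 1 := by
        rw [hy, ← ht]
        exact pow_orderOf_eq_one t
      exact h2
    intro x hx
    apply Cfsg.Agent.Lib.Basic.le_pCore hL hLp
    rw [mem_subgroupOf, mem_centralizer_iff]
    intro v hv
    have h1 := hx ⟨v, hQH (hZQ (hVZ hv))⟩ hv
    exact (congrArg Subtype.val h1).symm
  have hQV' : ∀ x ∈ pCore 2 H, ∀ v ∈ V.subgroupOf H, x * v = v * x := by
    intro x hx v hv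
    have hxQ : (x : X) ∈ Q := hRQ ⟨x, hx, rfl⟩
    apply Subtype.ext
    exact hVc v (mem_subgroupOf.mp hv) _ hxQ
  -- `2`-subgroups act quadratically on `V`
  have hquadX : ∀ T : Subgroup X, IsPGroup 2 T → ∀ s ∈ T, ∀ s' ∈ T, ∀ v ∈ V,
      s * (s' * v * s'⁻¹ * v⁻¹) * s⁻¹ = s' * v * s'⁻¹ * v⁻¹ := by
    intro T hT s hs s' hs' v hv
    obtain ⟨c, -, hc⟩ := Cfsg.Agent.Lib.Tech.exists_conj_le_sylow S ⊤ le_top T hT le_top
    have hvS : c * v * c⁻¹ ∈ (S : Subgroup X) := hQS (hZQ (hVZ (hVn.conj_mem v hv c)))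
    have h1 := hcl _ (hc s' hs') _ hvS _ (hc s hs)
    rw [commutatorElement_eq_one_iff_mul_comm] at h1
    have e1 : ⁅c * s' * c⁻¹, c * v * c⁻¹⁆ = c * (s' * v * s'⁻¹ * v⁻¹) * c⁻¹ := by
      rw [commutatorElement_def]
      group
    rw [e1] at h1
    have h2 : (c * (s' * v * s'⁻¹ * v⁻¹) * c⁻¹) * (c * s * c⁻¹) = c * ((s' * v * s'⁻¹ * v⁻¹) * s) * c⁻¹ := by
      group
    have h3 : (c * s * c⁻¹) * (c * (s' * v * s'⁻¹ * v⁻¹) * c⁻¹) = c * (s * (s' * v * s'⁻¹ * v⁻¹)) * c⁻¹ := by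
      group
    rw [h2, h3] at h1
    have h4 : (s' * v * s'⁻¹ * v⁻¹) * s = s * (s' * v * s'⁻¹ * v⁻¹) := by
      have := mul_left_cancel (mul_right_cancel h1)
      exact this
    rw [← h4]
    group
  have hquadH : ∀ T : Subgroup H, IsPGroup 2 T → ∀ s ∈ T, ∀ s' ∈ T, ∀ v ∈ V.subgroupOf H,
      s * (s' * v * s'⁻¹ * v⁻¹) * s⁻¹ = s' * v * s'⁻¹ * v⁻¹ := by
    intro T hT s hs s' hs' v hv
    apply Subtype.ext
    exact hquadX (T.map H.subtype) (hT.map _) s.1 ⟨s, hs, rfl⟩ s'.1 ⟨s', hs', rfl⟩ v.1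
      (mem_subgroupOf.mp hv)
  have hAQ : ∀ A, IsMaxEAIn 2 (S : Subgroup X) A → A ≤ Q := by
    intro A hA
    have hS'map : ((S : Subgroup X).subgroupOf H).map H.subtype = S := by
      rw [subgroupOf_map_subtype]
      exact inf_eq_left.mpr hSH
    have hA' := IsMaxEAIn.of_map H.subtype (T := (S : Subgroup X).subgroupOf H) (A := A)
      (fun x _ hx => H.subtype_injective (by simpa using hx)) (by rw [hS'map]; exact hA)
    have hV'S' : V.subgroupOf H ≤ (S : Subgroup X).subgroupOf H := fun v hv =>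
      mem_subgroupOf.mpr (hQS (hZQ (hVZ (mem_subgroupOf.mp hv))))
    have hle := le_pCore_of_maxEA_quad hS4' hV'n
      (fun u hu v hv => Subtype.ext (hZcomm _ (hVZ (mem_subgroupOf.mp hu)) _ (hVZ (mem_subgroupOf.mp hv))))
      (fun v hv => Subtype.ext ((hVmem _).mp (mem_subgroupOf.mp hv)).2)
      hC' hQV' hV'S' hquadH hA'
    intro a ha
    have haS := hA.1 ha
    have haH := hSH haS
    have h1 : (⟨a, haH⟩ : H) ∈ (S : Subgroup X).subgroupOf H ⊓ A.comap H.subtype := ⟨haS, ha⟩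
    exact hRQ ⟨_, hle h1, rfl⟩
  have hJQ : thompsonSubgroupOf 2 (S : Subgroup X) ≤ Q := by
    rw [thompsonOf_eq]
    exact sSup_le fun A hA => hAQ A hA
  have hJJ : thompsonSubgroupOf 2 Q = thompsonSubgroupOf 2 (S : Subgroup X) :=
    thompsonOf_eq_of_le hJQ hQS
  rw [← hJJ]
  refine ⟨fun x hx g => ?_⟩
  have hmap : Q.map (MulAut.conj g).toMonoidHom = Q := by
    apply le_antisymm
    · rintro _ ⟨q, hq, rfl⟩
      exact hQn.conj_mem q hq g
    · intro q hq
      refine ⟨g⁻¹ * q * g⁻¹⁻¹, hQn.conj_mem q hq g⁻¹, ?_⟩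
      change g * (g⁻¹ * q * g⁻¹⁻¹) * g⁻¹ = q
      group
  have h1 := thompsonOf_conj (p := 2) Q g
  rw [hmap] at h1
  rw [← h1]
  exact ⟨x, hx, rfl⟩

/-- **`S₄`-free `2`-constrained groups with Sylow `2`-subgroups of class at most `2`.** -/
theorem normalizer_thompson_sup_con {G : Type*} [Group G] [Finite G]
    (hcon : IsPConstrained 2 G) (hS4 : ¬ Involves (Equiv.Perm (Fin 4)) G) (S : Sylow 2 G)
    (hcl : Subgroup.lowerCentralSeries (S : Subgroup G) 2 = ⊥) :
    normalizer ((thompsonSubgroupOf 2 (S : Subgroup G)) : Set G) ⊔ pPrimeCore 2 G = ⊤ := by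
  classical
  haveI : Fact (Nat.Prime 2) := ⟨Nat.prime_two⟩
  set K := pPrimeCore 2 G with hKdef
  haveI hKn : K.Normal := Cfsg.Agent.Lib.Basic.pPrimeCore_normal 2
  have hK : (Nat.card K).Coprime 2 := Cfsg.Agent.Lib.Components.coprime_card_pPrimeCore 2
  let π : G →* G ⧸ K := QuotientGroup.mk' K
  have hπs : Function.Surjective π := QuotientGroup.mk'_surjective K
  let Sb : Sylow 2 (G ⧸ K) := S.mapSurjective hπs
  have hSb : (Sb : Subgroup (G ⧸ K)) = (S : Subgroup G).map π := rfl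
  have hCQ' : centralizer (pCore 2 (G ⧸ K) : Set (G ⧸ K)) ≤ pCore 2 (G ⧸ K) :=
    Cfsg.Agent.Lib.Components.isPConstrained_iff_quotient.mp hcon
  have hS4' : ¬ Involves (Equiv.Perm (Fin 4)) (G ⧸ K) := fun h =>
    hS4 (Cfsg.Agent.Lib.Fusion.Qd.involves_of_quotient K h)
  have hcl0 : ∀ s₁ ∈ (S : Subgroup G), ∀ s₂ ∈ (S : Subgroup G), ∀ s₃ ∈ (S : Subgroup G),
      ⁅⁅s₁, s₂⁆, s₃⁆ = 1 := by
    intro s₁ h₁ s₂ h₂ s₃ h₃
    have h1 : ⁅⁅s₁, s₂⁆, s₃⁆ ∈ Subgroup.lowerCentralSeries (S : Subgroup G) 2 :=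
      commutator_mem_commutator (commutator_mem_commutator h₁ h₂) h₃
    rw [hcl, mem_bot] at h1
    exact h1
  have hcl' : ∀ s₁ ∈ (Sb : Subgroup (G ⧸ K)), ∀ s₂ ∈ (Sb : Subgroup (G ⧸ K)),
      ∀ s₃ ∈ (Sb : Subgroup (G ⧸ K)), ⁅⁅s₁, s₂⁆, s₃⁆ = 1 := by
    rw [hSb]
    rintro _ ⟨s₁, h₁, rfl⟩ _ ⟨s₂, h₂, rfl⟩ _ ⟨s₃, h₃, rfl⟩
    rw [← map_commutatorElement, ← map_commutatorElement, hcl0 s₁ h₁ s₂ h₂ s₃ h₃, map_one]
  have hN := thompson_normal_con hS4' hCQ' Sb hcl'
  have hmap : (thompsonSubgroupOf 2 (S : Subgroup G)).map π =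
      thompsonSubgroupOf 2 (Sb : Subgroup (G ⧸ K)) :=
    thompsonOf_map π (Cfsg.Agent.Lib.PLocal.injOn_quotient_of_isPGroup K hK S.isPGroup')
  rw [← hmap] at hN
  have hJp : IsPGroup 2 (thompsonSubgroupOf 2 (S : Subgroup G)) :=
    S.isPGroup'.to_le (map_subtype_le _)
  rw [eq_top_iff]
  intro g _
  have hy : QuotientGroup.mk' K g ∈ normalizer
      (((thompsonSubgroupOf 2 (S : Subgroup G)).map (QuotientGroup.mk' K) : Subgroup _) :
        Set (G ⧸ K)) := by
    rw [normalizer_eq_top_iff.mpr hN]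
    exact mem_top _
  obtain ⟨k, hk, hkn⟩ := exists_normalizer_lift K hK hJp hy
  rw [sup_comm]
  have := mul_mem_sup hk hkn
  simpa using this


end Cfsg.Agent.Lib.Tech.FFA
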