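import Mathlib
import Cfsg.Agent.Lib.Tech.DihInv
import Cfsg.Agent.Lib.Tech.Extremal
import Cfsg.Agent.Lib.Transfer.Frobenius

/-!
# An involution with a unique fixed point on `G / H`

If `z` has a unique fixed point on `G / H`, and so do the products `z t` with `t ≠ z` a conjugate of `z` commuting with `z`,
then `z` is central in a Sylow 2-subgroup of `G`.
-/

set_option autoImplicit false
set_option linter.unusedSectionVars false
set_option linter.style.haveILetI false

namespace Cfsg.Agent.Lib.Tech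

open Cfsg Subgroup

/-- **Unique fixed points** force `z` to be 2-central. -/
theorem exists_sylow_center_of_unique_point {G : Type*} [Group G] [Finite G] (z : G) (hz : orderOf z = 2)
    (H : Subgroup G) (hH : H ≠ ⊤) (h0' : ∀ g : G, g⁻¹ * z * g ∈ H ↔ g ∈ H)
    (h1 : ∀ t : G, IsConj z t → t ≠ z → t * z = z * t → ∀ g : G, g⁻¹ * (z * t) * g ∈ H ↔ g ∈ H) :
    ∃ P : Sylow 2 G, z ∈ (Subgroup.center ↥(P : Subgroup G)).map (P : Subgroup G).subtype := by
  classical
  haveI : Fact (Nat.Prime 2) := ⟨Nat.prime_two⟩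
  haveI := Fintype.ofFinite G
  have hz2 : z * z = 1 := Cfsg.Agent.Lib.TwoFusion.involution_sq hz
  have hzi : z⁻¹ = z := Cfsg.Agent.Lib.TwoFusion.involution_inv hz
  have hzH : z ∈ H := by
    have := (h0' 1).2 H.one_mem
    simpa using this
  have hCz : ∀ x : G, x * z = z * x → x ∈ H := by
    intro x hx
    apply (h0' x).1
    have : x⁻¹ * z * x = z := by
      rw [mul_assoc, ← hx]
      group
    rw [this]
    exact hzH
  -- conjugates of `z`
  have hDconj : ∀ (g x : G), IsConj z x → IsConj z (g * x * g⁻¹) := by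
    intro g x hx
    refine hx.trans ?_
    rw [isConj_iff]
    exact ⟨g, rfl⟩
  have hDsq : ∀ x : G, IsConj z x → x * x = 1 := by
    intro x hx
    obtain ⟨c, rfl⟩ := isConj_iff.1 hx
    calc c * z * c⁻¹ * (c * z * c⁻¹) = c * (z * z) * c⁻¹ := by group
      _ = 1 := by rw [hz2]; group
  have hmemconj : ∀ g : G, IsConj z (g * z * g⁻¹) := fun g => isConj_iff.2 ⟨g, rfl⟩
  have hfixpt : ∀ g a : G, a⁻¹ * (g * z * g⁻¹) * a ∈ H ↔ g⁻¹ * a ∈ H := by
    intro g a
    rw [← h0' (g⁻¹ * a)]
    have : (g⁻¹ * a)⁻¹ * z * (g⁻¹ * a) = a⁻¹ * (g * z * g⁻¹) * a := by group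
    rw [this]
  -- two conjugates with different points have a product of odd order
  have hP3 : ∀ g g' : G, g⁻¹ * g' ∉ H → Odd (orderOf ((g * z * g⁻¹) * (g' * z * g'⁻¹))) := by
    intro g g' hgg
    by_contra hodd
    set x := g * z * g⁻¹ with hx
    set y := g' * z * g'⁻¹ with hy
    have hxD : IsConj z x := hmemconj g
    have hyD : IsConj z y := hmemconj g'
    obtain ⟨m, hm0, -, hu, hux, huy⟩ := exists_central_of_not_odd (hDsq x hxD) (hDsq y hyD) hodd
    obtain ⟨n, rfl⟩ : ∃ n, m = n + 1 := ⟨m - 1, by omega⟩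
    set u := (x * y) ^ (n + 1) with hudef
    set W := (y * x) ^ n * y with hW
    have hWD : IsConj z W :=
      reflection_mem {v | IsConj z v} (fun c v hv => hDconj c v hv) (hDsq y hyD) (hDsq x hxD) hyD hxD n
    have huW : u = x * W := mul_pow_succ_eq x y n
    have hWu : W = x * u := by
      rw [huW, ← mul_assoc, hDsq x hxD, one_mul]
    have hWx : W * x = x * W := by
      rw [hWu]
      calc x * u * x = x * (u * x) := by group
        _ = x * (x * u) := by rw [hux]
    have hWne : W ≠ x := by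
      intro h
      have : u = 1 := by
        rw [huW, h, hDsq x hxD]
      rw [this] at hu
      simp at hu
    -- the conjugate `t` of `z`
    set t := g⁻¹ * W * g with ht
    have htD : IsConj z t := by
      have := hDconj g⁻¹ W hWD
      simpa [ht] using this
    have htne : t ≠ z := by
      intro h
      apply hWne
      rw [hx, ← h, ht]
      group
    have htc : t * z = z * t := by
      have h2 : z = g⁻¹ * x * g := by rw [hx]; group
      calc t * z = g⁻¹ * (W * x) * g := by rw [ht, h2]; group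
        _ = g⁻¹ * (x * W) * g := by rw [hWx]
        _ = z * t := by rw [ht, h2]; group
    have hzt : z * t = g⁻¹ * u * g := by
      have h2 : z = g⁻¹ * x * g := by rw [hx]; group
      rw [huW, ht]
      nth_rewrite 1 [h2]
      group
    have h3 := h1 t htD htne htc (g⁻¹ * g')
    apply hgg
    apply h3.1
    rw [hzt]
    have h4 : (g⁻¹ * g')⁻¹ * (g⁻¹ * u * g) * (g⁻¹ * g') = g'⁻¹ * u * g' := by group
    rw [h4]
    apply hCz
    have h5 : z = g'⁻¹ * y * g' := by rw [hy]; group
    calc g'⁻¹ * u * g' * z = g'⁻¹ * (u * y) * g' := by rw [h5]; group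
      _ = g'⁻¹ * (y * u) * g' := by rw [huy]
      _ = z * (g'⁻¹ * u * g') := by rw [h5]; group
  -- the action on cosets
  let Ω := G ⧸ H
  haveI : Fintype Ω := Fintype.ofFinite Ω
  have hsm : ∀ x a : G, x • ((a : G) : Ω) = (((x * a : G)) : Ω) := fun x a => rfl
  have hfixiff : ∀ x a : G, x • ((a : G) : Ω) = (a : Ω) ↔ a⁻¹ * x * a ∈ H := by
    intro x a
    rw [hsm, QuotientGroup.eq]
    have : (x * a)⁻¹ * a = (a⁻¹ * x * a)⁻¹ := by group
    rw [this, inv_mem_iff]
  let ω₀ : Ω := ((1 : G) : Ω)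
  let Dset : Finset G := Finset.univ.filter (fun x => IsConj z x)
  have hDset : ∀ x : G, x ∈ Dset ↔ IsConj z x := by
    intro x
    simp [Dset]
  let fib : Ω → Finset G := fun α => Dset.filter (fun k => ((k : G) : Ω) = α)
  let fix : Ω → Finset G := fun α => Dset.filter (fun x => x • α = α)
  have hA : Dset.card = ∑ α : Ω, (fib α).card :=
    Finset.card_eq_sum_card_fiberwise (fun _ _ => Finset.mem_coe.2 (Finset.mem_univ _))
  have hB : Dset.card = ∑ α : Ω, (fix α).card := by
    have h2 := Finset.sum_card_bipartiteAbove_eq_sum_card_bipartiteBelow (s := Dset) (t := (Finset.univ : Finset Ω))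
      (fun (x : G) (α : Ω) => x • α = α)
    have h3 : ∀ x ∈ Dset, ((Finset.univ : Finset Ω).bipartiteAbove (fun (x : G) (α : Ω) => x • α = α) x).card = 1 := by
      intro x hx
      obtain ⟨g, rfl⟩ := isConj_iff.1 ((hDset x).1 hx)
      rw [Finset.card_eq_one]
      refine ⟨((g : G) : Ω), ?_⟩
      ext α
      simp only [Finset.bipartiteAbove, Finset.mem_filter, Finset.mem_univ, true_and, Finset.mem_singleton]
      obtain ⟨a, rfl⟩ := QuotientGroup.mk_surjective α
      change (g * z * g⁻¹) • ((a : G) : Ω) = (a : Ω) ↔ ((a : G) : Ω) = (g : Ω)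
      rw [hfixiff, hfixpt, eq_comm, QuotientGroup.eq]
    rw [Finset.sum_congr rfl h3] at h2
    simp only [Finset.sum_const, smul_eq_mul, mul_one] at h2
    exact h2
  have hC : ∀ a : G, (fix ((a : G) : Ω)).card = (fix ω₀).card := by
    intro a
    apply Finset.card_bij (fun x _ => a⁻¹ * x * a)
    · intro x hx
      have h2 := Finset.mem_filter.1 hx
      refine Finset.mem_filter.2 ⟨(hDset _).2 ?_, ?_⟩
      · have := hDconj a⁻¹ x ((hDset x).1 h2.1)
        simpa using this
      · have h3 := (hfixiff x a).1 h2.2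
        change (a⁻¹ * x * a) • ((1 : G) : Ω) = ((1 : G) : Ω)
        rw [hfixiff]
        simpa using h3
    · intro x _ y _ hxy
      have : a * (a⁻¹ * x * a) * a⁻¹ = a * (a⁻¹ * y * a) * a⁻¹ := by rw [hxy]
      simpa [mul_assoc] using this
    · intro y hy
      have h2 := Finset.mem_filter.1 hy
      refine ⟨a * y * a⁻¹, Finset.mem_filter.2 ⟨(hDset _).2 (hDconj a y ((hDset y).1 h2.1)), ?_⟩, by group⟩
      rw [hfixiff]
      have h3 := (hfixiff y 1).1 h2.2
      simpa [mul_assoc] using h3
  set N := (fix ω₀).card with hN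
  have hfib0 : fib ω₀ = fix ω₀ := by
    ext x
    simp only [fib, fix, Finset.mem_filter]
    constructor
    · rintro ⟨h2, h3⟩
      refine ⟨h2, ?_⟩
      change x • ((1 : G) : Ω) = ((1 : G) : Ω)
      rw [hsm, mul_one]
      exact h3
    · rintro ⟨h2, h3⟩
      refine ⟨h2, ?_⟩
      have h4 : x • ((1 : G) : Ω) = ((1 : G) : Ω) := h3
      rw [hsm, mul_one] at h4
      exact h4
  have hmemfix0 : ∀ x : G, x ∈ fix ω₀ ↔ IsConj z x ∧ x ∈ H := by
    intro x
    simp only [fix, Finset.mem_filter, hDset]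
    refine and_congr_right (fun _ => ?_)
    change x • ((1 : G) : Ω) = ((1 : G) : Ω) ↔ _
    rw [hfixiff]
    simp
  -- the lower bound
  have hD : ∀ α : Ω, N ≤ (fib α).card := by
    intro α
    by_cases hα : α = ω₀
    · rw [hα, hfib0]
    obtain ⟨a, rfl⟩ := QuotientGroup.mk_surjective α
    have haH : a ∉ H := by
      intro h
      apply hα
      change ((a : G) : Ω) = ((1 : G) : Ω)
      rw [QuotientGroup.eq]
      simpa using H.inv_mem h
    set d := a * z * a⁻¹ with hd
    have hdD : IsConj z d := hmemconj a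
    apply Finset.card_le_card_of_surjOn (fun k => k * d * k)
    intro i hi
    obtain ⟨hiD, hiH⟩ := (hmemfix0 i).1 hi
    obtain ⟨g, rfl⟩ := isConj_iff.1 hiD
    have hgH : g ∈ H := by
      have h2 := (hfixpt g 1).1 (by simpa using hiH)
      have h3 := H.inv_mem h2
      simpa using h3
    have hgg : g⁻¹ * a ∉ H := by
      intro h2
      apply haH
      have h3 : a = g * (g⁻¹ * a) := by group
      rw [h3]
      exact H.mul_mem hgH h2
    have hodd := hP3 g a hgg
    obtain ⟨r, hr1, hr2⟩ := exists_mid_reflection (hDsq _ hiD) (hDsq _ hdD) hodd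
    set k := ((g * z * g⁻¹) * d) ^ r * (g * z * g⁻¹) with hk
    have hkD : IsConj z k :=
      reflection_mem {v | IsConj z v} (fun c v hv => hDconj c v hv) (hDsq _ hiD) (hDsq _ hdD) hiD hdD r
    have hki : k⁻¹ = k := inv_eq_of_mul_eq_one_left hr1
    refine ⟨k, Finset.mem_filter.2 ⟨(hDset k).2 hkD, ?_⟩, ?_⟩
    · -- `k` lies in `a H`
      rw [eq_comm, QuotientGroup.eq]
      have h3 : k⁻¹ * d * k = g * z * g⁻¹ := by
        rw [hki, ← hr2]
        calc k * (k * (g * z * g⁻¹) * k) * k = (k * k) * (g * z * g⁻¹) * (k * k) := by group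
          _ = _ := by rw [hr1]; group
      have h4 : (a⁻¹ * k)⁻¹ * z * (a⁻¹ * k) = g * z * g⁻¹ := by
        rw [← h3, hd]
        group
      apply (h0' _).1
      rw [h4]
      exact hiH
    · change k * d * k = g * z * g⁻¹
      rw [← hr2]
      calc k * (k * (g * z * g⁻¹) * k) * k = (k * k) * (g * z * g⁻¹) * (k * k) := by group
        _ = _ := by rw [hr1]; group
  -- equality in the count
  have hE : ∀ α : Ω, (fib α).card = N := by
    have h2 : ∑ α : Ω, N = ∑ α : Ω, (fib α).card := by
      rw [← hA, hB]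
      apply Finset.sum_congr rfl
      intro α _
      obtain ⟨a, rfl⟩ := QuotientGroup.mk_surjective α
      exact (hC a).symm
    have h3 := (Finset.sum_eq_sum_iff_of_le (s := Finset.univ) (fun α _ => hD α)).1 h2
    intro α
    exact (h3 α (Finset.mem_univ _)).symm
  have hzfix : z ∈ fix ω₀ := (hmemfix0 z).2 ⟨IsConj.refl _, hzH⟩
  have hNpos : 0 < N := Finset.card_pos.2 ⟨z, hzfix⟩
  -- parity
  have hNodd : Odd N := by
    obtain ⟨a, haH⟩ : ∃ a : G, a ∉ H := by
      by_contra hno
      push Not at hno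
      exact hH (eq_top_iff.2 (fun x _ => hno x))
    have hαne : ((a : G) : Ω) ≠ ω₀ := by
      intro h
      apply haH
      have h2 := QuotientGroup.eq.1 h
      simpa using H.inv_mem h2
    set α : Ω := ((a : G) : Ω) with hα
    have hne : (fib α).Nonempty := by
      rw [← Finset.card_pos, hE]
      exact hNpos
    obtain ⟨k₀, hk₀⟩ := hne
    obtain ⟨hk₀D, hk₀α⟩ := Finset.mem_filter.1 hk₀
    rw [← hE α]
    have hk₀2 : k₀ * k₀ = 1 := hDsq k₀ ((hDset k₀).1 hk₀D)
    have hk₀i : k₀⁻¹ = k₀ := inv_eq_of_mul_eq_one_left hk₀2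
    apply odd_card_of_involution (fib α) (fun x => k₀ * x * k₀) hk₀
    · change k₀ * k₀ * k₀ = k₀
      rw [hk₀2, one_mul]
    · intro x hx
      obtain ⟨hxD, hxα⟩ := Finset.mem_filter.1 hx
      refine Finset.mem_filter.2 ⟨(hDset _).2 ?_, ?_⟩
      · have := hDconj k₀ x ((hDset x).1 hxD)
        rwa [hk₀i] at this
      · have hx2 : x * x = 1 := hDsq x ((hDset x).1 hxD)
        have h2 : ((k₀ * x * k₀ : G) : Ω) = k₀ • x • ((k₀ : G) : Ω) := by
          rw [hsm, hsm, mul_assoc]
        rw [h2, hk₀α, ← hxα, hsm, hsm, hx2, mul_one]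
        exact hk₀α.trans hxα.symm
    · intro x _
      change k₀ * (k₀ * x * k₀) * k₀ = x
      calc k₀ * (k₀ * x * k₀) * k₀ = (k₀ * k₀) * x * (k₀ * k₀) := by group
        _ = x := by rw [hk₀2]; group
    · intro x hx hfx
      by_contra hne
      obtain ⟨hxD, hxα⟩ := Finset.mem_filter.1 hx
      have hxD' := (hDset x).1 hxD
      have hk₀D' := (hDset k₀).1 hk₀D
      have hx2 : x * x = 1 := hDsq x hxD'
      have hcomm : x * k₀ = k₀ * x := by
        have h2 : k₀ * x * k₀ = x := hfx
        calc x * k₀ = (k₀ * x * k₀) * k₀ := by rw [h2]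
          _ = k₀ * x * (k₀ * k₀) := by group
          _ = k₀ * x := by rw [hk₀2, mul_one]
      obtain ⟨g, hg⟩ := isConj_iff.1 hxD'
      set t := g⁻¹ * k₀ * g with ht
      have htD : IsConj z t := by
        have := hDconj g⁻¹ k₀ hk₀D'
        simpa [ht] using this
      have hzx : z = g⁻¹ * x * g := by rw [← hg]; group
      have htne : t ≠ z := by
        intro h
        apply hne
        have h2 : g⁻¹ * k₀ * g = g⁻¹ * x * g := by rw [← ht, h, ← hzx]
        have h3 := mul_left_cancel (mul_right_cancel h2)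
        exact h3.symm
      have htc : t * z = z * t := by
        rw [ht, hzx]
        calc g⁻¹ * k₀ * g * (g⁻¹ * x * g) = g⁻¹ * (k₀ * x) * g := by group
          _ = g⁻¹ * (x * k₀) * g := by rw [hcomm]
          _ = _ := by group
      have hzt : z * t = g⁻¹ * (x * k₀) * g := by
        rw [ht, hzx]
        group
      have hk₀fix : x * k₀ ∈ H := by
        -- `x k₀` fixes the base point
        have h2 : ((x * k₀ : G) : Ω) = x • ((k₀ : G) : Ω) := rfl
        have h3 : ((x * k₀ : G) : Ω) = ω₀ := by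
          rw [h2, hk₀α, ← hxα, hsm, hx2]
        have h4 := QuotientGroup.eq.1 h3
        simpa using H.inv_mem h4
      have hk₀fixa : a⁻¹ * (x * k₀) * a ∈ H := by
        -- `x k₀` fixes `α`
        rw [← hfixiff]
        have h2 : (x * k₀) • ((a : G) : Ω) = x • k₀ • α := by
          rw [mul_smul]
        rw [h2, ← hxα]
        have h3 : x • k₀ • ((x : G) : Ω) = ((x * (k₀ * x) : G) : Ω) := rfl
        rw [h3, ← hcomm, ← mul_assoc, hx2, one_mul]
        exact hk₀α
      have h5 := (h1 t htD htne htc g⁻¹).1 (by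
        rw [hzt]
        have h6 : (g⁻¹)⁻¹ * (g⁻¹ * (x * k₀) * g) * g⁻¹ = x * k₀ := by group
        rw [h6]
        exact hk₀fix)
      have h6 := (h1 t htD htne htc (g⁻¹ * a)).1 (by
        rw [hzt]
        have h7 : (g⁻¹ * a)⁻¹ * (g⁻¹ * (x * k₀) * g) * (g⁻¹ * a) = a⁻¹ * (x * k₀) * a := by group
        rw [h7]
        exact hk₀fixa)
      apply haH
      have h7 : a = g * (g⁻¹ * a) := by group
      rw [h7]
      have h8 : g ∈ H := by simpa using H.inv_mem h5
      exact H.mul_mem h8 h6
  -- `|Ω|` is odd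
  have hΩodd : Odd (Fintype.card Ω) := by
    have h2 := odd_card_of_involution (Finset.univ : Finset Ω) (fun α => z • α) (Finset.mem_univ ω₀)
      (by
        change z • ((1 : G) : Ω) = ((1 : G) : Ω)
        rw [hfixiff]
        simpa using hzH)
      (fun _ _ => Finset.mem_univ _)
      (by
        intro α _
        change z • z • α = α
        rw [← mul_smul, hz2, one_smul])
      (by
        intro α _ hfx
        obtain ⟨a, rfl⟩ := QuotientGroup.mk_surjective α
        have h3 : a⁻¹ * z * a ∈ H := (hfixiff z a).1 hfx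
        have h4 := (h0' a).1 h3
        change ((a : G) : Ω) = ((1 : G) : Ω)
        rw [QuotientGroup.eq]
        simpa using H.inv_mem h4)
    simpa using h2
  have hidx : ¬ 2 ∣ H.index := by
    have h2 : H.index = Fintype.card Ω := by
      rw [Subgroup.index, Nat.card_eq_fintype_card]
    rw [h2]
    exact (Nat.not_even_iff_odd.2 hΩodd) ∘ even_iff_two_dvd.2
  -- a Sylow 2-subgroup inside `H`
  obtain ⟨P₁⟩ : Nonempty (Sylow 2 G) := inferInstance
  have hrel : ¬ 2 ∣ H.relIndex ⊤ := by
    rw [Subgroup.relIndex_top_right]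
    exact hidx
  obtain ⟨c, -, hcP⟩ := exists_conj_le_of_relIndex hrel le_top P₁.2
  let P : Sylow 2 G := (MulAut.conj c) • P₁
  have hPH : (P : Subgroup G) ≤ H := hcP
  -- the action on the conjugates of `z` in `H`
  let Y := {x : G // IsConj z x ∧ x ∈ H}
  letI : MulAction ↥(P : Subgroup G) Y :=
    { smul := fun p x => ⟨(p : G) * x.1 * (p : G)⁻¹, hDconj _ _ x.2.1,
        H.mul_mem (H.mul_mem (hPH p.2) x.2.2) (H.inv_mem (hPH p.2))⟩
      one_smul := by
        intro x
        apply Subtype.ext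
        change ((1 : ↥(P : Subgroup G)) : G) * x.1 * ((1 : ↥(P : Subgroup G)) : G)⁻¹ = x.1
        simp
      mul_smul := by
        intro a b x
        apply Subtype.ext
        change ((a * b : ↥(P : Subgroup G)) : G) * x.1 * ((a * b : ↥(P : Subgroup G)) : G)⁻¹ =
          (a : G) * ((b : G) * x.1 * (b : G)⁻¹) * (a : G)⁻¹
        simp only [Subgroup.coe_mul]
        group }
  have hYcard : ¬ 2 ∣ Nat.card Y := by
    have h2 : Nat.card Y = N := by
      rw [Nat.card_eq_fintype_card, Fintype.card_of_subtype (fix ω₀) hmemfix0]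
    rw [h2]
    exact (Nat.not_even_iff_odd.2 hNodd) ∘ even_iff_two_dvd.2
  obtain ⟨⟨x, hxD, hxH⟩, hfx⟩ := (P.2).nonempty_fixed_point_of_prime_not_dvd_card Y hYcard
  have hcomm : ∀ p ∈ (P : Subgroup G), p * x * p⁻¹ = x := by
    intro p hp
    have := congrArg Subtype.val (hfx ⟨p, hp⟩)
    exact this
  -- `x` lies in `P`
  have hxP : x ∈ (P : Subgroup G) := by
    have hZ : IsPGroup 2 (zpowers x) := by
      rw [IsPGroup.iff_card, Nat.card_zpowers]
      have h3 : orderOf x ∣ 2 ^ 1 := orderOf_dvd_of_pow_eq_one (by rw [pow_one, pow_two]; exact hDsq x hxD)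
      obtain ⟨k, -, hk⟩ := (Nat.dvd_prime_pow Nat.prime_two).1 h3
      exact ⟨k, hk⟩
    have h4 := hZ.inf_normalizer_sylow P
    have hnorm : x ∈ normalizer ((P : Subgroup G) : Set G) := by
      rw [Subgroup.mem_normalizer_iff]
      intro p
      constructor
      · intro hp
        have h6 := hcomm p hp
        have h7 : x * p * x⁻¹ = p := by
          have h8 : p * x = x * p := mul_inv_eq_iff_eq_mul.1 h6
          rw [← h8]
          group
        rw [h7]
        exact hp
      · intro hp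
        have h6 := hcomm _ hp
        have h8 : (x * p * x⁻¹) * x = x * (x * p * x⁻¹) := mul_inv_eq_iff_eq_mul.1 h6
        have h9 : x * p * x⁻¹ = p := by
          have h10 : x * p = x * (x * p * x⁻¹) := by
            rw [← h8]
            group
          exact (mul_left_cancel h10).symm
        rw [h9] at hp
        exact hp
    have h5 : x ∈ zpowers x ⊓ (P : Subgroup G) := h4.le (Subgroup.mem_inf.2 ⟨mem_zpowers x, hnorm⟩)
    exact (Subgroup.mem_inf.1 h5).2
  obtain ⟨g, rfl⟩ := isConj_iff.1 hxD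
  -- the Sylow subgroup
  let Q : Sylow 2 G := g⁻¹ • P
  have hQmem : ∀ w : G, w ∈ (Q : Subgroup G) ↔ g * w * g⁻¹ ∈ (P : Subgroup G) := by
    intro w
    have h := Cfsg.Agent.Lib.Transfer.mem_smul_sylow (g := g⁻¹) (x := w) (P := P)
    rw [inv_inv] at h
    exact h
  have hzQ : z ∈ (Q : Subgroup G) := (hQmem z).2 hxP
  refine ⟨Q, ⟨⟨z, hzQ⟩, ?_, rfl⟩⟩
  change (⟨z, hzQ⟩ : ↥(Q : Subgroup G)) ∈ Subgroup.center ↥(Q : Subgroup G)
  rw [Subgroup.mem_center_iff]
  intro w
  apply Subtype.ext
  change (w : G) * z = z * w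
  have h2 := hcomm _ ((hQmem w).1 w.2)
  have h3 : g * ((w : G) * z) * g⁻¹ = g * (z * (w : G)) * g⁻¹ := by
    have h4 : g * (w : G) * g⁻¹ * (g * z * g⁻¹) = (g * z * g⁻¹) * (g * (w : G) * g⁻¹) := by
      rw [mul_inv_eq_iff_eq_mul.1 h2]
    calc g * ((w : G) * z) * g⁻¹ = g * (w : G) * g⁻¹ * (g * z * g⁻¹) := by group
      _ = (g * z * g⁻¹) * (g * (w : G) * g⁻¹) := h4
      _ = _ := by group
  exact mul_left_cancel (mul_right_cancel h3)

end Cfsg.Agent.Lib.Tech
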