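import Cfsg.Agent.Lib.Tech.Symp3
import Cfsg.Agent.Lib.Coprime.MaxCent
import Cfsg.Agent.Lib.Basic.GenCent
import Cfsg.Agent.Lib.Tech.CentricRad3
import Cfsg.Agent.Lib.OddLocal.PGroup

/-!
# Four-groups in groups of characteristic 2 type.
-/

set_option autoImplicit false
set_option linter.unusedSectionVars false
set_option linter.style.haveILetI false

namespace Cfsg.Agent.Lib.Tech.NG

open Subgroup
open Cfsg.Agent.Lib.Tech.Bnd

variable {G : Type*} [Group G] [Finite G]

/-- The 2-core of the centralizer of an involution. -/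
def Qa (a : G) : Subgroup G := Op 2 (normalizer (zpowers a : Set G))

theorem norm_iff {a : G} (ha : a * a = 1) (ha1 : a ≠ 1) {x : G} :
    x ∈ normalizer (zpowers a : Set G) ↔ x * a = a * x := by
  constructor
  · intro hx
    have h1 : x * a * x⁻¹ ∈ zpowers a := (mem_normalizer_iff.1 hx a).1 (mem_zpowers a)
    obtain ⟨n, hn⟩ := mem_zpowers_iff.1 h1
    have hsq : a ^ 2 = 1 := by rw [pow_two]; exact ha
    rcases Int.even_or_odd' n with ⟨m, rfl | rfl⟩
    · rw [zpow_mul, zpow_ofNat, hsq, one_zpow] at hn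
      exfalso
      apply ha1
      have : x⁻¹ * (x * a * x⁻¹) * x = a := by group
      rw [← this, ← hn]
      group
    · rw [zpow_add, zpow_mul, zpow_ofNat, hsq, one_zpow, one_mul, zpow_one] at hn
      have h9 := hn.symm
      rw [mul_inv_eq_iff_eq_mul] at h9
      exact h9
  · intro hx
    rw [mem_normalizer_iff]
    intro y
    have hc : x * a * x⁻¹ = a := by rw [hx]; group
    constructor
    · intro hy
      obtain ⟨n, rfl⟩ := mem_zpowers_iff.1 hy
      have h1 : x * a ^ n * x⁻¹ = (x * a * x⁻¹) ^ n := by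
        rw [conj_zpow]
      rw [h1, hc]
      exact zpow_mem_zpowers a n
    · intro hy
      obtain ⟨n, hn⟩ := mem_zpowers_iff.1 hy
      have h1 : x * a ^ n = a ^ n * x := (Commute.zpow_right hx n)
      have h2 : y = a ^ n := by
        rw [eq_mul_inv_iff_mul_eq] at hn
        rw [← h1] at hn
        exact (mul_left_cancel hn).symm
      rw [h2]
      exact zpow_mem_zpowers a n

theorem Qa_isP (a : G) : IsPGroup 2 (Qa a) :=
  haveI : Fact (Nat.Prime 2) := ⟨Nat.prime_two⟩
  Op_isP 2 _

theorem Qa_comm {a : G} (ha : a * a = 1) (ha1 : a ≠ 1) {q : G} (hq : q ∈ Qa a) : q * a = a * q :=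
  (norm_iff ha ha1).1 (Op_le 2 _ hq)

theorem Qa_conj {a : G} (ha : a * a = 1) (ha1 : a ≠ 1) {g q : G} (hg : g * a = a * g)
    (hq : q ∈ Qa a) : g * q * g⁻¹ ∈ Qa a :=
  (mem_normalizer_iff.1 (Op_norm 2 _ ((norm_iff ha ha1).2 hg)) q).1 hq

theorem cent_Qa (h2 : Cfsg.IsCharacteristicTwoType G) {a : G} (ha : a * a = 1) (ha1 : a ≠ 1)
    {x : G} (hx : x * a = a * x) (hxq : ∀ q ∈ Qa a, x * q = q * x) : x ∈ Qa a := by
  have hT : IsPGroup 2 (zpowers a) := by
    intro y
    obtain ⟨y, hy⟩ := y
    obtain ⟨n, rfl⟩ := mem_zpowers_iff.1 hy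
    refine ⟨1, ?_⟩
    apply Subtype.ext
    have hsq : a ^ 2 = 1 := by rw [pow_two]; exact ha
    simp only [pow_one, Subgroup.coe_pow, Subgroup.coe_one]
    rw [← zpow_natCast, ← zpow_mul, mul_comm, zpow_mul]
    simp [hsq]
  have hT1 : zpowers a ≠ ⊥ := by
    intro h
    exact ha1 (zpowers_eq_bot.1 h)
  have h3 := h2.2 (zpowers a) hT hT1
  have hxN : x ∈ normalizer (zpowers a : Set G) := (norm_iff ha ha1).2 hx
  have h4 : (⟨x, hxN⟩ : ↥(normalizer (zpowers a : Set G))) ∈
      Cfsg.pCore 2 ↥(normalizer (zpowers a : Set G)) := by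
    apply h3
    rw [Subgroup.mem_centralizer_iff]
    intro q hq
    apply Subtype.ext
    have h5 : (q : G) ∈ Qa a := ⟨q, hq, rfl⟩
    exact (hxq _ h5).symm
  exact ⟨_, h4, rfl⟩

theorem le_Qa {a : G} {Y : Subgroup G} (hY : IsPGroup 2 Y)
    (hYN : Y ≤ normalizer (zpowers a : Set G))
    (hN : normalizer (zpowers a : Set G) ≤ normalizer (Y : Set G)) : Y ≤ Qa a := by
  set N := normalizer (zpowers a : Set G) with hNdef
  have hnorm : (Y.subgroupOf N).Normal := by
    refine ⟨fun y hy g => ?_⟩
    rw [Subgroup.mem_subgroupOf] at hy ⊢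
    exact (mem_normalizer_iff.1 (hN g.2) y).1 hy
  have hp : IsPGroup 2 (Y.subgroupOf N) := by
    intro y
    obtain ⟨k, hk⟩ := hY ⟨y, Subgroup.mem_subgroupOf.1 y.2⟩
    refine ⟨k, ?_⟩
    apply Subtype.ext
    apply Subtype.ext
    simpa using congrArg Subtype.val hk
  have h3 := Cfsg.Agent.Lib.Basic.le_pCore hnorm hp
  intro y hy
  have h4 : (⟨y, hYN hy⟩ : N) ∈ Cfsg.pCore 2 ↥N := h3 (Subgroup.mem_subgroupOf.2 hy)
  exact ⟨_, h4, rfl⟩

/-- The main step: a four-subgroup of a Sylow subgroup which is normal, with a central involution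
`a`, lies in the 2-core of the centralizer of `a`. -/
theorem lemma_R (h2 : Cfsg.IsCharacteristicTwoType G) {a : G} (ha : a * a = 1) (ha1 : a ≠ 1)
    {U : Subgroup G} (hU4 : IsKleinFour U) (haU : a ∈ U) (P : Sylow 2 G)
    (hUP : U ≤ (P : Subgroup G)) (hPU : (P : Subgroup G) ≤ normalizer (U : Set G))
    (haP : ∀ x ∈ (P : Subgroup G), x * a = a * x) : U ≤ Qa a := by
  classical
  haveI : Fact (Nat.Prime 2) := ⟨Nat.prime_two⟩
  set N := normalizer (zpowers a : Set G) with hNdef
  have hsq : ∀ x ∈ U, x * x = 1 := fun x hx =>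
    congrArg Subtype.val (IsKleinFour.mul_self (G := U) ⟨x, hx⟩)
  have hcomm : ∀ x ∈ U, ∀ y ∈ U, x * y = y * x := fun x hx y hy =>
    congrArg Subtype.val ((IsKleinFour.isMulCommutative (G := U)).is_comm.comm ⟨x, hx⟩ ⟨y, hy⟩)
  have hPN : (P : Subgroup G) ≤ N := fun x hx => (norm_iff ha ha1).2 (haP x hx)
  have hQP : Qa a ≤ (P : Subgroup G) := by
    have h1 : IsPGroup 2 ((Qa a ⊔ (P : Subgroup G) : Subgroup G)) :=
      IsPGroup.to_sup_of_normal_left' (Qa_isP a) P.isPGroup' (hPN.trans (Op_norm 2 N))
    have h3 := P.is_maximal' h1 le_sup_right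
    rw [← h3]
    exact le_sup_left
  -- the subgroup `Y`
  let Y : Subgroup G :=
    { carrier := {x | x * a = a * x ∧ ∀ q ∈ Qa a, x * q * x⁻¹ = q ∨ x * q * x⁻¹ = a * q}
      one_mem' := by
        refine ⟨by simp, fun q _ => Or.inl (by simp)⟩
      mul_mem' := by
        rintro x y ⟨hx, hxq⟩ ⟨hy, hyq⟩
        refine ⟨by rw [mul_assoc, hy, ← mul_assoc, hx, mul_assoc], fun q hq => ?_⟩
        have e : x * y * q * (x * y)⁻¹ = x * (y * q * y⁻¹) * x⁻¹ := by group
        have hxa : x * a * x⁻¹ = a := by rw [hx]; group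
        rcases hyq q hq with h | h
        · rw [e, h]
          exact hxq q hq
        · rw [e, h]
          have e2 : x * (a * q) * x⁻¹ = (x * a * x⁻¹) * (x * q * x⁻¹) := by group
          rw [e2, hxa]
          rcases hxq q hq with h' | h'
          · rw [h']; exact Or.inr rfl
          · rw [h', ← mul_assoc, ha, one_mul]; exact Or.inl rfl
      inv_mem' := by
        rintro x ⟨hx, hxq⟩
        have hxa : x⁻¹ * a = a * x⁻¹ := by
          rw [inv_mul_eq_iff_eq_mul, ← mul_assoc, hx]; group
        refine ⟨hxa, fun q hq => ?_⟩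
        have hq' : x⁻¹ * q * x ∈ Qa a := by
          have := Qa_conj ha ha1 hxa hq
          simpa using this
        rw [inv_inv]
        rcases hxq _ hq' with h | h
        · left
          have e : x * (x⁻¹ * q * x) * x⁻¹ = q := by group
          rw [e] at h
          exact h.symm
        · right
          have e : x * (x⁻¹ * q * x) * x⁻¹ = q := by group
          rw [e] at h
          calc x⁻¹ * q * x = a * (a * (x⁻¹ * q * x)) := by rw [← mul_assoc, ha, one_mul]
            _ = a * q := by rw [← h] }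
  have hYN : Y ≤ N := fun x hx => (norm_iff ha ha1).2 hx.1
  have hYn : N ≤ normalizer (Y : Set G) := by
    intro g hg
    have hga : g * a = a * g := (norm_iff ha ha1).1 hg
    have hgi : g⁻¹ * a = a * g⁻¹ := by
      rw [inv_mul_eq_iff_eq_mul, ← mul_assoc, hga]; group
    apply Cfsg.Agent.Lib.Coprime.MaxCent.mem_normalizer_of_conj_le
    rintro x ⟨hx, hxq⟩
    refine ⟨?_, fun q hq => ?_⟩
    · have e1 : g * x * g⁻¹ * a = g * x * (g⁻¹ * a) := by group
      rw [e1, hgi]
      have e2 : g * x * (a * g⁻¹) = g * (x * a) * g⁻¹ := by group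
      rw [e2, hx]
      have e3 : g * (a * x) * g⁻¹ = (g * a) * x * g⁻¹ := by group
      rw [e3, hga]
      group
    · have hq' : g⁻¹ * q * g ∈ Qa a := by
        have := Qa_conj ha ha1 hgi hq
        simpa using this
      have e : g * x * g⁻¹ * q * (g * x * g⁻¹)⁻¹ = g * (x * (g⁻¹ * q * g) * x⁻¹) * g⁻¹ := by group
      rw [e]
      rcases hxq _ hq' with h | h
      · left
        rw [h]; group
      · right
        rw [h]
        have e2 : g * (a * (g⁻¹ * q * g)) * g⁻¹ = (g * a) * g⁻¹ * q := by group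
        rw [e2, hga]
        group
  have hYp : IsPGroup 2 Y := by
    rintro ⟨y, hy, hyq⟩
    have h3 : y * y ∈ Qa a := by
      apply cent_Qa h2 ha ha1
      · rw [mul_assoc, hy, ← mul_assoc, hy, mul_assoc]
      · intro q hq
        have e : y * y * q = y * (y * q * y⁻¹) * y := by group
        rw [e]
        rcases hyq q hq with h | h
        · rw [h]
          have := hyq q hq
          have e2 : y * q = q * y := by
            rw [mul_inv_eq_iff_eq_mul] at h
            exact h
          rw [e2, mul_assoc]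
        · rw [h]
          have e2 : y * q = a * q * y := by
            rw [mul_inv_eq_iff_eq_mul] at h
            exact h
          have e3 : y * (a * q) * y = (y * a) * q * y := by group
          rw [e3, hy]
          have e4 : a * y * q * y = a * (y * q) * y := by group
          rw [e4, e2]
          have e5 : a * (a * q * y) * y = (a * a) * q * (y * y) := by group
          rw [e5, ha, one_mul]
    obtain ⟨k, hk⟩ := Qa_isP a ⟨y * y, h3⟩
    refine ⟨k + 1, ?_⟩
    apply Subtype.ext
    have h5 : (y * y) ^ 2 ^ k = 1 := congrArg Subtype.val hk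
    simp only [Subgroup.coe_pow, Subgroup.coe_one]
    rw [pow_succ', pow_mul, pow_two]
    exact h5
  have hUY : U ≤ Y := by
    intro b hb
    refine ⟨hcomm b hb a haU, fun q hq => ?_⟩
    have hqa := Qa_comm ha ha1 hq
    have hc : q * b * q⁻¹ ∈ U := (mem_normalizer_iff.1 (hPU (hQP hq)) b).1 hb
    by_cases hb1 : b = 1
    · left; simp [hb1]
    by_cases hba : b = a
    · left
      rw [hba]
      have : a * q = q * a := hqa.symm
      rw [this]
      group
    have hc1 : q * b * q⁻¹ ≠ 1 := by
      intro h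
      apply hb1
      have e : b = q⁻¹ * (q * b * q⁻¹) * q := by group
      rw [e, h]
      group
    have hca : q * b * q⁻¹ ≠ a := by
      intro h
      apply hba
      rw [mul_inv_eq_iff_eq_mul, hqa.symm] at h
      exact mul_left_cancel h
    by_cases hcb : q * b * q⁻¹ = b
    · left
      rw [mul_inv_eq_iff_eq_mul] at hcb
      rw [← hcb]
      group
    · right
      have h5 : (⟨q * b * q⁻¹, hc⟩ : U) = ⟨a, haU⟩ * ⟨b, hb⟩ := by
        refine IsKleinFour.eq_mul_of_ne_all (G := U) ?_ ?_ ?_ ?_ ?_ ?_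
        · exact fun h => ha1 (congrArg Subtype.val h)
        · exact fun h => hb1 (congrArg Subtype.val h)
        · exact fun h => hba (congrArg Subtype.val h).symm
        · exact fun h => hc1 (congrArg Subtype.val h)
        · exact fun h => hca (congrArg Subtype.val h)
        · exact fun h => hcb (congrArg Subtype.val h)
      have h6 : q * b * q⁻¹ = a * b := congrArg Subtype.val h5
      rw [mul_inv_eq_iff_eq_mul] at h6
      -- `q * b = a * b * q`, so `b * q * b⁻¹ = a * q`
      have hb' : b⁻¹ = b := by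
        rw [inv_eq_iff_mul_eq_one]; exact hsq b hb
      have h7 : b * q = a * (q * b) := by
        rw [h6]
        have e : a * (a * b * q) = (a * a) * b * q := by group
        rw [e, ha, one_mul]
      rw [h7]
      group
  exact hUY.trans (le_Qa hYp hYN hYn)

/-- Core step with an odd subgroup. -/
theorem comm_K {a c k : G} (ha : a * a = 1) (ha1 : a ≠ 1) {K : Subgroup G}
    (hK : Odd (Nat.card K)) (hc : c ∈ Qa a) (hcK : c ∈ normalizer (K : Set G)) (hk : k ∈ K)
    (hka : k * a = a * k) : k * c = c * k := by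
  haveI : Fact (Nat.Prime 2) := ⟨Nat.prime_two⟩
  have h1 : k * c * k⁻¹ * c⁻¹ ∈ Qa a :=
    mul_mem (Qa_conj ha ha1 hka hc) (inv_mem hc)
  have h3 : k * c * k⁻¹ * c⁻¹ ∈ K := by
    have e : k * c * k⁻¹ * c⁻¹ = k * (c * k⁻¹ * c⁻¹) := by group
    rw [e]
    exact mul_mem hk ((mem_normalizer_iff.1 hcK _).1 (inv_mem hk))
  have h4 : k * c * k⁻¹ * c⁻¹ = 1 := by
    have hc1 : ((Nat.card (Qa a))).Coprime (Nat.card K) := by
      obtain ⟨n, hn⟩ := IsPGroup.iff_card.1 (Qa_isP a)
      rw [hn]
      exact Nat.Coprime.pow_left _ (Nat.coprime_two_left.2 hK)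
    have h5 : orderOf (k * c * k⁻¹ * c⁻¹) ∣ Nat.card (Qa a) := Subgroup.orderOf_dvd_natCard _ h1
    have h6 : orderOf (k * c * k⁻¹ * c⁻¹) ∣ Nat.card K := Subgroup.orderOf_dvd_natCard _ h3
    exact orderOf_eq_one_iff.1 (Nat.eq_one_of_dvd_coprimes hc1 h5 h6)
  rw [mul_inv_eq_one] at h4
  rw [mul_inv_eq_iff_eq_mul] at h4
  exact h4

/-- The non-central case. -/
theorem main_u (h2 : Cfsg.IsCharacteristicTwoType G) {a u h : G} (ha : a * a = 1) (ha1 : a ≠ 1)
    (hu1 : u ≠ 1) (hau : a ≠ u)
    {U : Subgroup G} (hU4 : IsKleinFour U) (haU : a ∈ U) (huU : u ∈ U) (P : Sylow 2 G)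
    (hUP : U ≤ (P : Subgroup G)) (hPU : (P : Subgroup G) ≤ normalizer (U : Set G))
    (haP : ∀ x ∈ (P : Subgroup G), x * a = a * x) (hP : h ∈ (P : Subgroup G))
    (hhu : h * u * h⁻¹ = a * u)
    (hcyc : ∀ x ∈ (P : Subgroup G), (∀ y ∈ (P : Subgroup G), x * y = y * x) → x * x = 1 →
      x = 1 ∨ x = a)
    {K : Subgroup G} (hK : Odd (Nat.card K)) (hUK : U ≤ normalizer (K : Set G))
    {k : G} (hk : k ∈ K) (hku : k * u = u * k) {v : G} (hv : v ∈ U) : k * v = v * k := by
  classical
  haveI : Fact (Nat.Prime 2) := ⟨Nat.prime_two⟩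
  have hsq : ∀ x ∈ U, x * x = 1 := fun x hx =>
    congrArg Subtype.val (IsKleinFour.mul_self (G := U) ⟨x, hx⟩)
  have hcomm : ∀ x ∈ U, ∀ y ∈ U, x * y = y * x := fun x hx y hy =>
    congrArg Subtype.val ((IsKleinFour.isMulCommutative (G := U)).is_comm.comm ⟨x, hx⟩ ⟨y, hy⟩)
  have huu : u * u = 1 := hsq u huU
  have hUelt : ∀ x ∈ U, x = 1 ∨ x = a ∨ x = u ∨ x = a * u := by
    intro x hx
    by_cases h1 : x = 1
    · exact Or.inl h1
    by_cases h3 : x = a
    · exact Or.inr (Or.inl h3)
    by_cases h4 : x = u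
    · exact Or.inr (Or.inr (Or.inl h4))
    refine Or.inr (Or.inr (Or.inr ?_))
    have h5 : (⟨x, hx⟩ : U) = ⟨a, haU⟩ * ⟨u, huU⟩ := by
      refine IsKleinFour.eq_mul_of_ne_all (G := U) ?_ ?_ ?_ ?_ ?_ ?_
      · exact fun h => ha1 (congrArg Subtype.val h)
      · exact fun h => hu1 (congrArg Subtype.val h)
      · exact fun h => hau (congrArg Subtype.val h)
      · exact fun h => h1 (congrArg Subtype.val h)
      · exact fun h => h3 (congrArg Subtype.val h)
      · exact fun h => h4 (congrArg Subtype.val h)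
    exact congrArg Subtype.val h5
  -- It is enough to deal with `a`
  have hreduce : k * a = a * k → k * v = v * k := by
    intro hka
    rcases hUelt v hv with rfl | rfl | rfl | rfl
    · simp
    · exact hka
    · exact hku
    · rw [← mul_assoc, hka, mul_assoc, hku, mul_assoc]
  have hua : u * a = a * u := hcomm u huU a haU
  -- the subgroup `P₁`
  let P₁ : Subgroup G := (P : Subgroup G) ⊓ centralizer ({u} : Set G)
  have hmemP₁ : ∀ {x}, x ∈ P₁ ↔ x ∈ (P : Subgroup G) ∧ x * u = u * x := by
    intro x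
    constructor
    · rintro ⟨h1, h3⟩
      refine ⟨h1, ?_⟩
      exact (Subgroup.mem_centralizer_iff.1 h3 u rfl).symm
    · rintro ⟨h1, h3⟩
      refine ⟨h1, Subgroup.mem_centralizer_iff.2 ?_⟩
      intro y hy
      rw [Set.mem_singleton_iff.1 hy]
      exact h3.symm
  have hP₁U : ∀ x ∈ P₁, ∀ y ∈ U, x * y = y * x := by
    intro x hx y hy
    obtain ⟨hxP, hxu⟩ := hmemP₁.1 hx
    have hxa := haP x hxP
    rcases hUelt y hy with rfl | rfl | rfl | rfl
    · simp
    · exact hxa
    · exact hxu
    · rw [← mul_assoc, hxa, mul_assoc, hxu, mul_assoc]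
  have hUP₁ : U ≤ P₁ := fun y hy => hmemP₁.2 ⟨hUP hy, hcomm y hy u huU⟩
  have hha : h * a = a * h := haP h hP
  have hh2 : h * h ∈ P₁ := by
    refine hmemP₁.2 ⟨mul_mem hP hP, ?_⟩
    have e1 : h * u = a * u * h := by
      rw [mul_inv_eq_iff_eq_mul] at hhu
      exact hhu
    calc h * h * u = h * (h * u) := by group
      _ = h * (a * u * h) := by rw [e1]
      _ = (h * a) * u * h := by group
      _ = a * (h * u) * h := by rw [hha]; group
      _ = a * (a * u * h) * h := by rw [e1]
      _ = (a * a) * u * (h * h) := by group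
      _ = u * (h * h) := by rw [ha, one_mul]
  have hPcases : ∀ p ∈ (P : Subgroup G), p ∈ P₁ ∨ p * h ∈ P₁ := by
    intro p hp
    have hc : p * u * p⁻¹ ∈ U := (mem_normalizer_iff.1 (hPU hp) u).1 huU
    have hpa := haP p hp
    rcases hUelt _ hc with h1 | h1 | h1 | h1
    · exfalso
      apply hu1
      have e : u = p⁻¹ * (p * u * p⁻¹) * p := by group
      rw [e, h1]
      group
    · exfalso
      apply hau
      rw [mul_inv_eq_iff_eq_mul, ← hpa] at h1
      exact (mul_left_cancel h1).symm
    · left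
      rw [mul_inv_eq_iff_eq_mul] at h1
      exact hmemP₁.2 ⟨hp, h1⟩
    · right
      rw [mul_inv_eq_iff_eq_mul] at h1
      refine hmemP₁.2 ⟨mul_mem hp hP, ?_⟩
      have e1 : h * u = a * u * h := by
        rw [mul_inv_eq_iff_eq_mul] at hhu
        exact hhu
      calc p * h * u = p * (h * u) := by group
        _ = p * (a * u * h) := by rw [e1]
        _ = (p * a) * u * h := by group
        _ = a * (p * u) * h := by rw [hpa]; group
        _ = a * (a * u * p) * h := by rw [h1]
        _ = (a * a) * u * (p * h) := by group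
        _ = u * (p * h) := by rw [ha, one_mul]
  have hcentfix : ∀ x ∈ P₁, (∀ y ∈ P₁, x * y = y * x) → h * x = x * h → x * x = 1 →
      x = 1 ∨ x = a := by
    intro x hx hxc hxh hxx
    refine hcyc x (hmemP₁.1 hx).1 ?_ hxx
    intro p hp
    rcases hPcases p hp with h1 | h1
    · exact hxc p h1
    · have h3 := hxc _ h1
      have : x * p * h = p * x * h := by
        calc x * p * h = x * (p * h) := by group
          _ = p * h * x := h3
          _ = p * (h * x) := by group
          _ = p * (x * h) := by rw [hxh]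
          _ = p * x * h := by group
      exact mul_right_cancel this
  have hhconj : ∀ x ∈ P₁, h * x * h⁻¹ ∈ P₁ := by
    intro x hx
    obtain ⟨hxP, hxu⟩ := hmemP₁.1 hx
    refine hmemP₁.2 ⟨mul_mem (mul_mem hP hxP) (inv_mem hP), ?_⟩
    have h1 : h⁻¹ * u * h ∈ U := by
      have := (mem_normalizer_iff.1 (hPU (inv_mem hP)) u).1 huU
      simpa using this
    have h3 := hP₁U x hx _ h1
    calc h * x * h⁻¹ * u = h * (x * (h⁻¹ * u * h)) * h⁻¹ := by group
      _ = h * ((h⁻¹ * u * h) * x) * h⁻¹ := by rw [h3]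
      _ = u * (h * x * h⁻¹) := by group
  have hhconj' : ∀ x ∈ P₁, h⁻¹ * x * h ∈ P₁ := by
    intro x hx
    obtain ⟨hxP, hxu⟩ := hmemP₁.1 hx
    refine hmemP₁.2 ⟨mul_mem (mul_mem (inv_mem hP) hxP) hP, ?_⟩
    have h1 : h * u * h⁻¹ ∈ U := (mem_normalizer_iff.1 (hPU hP) u).1 huU
    have h3 := hP₁U x hx _ h1
    calc h⁻¹ * x * h * u = h⁻¹ * (x * (h * u * h⁻¹)) * h := by group
      _ = h⁻¹ * ((h * u * h⁻¹) * x) * h := by rw [h3]
      _ = u * (h⁻¹ * x * h) := by group
  have hA : ∀ x ∈ P₁, (∀ y ∈ P₁, x * y = y * x) → x * x = 1 → x ∈ U := by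
    intro x hx hxc hxx
    obtain ⟨y, hy⟩ : ∃ y, y = h * x * h⁻¹ := ⟨_, rfl⟩
    have hyP : y ∈ P₁ := hy ▸ hhconj x hx
    have hyc : ∀ z ∈ P₁, y * z = z * y := by
      intro z hz
      have h1 := hxc _ (hhconj' z hz)
      calc y * z = h * (x * (h⁻¹ * z * h)) * h⁻¹ := by rw [hy]; group
        _ = h * ((h⁻¹ * z * h) * x) * h⁻¹ := by rw [h1]
        _ = z * y := by rw [hy]; group
    have hyy : y * y = 1 := by
      rw [hy]
      calc _ = h * (x * x) * h⁻¹ := by group
        _ = 1 := by rw [hxx]; group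
    have hhy : h * y * h⁻¹ = x := by
      have h1 := hxc _ hh2
      calc h * y * h⁻¹ = (h * h) * x * (h * h)⁻¹ := by rw [hy]; group
        _ = x * (h * h) * (h * h)⁻¹ := by rw [← h1]
        _ = x := by group
    have hxy := hxc y hyP
    have e1 : h * x = y * h := by rw [hy]; group
    have hw1 : x * y ∈ P₁ := mul_mem hx hyP
    have hwc : ∀ z ∈ P₁, (x * y) * z = z * (x * y) := by
      intro z hz
      rw [mul_assoc, hyc z hz, ← mul_assoc, hxc z hz, mul_assoc]
    have hwh : h * (x * y) = (x * y) * h := by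
      have e2 : h * y = x * h := by rw [mul_inv_eq_iff_eq_mul] at hhy; exact hhy
      calc h * (x * y) = (h * x) * y := by group
        _ = y * h * y := by rw [e1]
        _ = y * (h * y) := by group
        _ = y * (x * h) := by rw [e2]
        _ = (y * x) * h := by group
        _ = (x * y) * h := by rw [hxy]
    have hww : (x * y) * (x * y) = 1 := by
      calc (x * y) * (x * y) = x * (y * x) * y := by group
        _ = x * (x * y) * y := by rw [hxy]
        _ = (x * x) * (y * y) := by group
        _ = 1 := by rw [hxx, hyy, one_mul]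
    rcases hcentfix _ hw1 hwc hwh hww with hw | hw
    · have hyx : y = x := by
        calc y = x * (x * y) := by rw [← mul_assoc, hxx, one_mul]
          _ = x := by rw [hw, mul_one]
      have hxh : h * x = x * h := by
        rw [e1, hyx]
      rcases hcentfix x hx hxc hxh hxx with h1 | h1
      · rw [h1]; exact one_mem _
      · rw [h1]; exact haU
    · have hyx : y = x * a := by
        calc y = x * (x * y) := by rw [← mul_assoc, hxx, one_mul]
          _ = x * a := by rw [hw]
      have hw'P : x * u ∈ P₁ := mul_mem hx (hUP₁ huU)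
      have huc : ∀ z ∈ P₁, u * z = z * u := fun z hz => (hP₁U z hz u huU).symm
      have hw'c : ∀ z ∈ P₁, (x * u) * z = z * (x * u) := by
        intro z hz
        rw [mul_assoc, huc z hz, ← mul_assoc, hxc z hz, mul_assoc]
      have hw'h : h * (x * u) = (x * u) * h := by
        have e2 : h * u = a * u * h := by rw [mul_inv_eq_iff_eq_mul] at hhu; exact hhu
        calc h * (x * u) = (h * x) * u := by group
          _ = x * a * h * u := by rw [e1, hyx]
          _ = x * a * (h * u) := by group
          _ = x * a * (a * u * h) := by rw [e2]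
          _ = x * (a * a) * u * h := by group
          _ = x * u * h := by rw [ha, mul_one]
      have hw'w : (x * u) * (x * u) = 1 := by
        have e : u * x = x * u := huc x hx
        calc (x * u) * (x * u) = x * (u * x) * u := by group
          _ = x * (x * u) * u := by rw [e]
          _ = (x * x) * (u * u) := by group
          _ = 1 := by rw [hxx, huu, one_mul]
      have e3 : x = (x * u) * u⁻¹ := by group
      rcases hcentfix _ hw'P hw'c hw'h hw'w with h1 | h1
      · rw [e3, h1]
        exact mul_mem (one_mem _) (inv_mem huU)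
      · rw [e3, h1]
        exact mul_mem haU (inv_mem huU)
  have hNU : ∀ g ∈ normalizer (P₁ : Set G), g ∈ normalizer (U : Set G) := by
    intro g hg
    apply Cfsg.Agent.Lib.Coprime.MaxCent.mem_normalizer_of_conj_le
    intro v hv
    have h1 : g * v * g⁻¹ ∈ P₁ := (mem_normalizer_iff.1 hg v).1 (hUP₁ hv)
    refine hA _ h1 ?_ ?_
    · intro z hz
      have h3 : g⁻¹ * z * g ∈ P₁ := by
        apply (mem_normalizer_iff.1 hg _).2
        have e : g * (g⁻¹ * z * g) * g⁻¹ = z := by group
        rw [e]; exact hz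
      have h4 := hP₁U _ h3 v hv
      calc g * v * g⁻¹ * z = g * (v * (g⁻¹ * z * g)) * g⁻¹ := by group
        _ = g * ((g⁻¹ * z * g) * v) * g⁻¹ := by rw [h4]
        _ = z * (g * v * g⁻¹) := by group
    · calc g * v * g⁻¹ * (g * v * g⁻¹) = g * (v * v) * g⁻¹ := by group
        _ = 1 := by rw [hsq v hv]; group
  have hPM : (P : Subgroup G) ≤ normalizer (P₁ : Set G) := by
    intro p hp
    apply Cfsg.Agent.Lib.Coprime.MaxCent.mem_normalizer_of_conj_le
    intro x hx
    obtain ⟨hxP, hxu⟩ := hmemP₁.1 hx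
    refine hmemP₁.2 ⟨mul_mem (mul_mem hp hxP) (inv_mem hp), ?_⟩
    have h1 : p⁻¹ * u * p ∈ U := by
      have := (mem_normalizer_iff.1 (hPU (inv_mem hp)) u).1 huU
      simpa using this
    have h3 := hP₁U x hx _ h1
    calc p * x * p⁻¹ * u = p * (x * (p⁻¹ * u * p)) * p⁻¹ := by group
      _ = p * ((p⁻¹ * u * p) * x) * p⁻¹ := by rw [h3]
      _ = u * (p * x * p⁻¹) := by group
  by_cases hQ : Qa u ≤ P₁
  · have h1 : a ∈ Qa u := by
      apply cent_Qa h2 huu hu1 hua.symm
      intro q hq
      exact (hP₁U q (hQ hq) a haU).symm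
    apply hreduce
    exact comm_K huu hu1 hK h1 (hUK haU) hk hku
  · have hP₁N : P₁ ≤ normalizer (zpowers u : Set G) := fun x hx =>
      (norm_iff huu hu1).2 (hmemP₁.1 hx).2
    have hRp : IsPGroup 2 ((P₁ ⊔ Qa u : Subgroup G)) :=
      IsPGroup.to_sup_of_normal_right' (P.isPGroup'.to_le inf_le_left) (Qa_isP u)
        (hP₁N.trans (Op_norm 2 _))
    have hlt : P₁ < P₁ ⊔ Qa u := lt_of_le_of_ne le_sup_left (fun h => hQ (h ▸ le_sup_right))
    obtain ⟨g, hgR, hgP₁, hgn⟩ := exists_mem_norm_of_lt_nil hRp.isNilpotent hlt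
    have hRN : P₁ ⊔ Qa u ≤ normalizer (zpowers u : Set G) := sup_le hP₁N (Op_le 2 _)
    have hgu : g * u = u * g := (norm_iff huu hu1).1 (hRN hgR)
    have hgU := hNU g hgn
    by_cases hga : g * a = a * g
    · exfalso
      have hgp : IsPGroup 2 (zpowers g) := hRp.to_le (zpowers_le.2 hgR)
      obtain ⟨t, htM, ht⟩ := Cfsg.Agent.Lib.Tech.exists_conj_le_sylow P
        (normalizer (P₁ : Set G)) hPM (zpowers g) hgp (zpowers_le.2 hgn)
      have h1 := ht g (mem_zpowers g)
      have htU := hNU t htM
      have hgUU : ∀ v ∈ U, g * v = v * g := by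
        intro y hy
        rcases hUelt y hy with rfl | rfl | rfl | rfl
        · simp
        · exact hga
        · exact hgu
        · rw [← mul_assoc, hga, mul_assoc, hgu, mul_assoc]
      have h3 : t⁻¹ * u * t ∈ U := by
        have := (mem_normalizer_iff.1 (inv_mem htU) u).1 huU
        simpa using this
      have h4 := hgUU _ h3
      have h5 : t * g * t⁻¹ ∈ P₁ := by
        refine hmemP₁.2 ⟨h1, ?_⟩
        calc t * g * t⁻¹ * u = t * (g * (t⁻¹ * u * t)) * t⁻¹ := by group
          _ = t * ((t⁻¹ * u * t) * g) * t⁻¹ := by rw [h4]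
          _ = u * (t * g * t⁻¹) := by group
      exact hgP₁ ((mem_normalizer_iff.1 htM g).2 h5)
    · have hc : g * a * g⁻¹ ∈ U := (mem_normalizer_iff.1 hgU a).1 haU
      rcases hUelt _ hc with h1 | h1 | h1 | h1
      · exfalso
        apply ha1
        have e : a = g⁻¹ * (g * a * g⁻¹) * g := by group
        rw [e, h1]
        group
      · exfalso
        apply hga
        rw [mul_inv_eq_iff_eq_mul] at h1
        exact h1
      · exfalso
        apply hau
        rw [mul_inv_eq_iff_eq_mul, ← hgu] at h1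
        exact mul_left_cancel h1
      · have hyU : h * g ∈ normalizer (U : Set G) := mul_mem (hPU hP) hgU
        have hy : (h * g) * a * (h * g)⁻¹ = u := by
          calc (h * g) * a * (h * g)⁻¹ = h * (g * a * g⁻¹) * h⁻¹ := by group
            _ = h * (a * u) * h⁻¹ := by rw [h1]
            _ = (h * a) * u * h⁻¹ := by group
            _ = a * (h * u * h⁻¹) := by rw [hha]; group
            _ = a * (a * u) := by rw [hhu]
            _ = u := by rw [← mul_assoc, ha, one_mul]
        have hQ' : U ≤ Qa u := by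
          refine lemma_R h2 huu hu1 hU4 huU ((h * g) • P) ?_ ?_ ?_
          · intro v hv
            rw [Sylow.coe_subgroup_smul, Subgroup.mem_smul_pointwise_iff_exists]
            refine ⟨(h * g)⁻¹ * v * (h * g), hUP ?_, ?_⟩
            · have := (mem_normalizer_iff.1 (inv_mem hyU) v).1 hv
              simpa using this
            · simp [mul_assoc]
          · intro x hx
            rw [Sylow.coe_subgroup_smul, Subgroup.mem_smul_pointwise_iff_exists] at hx
            obtain ⟨p, hp, rfl⟩ := hx
            exact mul_mem (mul_mem hyU (hPU hp)) (inv_mem hyU)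
          · intro x hx
            rw [Sylow.coe_subgroup_smul, Subgroup.mem_smul_pointwise_iff_exists] at hx
            obtain ⟨p, hp, rfl⟩ := hx
            have h5 := haP p hp
            rw [← hy]
            have e : MulAut.conj (h * g) • p = (h * g) * p * (h * g)⁻¹ := rfl
            rw [e]
            calc (h * g) * p * (h * g)⁻¹ * ((h * g) * a * (h * g)⁻¹)
                = (h * g) * (p * a) * (h * g)⁻¹ := by group
              _ = (h * g) * (a * p) * (h * g)⁻¹ := by rw [h5]
              _ = _ := by group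
        exact comm_K huu hu1 hK (hQ' hv) (hUK hv) hk hku

/-- **The theorem on four-groups.** -/
theorem four_main (h2 : Cfsg.IsCharacteristicTwoType G)
    (P : Sylow 2 G) (U : Subgroup G) (hUP : U ≤ (P : Subgroup G))
    (hUn : (P : Subgroup G) ≤ Subgroup.normalizer (U : Set G))
    (hU4 : IsKleinFour ↥U)
    (hUZ : ¬ IsCyclic ↥((P : Subgroup G) ⊓ Subgroup.centralizer ((P : Subgroup G) : Set G)) →
      U ≤ Subgroup.centralizer ((P : Subgroup G) : Set G))
    (K : Subgroup G) (hK : Odd (Nat.card K)) (hUK : U ≤ Subgroup.normalizer (K : Set G)) :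
    U ≤ Subgroup.centralizer (K : Set G) := by
  classical
  haveI : Fact (Nat.Prime 2) := ⟨Nat.prime_two⟩
  have hsq : ∀ x ∈ U, x * x = 1 := fun x hx =>
    congrArg Subtype.val (IsKleinFour.mul_self (G := U) ⟨x, hx⟩)
  have hcomm : ∀ x ∈ U, ∀ y ∈ U, x * y = y * x := fun x hx y hy =>
    congrArg Subtype.val ((IsKleinFour.isMulCommutative (G := U)).is_comm.comm ⟨x, hx⟩ ⟨y, hy⟩)
  have key : ∀ c ∈ U, c ≠ 1 → ∀ k ∈ K, k * c = c * k → ∀ v ∈ U, k * v = v * k := by
    intro c hc hc1 k hk hkc v hv
    have hcc := hsq c hc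
    by_cases hUC : U ≤ centralizer ((P : Subgroup G) : Set G)
    · have hQ' : U ≤ Qa c := by
        refine lemma_R h2 hcc hc1 hU4 hc P hUP hUn ?_
        intro x hx
        exact Subgroup.mem_centralizer_iff.1 (hUC hc) x hx
      exact comm_K hcc hc1 hK (hQ' hv) (hUK hv) hk hkc
    · have hcy : IsCyclic ↥((P : Subgroup G) ⊓ centralizer ((P : Subgroup G) : Set G)) := by
        by_contra h
        exact hUC (hUZ h)
      obtain ⟨a, haU, ha1, haC⟩ := Cfsg.Agent.Lib.OddLocal.exists_fixed_mod_of_pGroup 2 ⊥ U P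
        (bot_lt_iff_ne_bot.2 (by
          rintro rfl
          have := hU4.card_four
          simp at this))
        (P.isPGroup'.to_le hUP) P.isPGroup'
        (fun x _ => mem_normalizer_iff.2 (fun y => by simp [Subgroup.mem_bot]))
        (fun x _ => mem_normalizer_iff.2 (fun y => by simp [Subgroup.mem_bot])) hUn
      have ha1' : a ≠ 1 := by simpa using ha1
      have haP : ∀ x ∈ (P : Subgroup G), x * a = a * x := by
        intro x hx
        have := haC x hx
        rw [Subgroup.mem_bot, mul_inv_eq_one, mul_inv_eq_iff_eq_mul] at this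
        exact this
      have haa := hsq a haU
      have hcyc : ∀ x ∈ (P : Subgroup G), (∀ y ∈ (P : Subgroup G), x * y = y * x) → x * x = 1 →
          x = 1 ∨ x = a := by
        intro x hx hxc hxx
        by_contra hcon
        push Not at hcon
        obtain ⟨hx1, hxa⟩ := hcon
        let Z := ((P : Subgroup G) ⊓ centralizer ((P : Subgroup G) : Set G))
        have hxZ : x ∈ Z := ⟨hx, Subgroup.mem_centralizer_iff.2 fun y hy => (hxc y hy).symm⟩
        have haZ : a ∈ Z := ⟨hUP haU, Subgroup.mem_centralizer_iff.2 fun y hy => (haP y hy)⟩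
        haveI : Fintype Z := Fintype.ofFinite _
        have h3 := IsCyclic.card_pow_eq_one_le (α := Z) (n := 2) (by norm_num)
        have h4 : ({1, ⟨a, haZ⟩, ⟨x, hxZ⟩} : Finset Z) ⊆ Finset.univ.filter (fun t : Z => t ^ 2 = 1) := by
          intro t ht
          simp only [Finset.mem_insert, Finset.mem_singleton] at ht
          simp only [Finset.mem_filter, Finset.mem_univ, true_and]
          rcases ht with rfl | rfl | rfl
          · simp
          · apply Subtype.ext
            simp [pow_two, haa]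
          · apply Subtype.ext
            simp [pow_two, hxx]
        have h5 := Finset.card_le_card h4
        have h6 : ({1, ⟨a, haZ⟩, ⟨x, hxZ⟩} : Finset Z).card = 3 := by
          apply Finset.card_eq_three.2
          refine ⟨1, ⟨a, haZ⟩, ⟨x, hxZ⟩, ?_, ?_, ?_, rfl⟩
          · intro h; exact ha1' (congrArg Subtype.val h).symm
          · intro h; exact hx1 (congrArg Subtype.val h).symm
          · intro h; exact hxa (congrArg Subtype.val h).symm
        omega
      obtain ⟨b, hbU, hbC⟩ := Set.not_subset.1 hUC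
      have hbC' : ∃ h ∈ (P : Subgroup G), h * b ≠ b * h := by
        by_contra hcon
        push Not at hcon
        exact hbC (Subgroup.mem_centralizer_iff.2 fun y hy => hcon y hy)
      obtain ⟨h, hP, hhb⟩ := hbC'
      have hb1 : b ≠ 1 := by
        rintro rfl
        simp at hhb
      have hab : a ≠ b := by
        rintro rfl
        exact hhb (haP h hP)
      have hhc : h * b * h⁻¹ ∈ U := (mem_normalizer_iff.1 (hUn hP) b).1 hbU
      have hha := haP h hP
      have hhb' : h * b * h⁻¹ = a * b := by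
        have h5 : (⟨h * b * h⁻¹, hhc⟩ : U) = ⟨a, haU⟩ * ⟨b, hbU⟩ := by
          refine IsKleinFour.eq_mul_of_ne_all (G := U) ?_ ?_ ?_ ?_ ?_ ?_
          · exact fun h => ha1' (congrArg Subtype.val h)
          · exact fun h => hb1 (congrArg Subtype.val h)
          · exact fun h => hab (congrArg Subtype.val h)
          · intro h'
            have h6 : h * b * h⁻¹ = 1 := congrArg Subtype.val h'
            apply hb1
            have e : b = h⁻¹ * (h * b * h⁻¹) * h := by group
            rw [e, h6]
            group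
          · intro h'
            have h6 : h * b * h⁻¹ = a := congrArg Subtype.val h'
            apply hab
            rw [mul_inv_eq_iff_eq_mul, ← hha] at h6
            exact (mul_left_cancel h6).symm
          · intro h'
            have h6 : h * b * h⁻¹ = b := congrArg Subtype.val h'
            rw [mul_inv_eq_iff_eq_mul] at h6
            exact hhb h6
        exact congrArg Subtype.val h5
      by_cases hca : c = a
      · subst hca
        have hQ' : U ≤ Qa c := lemma_R h2 hcc hc1 hU4 hc P hUP hUn haP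
        exact comm_K hcc hc1 hK (hQ' hv) (hUK hv) hk hkc
      · have hhcc : h * c * h⁻¹ = a * c := by
          by_cases hcb : c = b
          · rw [hcb]; exact hhb'
          · have h5 : (⟨c, hc⟩ : U) = ⟨a, haU⟩ * ⟨b, hbU⟩ := by
              refine IsKleinFour.eq_mul_of_ne_all (G := U) ?_ ?_ ?_ ?_ ?_ ?_
              · exact fun h => ha1' (congrArg Subtype.val h)
              · exact fun h => hb1 (congrArg Subtype.val h)
              · exact fun h => hab (congrArg Subtype.val h)
              · exact fun h => hc1 (congrArg Subtype.val h)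
              · exact fun h => hca (congrArg Subtype.val h)
              · exact fun h => hcb (congrArg Subtype.val h)
            have h6 : c = a * b := congrArg Subtype.val h5
            rw [h6]
            calc h * (a * b) * h⁻¹ = (h * a) * b * h⁻¹ := by group
              _ = a * (h * b * h⁻¹) := by rw [hha]; group
              _ = a * (a * b) := by rw [hhb']
        exact main_u h2 haa ha1' hc1 (Ne.symm hca) hU4 haU hc P hUP hUn haP hP hhcc hcyc hK hUK hk hkc hv
  haveI hAc : IsMulCommutative U := IsKleinFour.isMulCommutative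
  have hcy := IsKleinFour.not_isCyclic (G := U)
  have hcop : (Nat.card U).Coprime (Nat.card K) := by
    rw [hU4.card_four, show (4 : ℕ) = 2 ^ 2 by norm_num]
    exact Nat.Coprime.pow_left _ (Nat.coprime_two_left.2 hK)
  have hgen := Cfsg.Agent.Lib.Basic.generation_by_centralizers U K hcy hUK hcop
  intro v hv
  refine Subgroup.mem_centralizer_iff.2 fun k hk => ?_
  have hle : K ≤ centralizer ({v} : Set G) := by
    rw [← hgen]
    refine iSup₂_le ?_
    rintro c ⟨hcU, hc1⟩ k ⟨hk, hkc⟩
    refine Subgroup.mem_centralizer_iff.2 ?_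
    intro y hy
    rw [Set.mem_singleton_iff.1 hy]
    have h3 : k * c = c * k := (Subgroup.mem_centralizer_iff.1 hkc c rfl).symm
    exact (key c hcU hc1 k hk h3 v hv).symm
  exact (Subgroup.mem_centralizer_iff.1 (hle hk) v rfl).symm

end Cfsg.Agent.Lib.Tech.NG
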