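import Mathlib
import Cfsg.Prelude.Def_ConjugacyFunctors
import Cfsg.Prelude.Def_Transfer
import Cfsg.Agent.Lib.Basic.CoprimeAction
import Cfsg.Agent.Lib.Basic.Index2
import Cfsg.Agent.Lib.Transfer.Frattini
import Cfsg.Agent.Lib.Transfer.Critical
import Cfsg.Agent.Lib.Transfer.Frobenius
import Cfsg.Agent.Lib.OddLocal.PGroup

/-!
# A `p'`-element acting nontrivially on a `p`-group acts nontrivially on a subgroup of exponent `p` (`4` if `p = 2`);
Ito's `p`-nilpotence criteria.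
-/

set_option autoImplicit false
set_option linter.unusedSectionVars false
set_option linter.style.haveILetI false

namespace Cfsg.Agent.Lib.Tech

open Cfsg Subgroup Cfsg.Agent.Lib.Basic Cfsg.Agent.Lib.Transfer
open scoped commutatorElement

variable {p : ℕ} [Fact p.Prime]

/-- **A minimal invariant subgroup has small exponent.** -/
theorem exists_small_invariant {G : Type*} [Group G] [Finite G] {R : Subgroup G} (hR : IsPGroup p R) {y : G}
    (hy : (orderOf y).Coprime p) (hyN : y ∈ normalizer (R : Set G)) (hne : ¬ ∀ r ∈ R, y * r = r * y) :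
    ∃ D : Subgroup G, D ≤ R ∧ D ≠ ⊥ ∧ y ∈ normalizer (D : Set G) ∧ ⁅D, zpowers y⁆ = D ∧
      ∀ a ∈ D, a ^ p = 1 ∨ (p = 2 ∧ a ^ 4 = 1) := by
  classical
  have hpr : p.Prime := Fact.out
  let 𝒮 : Set (Subgroup G) := {E | E ≤ R ∧ y ∈ normalizer (E : Set G) ∧ ¬ ∀ r ∈ E, y * r = r * y}
  have h𝒮 : 𝒮.Nonempty := ⟨R, le_rfl, hyN, hne⟩
  obtain ⟨D, ⟨hDR, hyD, hDne⟩, hmin⟩ := Set.exists_min_image 𝒮 (fun E => Nat.card E) (Set.toFinite _) h𝒮
  have hDp : IsPGroup p D := hR.to_le hDR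
  have hDb : D ≠ ⊥ := by
    rintro rfl
    apply hDne
    intro r hr
    rw [Subgroup.mem_bot.1 hr]
    simp
  set A : Subgroup G := zpowers y with hA
  have hAN : A ≤ normalizer (D : Set G) := Subgroup.zpowers_le.2 hyD
  have hcop : (Nat.card A).Coprime (Nat.card D) := by
    rw [hA, Nat.card_zpowers]
    obtain ⟨n, hn⟩ := IsPGroup.iff_card.1 hDp
    rw [hn]
    exact hy.pow_right n
  have hcc := coprime_commutator_commutator hAN hcop (Or.inl inferInstance)
  -- proper invariant subgroups are centralized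
  have hprop : ∀ E : Subgroup G, E ≤ D → E ≠ D → y ∈ normalizer (E : Set G) → ∀ r ∈ E, y * r = r * y := by
    intro E hED hne' hyE
    by_contra hcon
    have h1 := hmin E ⟨hED.trans hDR, hyE, hcon⟩
    exact hne' (Subgroup.eq_of_le_of_card_ge hED h1)
  -- `D = [D, y]`
  have hD₁le : ⁅D, A⁆ ≤ D := by
    rw [Subgroup.commutator_le]
    intro d hd z hz
    have h1 : z * d⁻¹ * z⁻¹ ∈ D := (Subgroup.mem_normalizer_iff.1 (hAN hz) d⁻¹).1 (D.inv_mem hd)
    have h2 : ⁅d, z⁆ = d * (z * d⁻¹ * z⁻¹) := by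
      rw [commutatorElement_def]
      group
    rw [h2]
    exact D.mul_mem hd h1
  have hyD₁ : y ∈ normalizer ((⁅D, A⁆ : Subgroup G) : Set G) :=
    le_normalizer_commutator (A := A) hAN (Subgroup.le_normalizer) (mem_zpowers y)
  have hDD₁ : ⁅D, A⁆ = D := by
    by_contra hne'
    have h1 := hprop _ hD₁le hne' hyD₁
    have h2 : ⁅⁅D, A⁆, A⁆ = ⊥ := by
      rw [eq_bot_iff, Subgroup.commutator_le]
      intro r hr a ha
      obtain ⟨n, rfl⟩ := Subgroup.mem_zpowers_iff.1 ha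
      have h3 : Commute y r := h1 r hr
      rw [Subgroup.mem_bot, commutatorElement_eq_one_iff_mul_comm]
      exact (h3.zpow_left n).eq.symm
    rw [hcc] at h2
    apply hDne
    intro r hr
    have h3 : ⁅r, y⁆ ∈ ⁅D, A⁆ := Subgroup.commutator_mem_commutator hr (mem_zpowers y)
    rw [h2, Subgroup.mem_bot, commutatorElement_eq_one_iff_mul_comm] at h3
    exact h3.symm
  -- the Frattini subgroup of `D` is centralized
  set Φ : Subgroup G := (frattini ↥D).map D.subtype with hΦ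
  have hΦD : Φ ≤ D := by
    rintro _ ⟨x, -, rfl⟩
    exact x.2
  haveI hDnt : Nontrivial ↥D := (Subgroup.nontrivial_iff_ne_bot D).2 hDb
  have hDnil : Group.IsNilpotent ↥D := hDp.isNilpotent
  have hΦne : Φ ≠ D := by
    intro h
    have h1 : frattini ↥D = ⊤ := by
      apply Subgroup.map_injective D.subtype_injective
      rw [← hΦ, h, ← MonoidHom.range_eq_map, Subgroup.range_subtype]
    obtain ⟨M, hM, -⟩ := Cfsg.Agent.Lib.Basic.exists_isCoatom_ge (K := (⊥ : Subgroup ↥D)) bot_ne_top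
    have h2 : frattini ↥D ≤ M := Cfsg.Agent.Lib.Basic.le_frattini_iff.1 le_rfl M hM
    rw [h1] at h2
    exact hM.1 (top_le_iff.1 h2)
  have hyΦ : y ∈ normalizer (Φ : Set G) := by
    let φ : ↥D ≃* ↥D := (MulAut.conjNormal (G := ↥(normalizer (D : Set G))) (H := D.subgroupOf (normalizer (D : Set G))) ⟨y, hyD⟩ |> fun _ =>
      { toFun := fun x => ⟨y * x * y⁻¹, (Subgroup.mem_normalizer_iff.1 hyD x).1 x.2⟩
        invFun := fun x => ⟨y⁻¹ * x * y, by
          have h1 := (Subgroup.mem_normalizer_iff.1 hyD (y⁻¹ * x * y)).2 (by simpa [mul_assoc] using x.2)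
          exact h1⟩
        left_inv := by
          intro x
          apply Subtype.ext
          simp [mul_assoc]
        right_inv := by
          intro x
          apply Subtype.ext
          simp [mul_assoc]
        map_mul' := by
          intro a b
          apply Subtype.ext
          simp [mul_assoc] })
    have hφ : ∀ x : ↥D, ((φ x : ↥D) : G) = y * x * y⁻¹ := fun _ => rfl
    rw [Subgroup.mem_normalizer_iff]
    intro g
    constructor
    · rintro ⟨x, hx, rfl⟩
      exact ⟨φ x, map_mem_of_char inferInstance φ hx, rfl⟩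
    · rintro ⟨x, hx, hxg⟩
      refine ⟨φ.symm x, map_mem_of_char inferInstance φ.symm hx, ?_⟩
      have h1 : ((φ (φ.symm x) : ↥D) : G) = y * ((φ.symm x : ↥D) : G) * y⁻¹ := hφ _
      rw [MulEquiv.apply_symm_apply] at h1
      have h2 : y * g * y⁻¹ = y * ((φ.symm x : ↥D) : G) * y⁻¹ := by
        rw [← h1]
        exact hxg.symm
      have h3 := mul_left_cancel (mul_right_cancel h2)
      exact h3.symm
  have hΦc := hprop Φ hΦD hΦne hyΦ
  set K : Subgroup G := D ⊓ centralizer (A : Set G) with hK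
  have hΦK : Φ ≤ K := by
    intro z hz
    refine Subgroup.mem_inf.2 ⟨hΦD hz, ?_⟩
    rw [Subgroup.mem_centralizer_iff]
    rintro _ ⟨n, rfl⟩
    have h3 : Commute y z := hΦc z hz
    exact (h3.zpow_left n).eq
  have hpowK : ∀ x ∈ D, x ^ p ∈ K := by
    intro x hx
    refine hΦK ⟨(⟨x, hx⟩ : ↥D) ^ p, pow_mem_frattini hDp _, ?_⟩
    simp
  have hcomK : ∀ x ∈ D, ∀ x' ∈ D, ⁅x, x'⁆ ∈ K := by
    intro x hx x' hx'
    refine hΦK ⟨⁅(⟨x, hx⟩ : ↥D), (⟨x', hx'⟩ : ↥D)⁆, commutator_mem_frattini hDp _ _, ?_⟩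
    simp [commutatorElement_def]
  -- `K` is central in `D`
  have hDK : ⁅D, K⁆ ≤ K := by
    rw [Subgroup.commutator_le]
    intro d hd k hk
    exact hcomK d hd k (Subgroup.mem_inf.1 hk).1
  have hKA : ⁅K, A⁆ = ⊥ := by
    rw [eq_bot_iff, Subgroup.commutator_le]
    intro k hk a ha
    have h1 := Subgroup.mem_centralizer_iff.1 (Subgroup.mem_inf.1 hk).2 a ha
    rw [Subgroup.mem_bot, commutatorElement_eq_one_iff_mul_comm]
    exact h1.symm
  have hrot : ⁅⁅A, D⁆, K⁆ = ⊥ := by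
    refine Subgroup.commutator_commutator_eq_bot_of_rotate ?_ ?_
    · rw [eq_bot_iff, ← hKA]
      exact Subgroup.commutator_mono hDK le_rfl
    · rw [hKA, Subgroup.commutator_bot_left]
  rw [Subgroup.commutator_comm A D, hDD₁] at hrot
  have hcen : ∀ x ∈ D, ∀ k ∈ K, x * k = k * x := by
    intro x hx k hk
    have h1 : ⁅x, k⁆ ∈ ⁅D, K⁆ := Subgroup.commutator_mem_commutator hx hk
    rw [hrot, Subgroup.mem_bot, commutatorElement_eq_one_iff_mul_comm] at h1
    exact h1
  -- the power map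
  have hpowc : ∀ a ∈ D, ∀ b ∈ D, ∀ k : ℕ, a ^ k * b = ⁅a, b⁆ ^ k * b * a ^ k := by
    intro a ha b hb k
    have hc1 : ⁅a, b⁆ * a = a * ⁅a, b⁆ := (hcen a ha _ (hcomK a ha b hb)).symm
    have hc2 : ⁅a, b⁆ * b = b * ⁅a, b⁆ := (hcen b hb _ (hcomK a ha b hb)).symm
    have h0 : a * b = ⁅a, b⁆ * b * a := by
      rw [commutatorElement_def]
      group
    induction k with
    | zero => simp
    | succ k ih =>
      calc a ^ (k + 1) * b = a ^ k * (a * b) := by rw [pow_succ]; group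
        _ = a ^ k * (⁅a, b⁆ * b * a) := by rw [h0]
        _ = (a ^ k * ⁅a, b⁆) * b * a := by group
        _ = (⁅a, b⁆ * a ^ k) * b * a := by
            rw [((Commute.pow_left (show Commute a ⁅a, b⁆ from hc1.symm) k).eq)]
        _ = ⁅a, b⁆ * (a ^ k * b) * a := by group
        _ = ⁅a, b⁆ * (⁅a, b⁆ ^ k * b * a ^ k) * a := by rw [ih]
        _ = ⁅a, b⁆ ^ (k + 1) * b * a ^ (k + 1) := by
            rw [pow_succ', pow_succ]
            group
  have hcpow : ∀ a ∈ D, ∀ b ∈ D, ⁅a, b⁆ ^ p = 1 := by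
    intro a ha b hb
    have h1 := hpowc a ha b hb p
    have h2 : a ^ p * b = b * a ^ p := (hcen b hb _ (hpowK a ha)).symm
    rw [h2] at h1
    have hc2 : Commute ⁅a, b⁆ b := (hcen b hb _ (hcomK a ha b hb)).symm
    rw [(hc2.pow_left p).eq] at h1
    have h3 : b * a ^ p = b * a ^ p * 1 := (mul_one _).symm
    have h4 : b * (⁅a, b⁆ ^ p * a ^ p) = b * a ^ p := by
      rw [← mul_assoc]
      exact h1.symm
    have h5 := mul_left_cancel h4
    exact (mul_eq_right.1 h5)
  have hfinal : ∀ n : ℕ, (∀ a ∈ D, ∀ b ∈ D, (b * a) ^ n = b ^ n * a ^ n) → (∀ x ∈ D, x ^ n ∈ K) → ∀ a ∈ D, a ^ n = 1 := by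
    intro n hmul hnK
    let E₃ : Subgroup G :=
      { carrier := {x | x ∈ D ∧ x ^ n = 1}
        one_mem' := ⟨D.one_mem, one_pow n⟩
        mul_mem' := by
          rintro a b ⟨ha, ha'⟩ ⟨hb, hb'⟩
          refine ⟨D.mul_mem ha hb, ?_⟩
          rw [hmul b hb a ha, ha', hb', one_mul]
        inv_mem' := by
          rintro a ⟨ha, ha'⟩
          exact ⟨D.inv_mem ha, by rw [inv_pow, ha', inv_one]⟩ }
    have hle : D ≤ E₃ := by
      conv_lhs => rw [← hDD₁]
      rw [Subgroup.commutator_le]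
      intro d hd z hz
      refine ⟨hD₁le (Subgroup.commutator_mem_commutator hd hz), ?_⟩
      have h1 : z * d⁻¹ * z⁻¹ ∈ D := (Subgroup.mem_normalizer_iff.1 (hAN hz) d⁻¹).1 (D.inv_mem hd)
      have h2 : ⁅d, z⁆ = d * (z * d⁻¹ * z⁻¹) := by
        rw [commutatorElement_def]
        group
      have h3 : (z * d⁻¹ * z⁻¹) ^ n = z * (d ^ n)⁻¹ * z⁻¹ := by
        rw [conj_pow, inv_pow]
      have h4 : z * (d ^ n)⁻¹ * z⁻¹ = (d ^ n)⁻¹ := by
        have h5 := Subgroup.mem_centralizer_iff.1 (Subgroup.mem_inf.1 (hnK d hd)).2 z hz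
        have h6 : z * (d ^ n)⁻¹ = (d ^ n)⁻¹ * z := by
          rw [eq_inv_mul_iff_mul_eq, ← mul_assoc, ← h5]
          group
        rw [h6]
        group
      rw [h2, hmul _ h1 d hd, h3, h4, mul_inv_cancel]
    intro a ha
    exact (hle ha).2
  refine ⟨D, hDR, hDb, hyD, hDD₁, ?_⟩
  by_cases hp2 : p = 2
  · -- the fourth power
    subst hp2
    have hmul : ∀ a ∈ D, ∀ b ∈ D, (b * a) ^ 4 = b ^ 4 * a ^ 4 := by
      intro a ha b hb
      have hc1 : ⁅a, b⁆ * a = a * ⁅a, b⁆ := (hcen a ha _ (hcomK a ha b hb)).symm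
      have hc2 : ⁅a, b⁆ * b = b * ⁅a, b⁆ := (hcen b hb _ (hcomK a ha b hb)).symm
      have h0 : a * b = ⁅a, b⁆ * b * a := by
        rw [commutatorElement_def]
        group
      have h1 := Cfsg.Agent.Lib.OddLocal.mul_pow_of_central_commutator a b ⁅a, b⁆ h0 hc1 hc2 4
      have h2 : (4 : ℕ).choose 2 = 2 * 3 := by decide
      rw [h2, pow_mul, hcpow a ha b hb, one_pow, mul_one] at h1
      exact h1
    have h4 := hfinal 4 hmul (fun x hx => by
      have : x ^ 4 = (x ^ 2) ^ 2 := by rw [← pow_mul]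
      rw [this]
      exact K.pow_mem (hpowK x hx) 2)
    intro a ha
    exact Or.inr ⟨rfl, h4 a ha⟩
  · have hodd : Odd p := hpr.odd_of_ne_two hp2
    obtain ⟨m, hm⟩ := hodd
    have hch : p.choose 2 = p * m := by
      rw [Nat.choose_two_right, hm]
      have : (2 * m + 1) * (2 * m + 1 - 1) = 2 * ((2 * m + 1) * m) := by
        simp only [Nat.add_sub_cancel]
        ring
      rw [this]
      exact Nat.mul_div_cancel_left _ (by norm_num)
    have hmul : ∀ a ∈ D, ∀ b ∈ D, (b * a) ^ p = b ^ p * a ^ p := by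
      intro a ha b hb
      have hc1 : ⁅a, b⁆ * a = a * ⁅a, b⁆ := (hcen a ha _ (hcomK a ha b hb)).symm
      have hc2 : ⁅a, b⁆ * b = b * ⁅a, b⁆ := (hcen b hb _ (hcomK a ha b hb)).symm
      have h0 : a * b = ⁅a, b⁆ * b * a := by
        rw [commutatorElement_def]
        group
      have h1 := Cfsg.Agent.Lib.OddLocal.mul_pow_of_central_commutator a b ⁅a, b⁆ h0 hc1 hc2 p
      rw [hch, pow_mul, hcpow a ha b hb, one_pow, mul_one] at h1
      exact h1
    have h4 := hfinal p hmul hpowK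
    intro a ha
    exact Or.inl (h4 a ha)

end Cfsg.Agent.Lib.Tech
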