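import Mathlib
import Cfsg.Agent.Lib.Tech.LocalCore
import Cfsg.Agent.Lib.Tech.ThompsonExt
import Cfsg.Agent.Lib.Tech.Control
import Cfsg.Agent.Lib.Tech.Extremal
import Cfsg.Agent.Lib.LocalEven.Kieler
import Cfsg.Prelude.Def_Local

/-!
# Sylow subgroups of the normalizing part of a tightly embedded subgroup.
-/

set_option autoImplicit false
set_option linter.unusedSectionVars false
set_option linter.style.haveILetI false

namespace Cfsg.Agent.Lib.Tech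

open Cfsg Subgroup Cfsg.Agent.Lib.Coprime
open scoped commutatorElement

local notation:max "cj[" g "]" H:max => Subgroup.map (MulEquiv.toMonoidHom (MulAut.conj g)) H

variable {G : Type*} [Group G] [Finite G]

/-- A `2`-element in a subgroup of odd order is trivial. -/
theorem eq_one_of_two_elt_of_odd {K P : Subgroup G} (hK : Odd (Nat.card K)) (hP : IsPGroup 2 P) {x : G}
    (hxK : x ∈ K) (hxP : x ∈ P) : x = 1 := by
  obtain ⟨k, hk⟩ := hP ⟨x, hxP⟩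
  have h1 : x ^ 2 ^ k = 1 := by simpa using congrArg Subtype.val hk
  have h2 : orderOf x ∣ 2 ^ k := orderOf_dvd_of_pow_eq_one h1
  have h3 : orderOf x ∣ Nat.card K := Subgroup.orderOf_dvd_natCard K hxK
  have h4 : (2 ^ k).Coprime (Nat.card K) := Nat.Coprime.pow_left _ (Nat.coprime_two_left.2 hK)
  exact orderOf_eq_one_iff.1 (Nat.eq_one_of_dvd_coprimes h4 h2 h3)

/-- A nontrivial `2`-element in `K ∩ K^c` forces `c` to normalize `K`. -/
theorem mem_normalizer_of_tight {K P : Subgroup G} (hK : IsTightlyEmbedded K) (hP : IsPGroup 2 P) {x c : G}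
    (hxP : x ∈ P) (hx1 : x ≠ 1) (hxK : x ∈ K) (hxc : x ∈ cj[c] K) : c ∈ normalizer (K : Set G) := by
  by_contra hc
  exact hx1 (eq_one_of_two_elt_of_odd (hK.2 c hc) hP (Subgroup.mem_inf.2 ⟨hxK, hxc⟩) hxP)

/-- Conjugates of tightly embedded subgroups are tightly embedded. -/
theorem tight_conj {K : Subgroup G} (hK : IsTightlyEmbedded K) (g : G) : IsTightlyEmbedded (cj[g] K) := by
  refine ⟨by rw [card_conj_map]; exact hK.1, fun c hc => ?_⟩
  have h1 : g⁻¹ * c * g ∉ normalizer (K : Set G) := by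
    intro h
    apply hc
    rw [← conj_map_eq_iff_mem_normalizer] at h ⊢
    rw [conj_map_conj_map]
    have e : c * g = g * (g⁻¹ * c * g) := by group
    rw [e, ← conj_map_conj_map, h]
  have h2 := hK.2 _ h1
  have e : cj[g] K ⊓ cj[c] (cj[g] K) = cj[g] (K ⊓ cj[g⁻¹ * c * g] K) := by
    rw [conj_map_inf, conj_map_conj_map, conj_map_conj_map]
    congr 2
    group
  show Odd (Nat.card ↥(cj[g] K ⊓ cj[c] (cj[g] K)))
  rw [e, card_conj_map]
  exact h2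

/-- The commuting core. -/
theorem comm_core {X Y W A : Subgroup G} (hXY : Odd (Nat.card ↥(X ⊓ Y))) (hY : IsTightlyEmbedded Y) (hW : IsPGroup 2 W)
    (hAW : A ≤ W) (hAY : A ≤ Y) (hAX : A ≤ normalizer (X : Set G)) {t u : G} (ht : t ∈ A) (ht1 : t ≠ 1) (huW : u ∈ W)
    (huX : u ∈ X) (htu : t * u = u * t) : u ∈ normalizer (Y : Set G) ∧ ∀ a ∈ A, u * a = a * u := by
  have h1 : u ∈ normalizer (Y : Set G) := by
    refine mem_normalizer_of_tight hY hW (hAW ht) ht1 (hAY ht) ?_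
    refine ⟨t, hAY ht, ?_⟩
    show u * t * u⁻¹ = t
    rw [← htu]
    group
  refine ⟨h1, fun a ha => ?_⟩
  have h2 : u * a * u⁻¹ * a⁻¹ ∈ X := by
    have e : u * a * u⁻¹ * a⁻¹ = u * (a * u⁻¹ * a⁻¹) := by group
    rw [e]
    exact X.mul_mem huX ((mem_normalizer_iff.1 (hAX ha) _).1 (X.inv_mem huX))
  have h3 : u * a * u⁻¹ * a⁻¹ ∈ Y :=
    Y.mul_mem ((mem_normalizer_iff.1 h1 a).1 (hAY ha)) (Y.inv_mem (hAY ha))
  have h4 : u * a * u⁻¹ * a⁻¹ ∈ W :=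
    W.mul_mem (W.mul_mem (W.mul_mem huW (hAW ha)) (W.inv_mem huW)) (W.inv_mem (hAW ha))
  have h5 := eq_one_of_two_elt_of_odd hXY hW (Subgroup.mem_inf.2 ⟨h2, h3⟩) h4
  calc u * a = (u * a * u⁻¹ * a⁻¹) * (a * u) := by group
    _ = a * u := by rw [h5, one_mul]

/-- A group acting freely outside the fixed subgroup embeds in the fixed subgroup. -/
theorem exists_inj_hom_of_free {W U A C : Subgroup G} (hW : IsPGroup 2 W) (hUW : U ≤ W) (hAW : A ≤ W)
    (hAU : A ≤ normalizer (U : Set G)) (hCU : C < U) (hAC : ∀ a ∈ A, ∀ c ∈ C, a * c = c * a)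
    (hfree : ∀ a ∈ A, a ≠ 1 → ∀ u ∈ U, a * u = u * a → u ∈ C) :
    ∃ ψ : ↥A →* ↥C, Function.Injective ψ := by
  classical
  haveI : Fact (Nat.Prime 2) := ⟨Nat.prime_two⟩
  have hUp : IsPGroup 2 U := hW.to_le hUW
  obtain ⟨x, hxU, hxC, hxN⟩ := exists_mem_normalizer_of_lt hUp hCU
  set N₀ : Subgroup G := U ⊓ normalizer (C : Set G) with hN₀
  have hCN₀ : C < N₀ := by
    refine lt_of_le_of_ne (le_inf hCU.le Subgroup.le_normalizer) ?_
    intro h
    apply hxC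
    rw [h]
    exact Subgroup.mem_inf.2 ⟨hxU, hxN⟩
  have hACN : A ≤ normalizer (C : Set G) := by
    intro a ha
    apply mem_normalizer_of_conj_le
    intro c hc
    have e : a * c * a⁻¹ = c := by
      rw [hAC a ha c hc]
      group
    rwa [e]
  set W₀ : Subgroup G := N₀ ⊔ A with hW₀
  have hW₀p : IsPGroup 2 W₀ := hW.to_le (sup_le (inf_le_left.trans hUW) hAW)
  have hW₀N : W₀ ≤ normalizer (N₀ : Set G) := by
    refine sup_le Subgroup.le_normalizer ?_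
    intro a ha
    rw [← conj_map_eq_iff_mem_normalizer, hN₀, conj_map_inf, (conj_map_eq_iff_mem_normalizer U a).2 (hAU ha),
      ← normalizer_conj_map, (conj_map_eq_iff_mem_normalizer C a).2 (hACN ha)]
  have hW₀C : W₀ ≤ normalizer (C : Set G) := sup_le inf_le_right hACN
  obtain ⟨u, huN, huC, hu⟩ := exists_central_mod hW₀p (le_sup_left : N₀ ≤ W₀) hCN₀ hW₀N hW₀C
  have huU : u ∈ U := (Subgroup.mem_inf.1 huN).1
  have hc : ∀ a ∈ A, a * u * a⁻¹ * u⁻¹ ∈ C := fun a ha => hu a (Subgroup.mem_sup_right ha)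
  let ψ : ↥A →* ↥C :=
    { toFun := fun a => ⟨(a * u * a⁻¹ * u⁻¹ : G)⁻¹, C.inv_mem (hc a a.2)⟩
      map_one' := Subtype.ext (by simp)
      map_mul' := fun a b => Subtype.ext (by
        have h1 := hAC a a.2 _ (hc b b.2)
        have e : (a * b : G) * u * (a * b : G)⁻¹ * u⁻¹ =
            (b * u * (b : G)⁻¹ * u⁻¹) * (a * u * (a : G)⁻¹ * u⁻¹) := by
          have e2 : (a * b : G) * u * (a * b : G)⁻¹ * u⁻¹ =
              (a * (b * u * (b : G)⁻¹ * u⁻¹)) * (u * (a : G)⁻¹ * u⁻¹) := by group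
          rw [e2, h1]
          group
        show ((a * b : G) * u * (a * b : G)⁻¹ * u⁻¹)⁻¹ = _
        rw [e, mul_inv_rev]
        rfl) }
  refine ⟨ψ, ?_⟩
  rw [injective_iff_map_eq_one]
  rintro a ha
  by_contra ha1
  have h1 : ((a : G) * u * (a : G)⁻¹ * u⁻¹)⁻¹ = 1 := congrArg Subtype.val ha
  have h2 : (a : G) * u * (a : G)⁻¹ * u⁻¹ = 1 := inv_eq_one.1 h1
  have h3 : (a : G) * u = u * a := by
    calc (a : G) * u = ((a : G) * u * (a : G)⁻¹ * u⁻¹) * (u * a) := by group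
      _ = u * a := by rw [h2, one_mul]
  apply huC
  exact hfree a a.2 (fun h => ha1 (Subtype.ext h)) u huU h3

/-- **The structure of `N_S(T)` for a tightly embedded subgroup.** -/
theorem tight_structure (Q : Subgroup G) (hQ : IsTightlyEmbedded Q)
    (g : G) (hg : g ∉ Subgroup.normalizer (Q : Set G))
    (T : Subgroup G) (hT1 : T ≠ ⊥) (hT : T ≤ Q.map (MulAut.conj g).toMonoidHom ⊓ Subgroup.normalizer (Q : Set G))
    (hTsyl : IsPGroup 2 T ∧ ¬ 2 ∣ T.relIndex (Q.map (MulAut.conj g).toMonoidHom ⊓ Subgroup.normalizer (Q : Set G)))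
    (S : Subgroup G) (hTS : T ≤ S) (hS : S ≤ Q ⊔ T) (hSsyl : IsPGroup 2 S ∧ ¬ 2 ∣ S.relIndex (Q ⊔ T)) :
    T ⊓ Q = ⊥ ∧
      T ⊓ (S ⊓ Subgroup.normalizer (T : Set G) ⊓ Q) = ⊥ ∧
      ⁅T, S ⊓ Subgroup.normalizer (T : Set G) ⊓ Q⁆ = ⊥ ∧
      T ⊔ (S ⊓ Subgroup.normalizer (T : Set G) ⊓ Q) = S ⊓ Subgroup.normalizer (T : Set G) ∧
      Nonempty (↥(S ⊓ Subgroup.normalizer (T : Set G) ⊓ Q) ≃* T) := by
  classical
  haveI : Fact (Nat.Prime 2) := ⟨Nat.prime_two⟩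
  obtain ⟨hTp, hTi⟩ := hTsyl
  obtain ⟨hSp, hSi⟩ := hSsyl
  set Q₁ : Subgroup G := cj[g] Q with hQ₁
  have hQ₁t : IsTightlyEmbedded Q₁ := tight_conj hQ g
  have hodd : Odd (Nat.card ↥(Q ⊓ Q₁)) := hQ.2 g hg
  have hodd' : Odd (Nat.card ↥(Q₁ ⊓ Q)) := by rwa [inf_comm]
  have hTQ₁ : T ≤ Q₁ := hT.trans inf_le_left
  have hTN : T ≤ normalizer (Q : Set G) := hT.trans inf_le_right
  have hTQ : T ⊓ Q = ⊥ := by
    rw [eq_bot_iff]
    intro x hx
    obtain ⟨h1, h2⟩ := Subgroup.mem_inf.1 hx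
    exact eq_one_of_two_elt_of_odd hodd hTp (Subgroup.mem_inf.2 ⟨h2, hTQ₁ h1⟩) h1
  set R : Subgroup G := S ⊓ normalizer (T : Set G) ⊓ Q with hR
  have hRS : R ≤ S := inf_le_left.trans inf_le_left
  have hRNT : R ≤ normalizer (T : Set G) := inf_le_left.trans inf_le_right
  have hRQ : R ≤ Q := inf_le_right
  have hTRbot : T ⊓ R = ⊥ := by
    rw [eq_bot_iff, ← hTQ]
    exact inf_le_inf_left _ hRQ
  have hcomm : ∀ t ∈ T, ∀ r ∈ R, t * r = r * t := by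
    intro t ht r hr
    have h1 : t * r * t⁻¹ * r⁻¹ ∈ Q :=
      Q.mul_mem ((mem_normalizer_iff.1 (hTN ht) r).1 (hRQ hr)) (Q.inv_mem (hRQ hr))
    have h2 : t * r * t⁻¹ * r⁻¹ ∈ T := by
      have e : t * r * t⁻¹ * r⁻¹ = t * (r * t⁻¹ * r⁻¹) := by group
      rw [e]
      exact T.mul_mem ht ((mem_normalizer_iff.1 (hRNT hr) _).1 (T.inv_mem ht))
    have h3 : t * r * t⁻¹ * r⁻¹ ∈ T ⊓ Q := Subgroup.mem_inf.2 ⟨h2, h1⟩
    rw [hTQ, Subgroup.mem_bot] at h3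
    calc t * r = (t * r * t⁻¹ * r⁻¹) * (r * t) := by group
      _ = r * t := by rw [h3, one_mul]
  have hTRc : ⁅T, R⁆ = ⊥ := by
    rw [eq_bot_iff, Subgroup.commutator_le]
    intro t ht r hr
    rw [Subgroup.mem_bot, commutatorElement_eq_one_iff_mul_comm]
    exact hcomm t ht r hr
  have hSN : S ≤ normalizer (Q : Set G) := hS.trans (sup_le Subgroup.le_normalizer hTN)
  have hTSup : T ⊔ R = S ⊓ normalizer (T : Set G) := by
    apply le_antisymm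
    · exact sup_le (le_inf hTS Subgroup.le_normalizer) inf_le_left
    · rintro s ⟨hsS, hsN⟩
      obtain ⟨q, hq, t, ht, rfl⟩ := Cfsg.Agent.Lib.Components.exists_mul_of_mem_sup_of_le_normalizer hTN (hS hsS)
      have hqS : q ∈ S := by
        have e : q = q * t * t⁻¹ := by group
        rw [e]
        exact S.mul_mem hsS (S.inv_mem (hTS ht))
      have hqN : q ∈ normalizer (T : Set G) := by
        have e : q = q * t * t⁻¹ := by group
        rw [e]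
        exact Subgroup.mul_mem _ hsN (Subgroup.inv_mem _ (Subgroup.le_normalizer ht))
      have hqR : q ∈ R := Subgroup.mem_inf.2 ⟨Subgroup.mem_inf.2 ⟨hqS, hqN⟩, hq⟩
      have h1 : q * t = t * q := (hcomm t ht q hqR).symm
      rw [h1]
      exact Subgroup.mul_mem _ (Subgroup.mem_sup_left ht) (Subgroup.mem_sup_right hqR)
  refine ⟨hTQ, hTRbot, hTRc, hTSup, ?_⟩
  -- the isomorphism
  obtain ⟨⟨t₀, ht₀⟩, ht₀0⟩ := Subgroup.ne_bot_iff_exists_ne_one.1 hT1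
  have ht₀1 : t₀ ≠ 1 := fun h => ht₀0 (Subtype.ext h)
  have hRN₁ : R ≤ normalizer (Q₁ : Set G) := by
    intro r hr
    exact (comm_core hodd hQ₁t hSp hTS hTQ₁ hTN ht₀ ht₀1 (hRS hr) (hRQ hr) (hcomm t₀ ht₀ r hr)).1
  set Q₀ : Subgroup G := S ⊓ Q with hQ₀
  have hRQ₀ : R ≤ Q₀ := le_inf hRS hRQ
  have hQ₀i : ¬ 2 ∣ Q₀.relIndex Q :=
    Cfsg.Agent.Lib.LocalEven.not_dvd_relIndex_inf_of_normalizes hS le_sup_left hSN hSi
  have hRTp : IsPGroup 2 ↥(R ⊔ T) := hSp.to_le (sup_le hRS hTS)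
  obtain ⟨S₁, hS₁ge, hS₁le, hS₁p, hS₁i⟩ := exists_two_sylow_over (R := R ⊔ T) (C := Q₁ ⊔ R)
    (sup_le le_sup_right (hTQ₁.trans le_sup_left)) hRTp
  have hS₁N : S₁ ≤ normalizer (Q₁ : Set G) := hS₁le.trans (sup_le Subgroup.le_normalizer hRN₁)
  have hRS₁ : R ≤ S₁ := le_sup_left.trans hS₁ge
  have hTS₁ : T ≤ S₁ := le_sup_right.trans hS₁ge
  set Q₁₀ : Subgroup G := S₁ ⊓ Q₁ with hQ₁₀
  have hTQ₁₀ : T ≤ Q₁₀ := le_inf hTS₁ hTQ₁
  have hQ₁₀i : ¬ 2 ∣ Q₁₀.relIndex Q₁ :=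
    Cfsg.Agent.Lib.LocalEven.not_dvd_relIndex_inf_of_normalizes hS₁le le_sup_left hS₁N hS₁i
  -- the two Sylow subgroups are conjugate
  have hgQ₀ : cj[g] Q₀ ≤ Q₁ := Subgroup.map_mono inf_le_right
  have hgQ₀p : IsPGroup 2 ↥(cj[g] Q₀) := (hSp.to_le inf_le_left).map _
  have hgQ₀i : ¬ 2 ∣ (cj[g] Q₀).relIndex Q₁ := by
    rw [hQ₁, relIndex_conj_map]
    exact hQ₀i
  obtain ⟨y, -, hy⟩ := exists_conj_eq_of_relIndex hgQ₀ inf_le_right hgQ₀p (hS₁p.to_le inf_le_left) hgQ₀i hQ₁₀i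
  rw [conj_map_conj_map] at hy
  have hcardQ : Nat.card Q₁₀ = Nat.card Q₀ := by
    have e : Q₁₀ = cj[y * g] Q₀ := hy.symm
    rw [e, card_conj_map]
  -- the free actions
  have hfree1 : ∀ a ∈ T, a ≠ 1 → ∀ u ∈ Q₀, a * u = u * a → u ∈ R := by
    intro a ha ha1 u hu hau
    obtain ⟨huS, huQ⟩ := Subgroup.mem_inf.1 hu
    have h1 := (comm_core hodd hQ₁t hSp hTS hTQ₁ hTN ha ha1 huS huQ hau).2
    refine Subgroup.mem_inf.2 ⟨Subgroup.mem_inf.2 ⟨huS, ?_⟩, huQ⟩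
    apply mem_normalizer_of_conj_le
    intro t ht
    have e : u * t * u⁻¹ = t := by
      rw [h1 t ht]
      group
    rwa [e]
  have hfree2 : ∀ a ∈ R, a ≠ 1 → ∀ u ∈ Q₁₀, a * u = u * a → u ∈ T := by
    intro a ha ha1 u hu hau
    set T₂ : Subgroup G := Q₁₀ ⊓ centralizer (R : Set G) with hT₂
    have hT₂D : T₂ ≤ Q₁ ⊓ normalizer (Q : Set G) := by
      intro v hv
      obtain ⟨hvQ, hvC⟩ := Subgroup.mem_inf.1 hv
      obtain ⟨hvS, hvQ₁⟩ := Subgroup.mem_inf.1 hvQ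
      have h2 : a * v = v * a := Subgroup.mem_centralizer_iff.1 hvC a ha
      exact Subgroup.mem_inf.2 ⟨hvQ₁, (comm_core hodd' hQ hS₁p hRS₁ hRQ hRN₁ ha ha1 hvS hvQ₁ h2).1⟩
    have hTT₂ : T ≤ T₂ := le_inf hTQ₁₀ (fun t ht => by
      rw [Subgroup.mem_centralizer_iff]
      intro r hr
      exact (hcomm t ht r hr).symm)
    have hT₂p : IsPGroup 2 T₂ := hS₁p.to_le (inf_le_left.trans inf_le_left)
    have hTe : T = T₂ := eq_of_le_of_relIndex hT₂p hTT₂ hT₂D hTi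
    rw [hTe]
    obtain ⟨huS, huQ⟩ := Subgroup.mem_inf.1 hu
    refine Subgroup.mem_inf.2 ⟨hu, ?_⟩
    rw [Subgroup.mem_centralizer_iff]
    intro r hr
    exact ((comm_core hodd' hQ hS₁p hRS₁ hRQ hRN₁ ha ha1 huS huQ hau).2 r hr).symm
  have hTNQ₀ : T ≤ normalizer (Q₀ : Set G) := by
    intro t ht
    rw [← conj_map_eq_iff_mem_normalizer, hQ₀, conj_map_inf,
      (conj_map_eq_iff_mem_normalizer S t).2 (Subgroup.le_normalizer (hTS ht)),
      (conj_map_eq_iff_mem_normalizer Q t).2 (hTN ht)]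
  have hRNQ₁₀ : R ≤ normalizer (Q₁₀ : Set G) := by
    intro r hr
    rw [← conj_map_eq_iff_mem_normalizer, hQ₁₀, conj_map_inf,
      (conj_map_eq_iff_mem_normalizer S₁ r).2 (Subgroup.le_normalizer (hRS₁ hr)),
      (conj_map_eq_iff_mem_normalizer Q₁ r).2 (hRN₁ hr)]
  have hinj2 : T < Q₁₀ → ∃ ψ : ↥R →* ↥T, Function.Injective ψ := fun hlt =>
    exists_inj_hom_of_free hS₁p inf_le_left hRS₁ hRNQ₁₀ hlt
      (fun r hr t ht => (hcomm t ht r hr).symm) hfree2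
  by_cases hRe : R = Q₀
  · -- `R = Q₀`
    have hTe : T = Q₁₀ := by
      by_contra hne
      have hlt : T < Q₁₀ := lt_of_le_of_ne hTQ₁₀ hne
      obtain ⟨ψ, hψ⟩ := hinj2 hlt
      have h1 : Nat.card R ≤ Nat.card T := Nat.card_le_card_of_injective ψ hψ
      have h2 : Nat.card T < Nat.card Q₁₀ := Set.ncard_lt_ncard hlt (Set.toFinite _)
      rw [hcardQ, ← hRe] at h2
      omega
    have h1 : cj[y * g] R = T := by
      rw [hRe]
      exact hy.trans hTe.symm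
    refine ⟨(R.equivMapOfInjective _ (MulEquiv.injective _)).trans (MulEquiv.subgroupCongr h1)⟩
  · have hlt : R < Q₀ := lt_of_le_of_ne hRQ₀ hRe
    obtain ⟨ψ₁, hψ₁⟩ := exists_inj_hom_of_free hSp inf_le_left hTS hTNQ₀ hlt (fun t ht r hr => hcomm t ht r hr) hfree1
    have h1 : Nat.card T ≤ Nat.card R := Nat.card_le_card_of_injective ψ₁ hψ₁
    have h2 : Nat.card R < Nat.card Q₀ := Set.ncard_lt_ncard hlt (Set.toFinite _)
    have hTlt : T < Q₁₀ := by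
      refine lt_of_le_of_ne hTQ₁₀ ?_
      intro h
      rw [← h] at hcardQ
      omega
    obtain ⟨ψ₂, hψ₂⟩ := hinj2 hTlt
    have h3 : Nat.card R ≤ Nat.card T := Nat.card_le_card_of_injective ψ₂ hψ₂
    have hbij : Function.Bijective ψ₁ := by
      apply Function.Injective.bijective_of_nat_card_le hψ₁
      exact h3
    exact ⟨(MulEquiv.ofBijective ψ₁ hbij).symm⟩

end Cfsg.Agent.Lib.Tech
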