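import Cfsg.Agent.Lib.KnownSimple.LabSU
import Cfsg.Agent.Lib.A6Rec.D8e
import Cfsg.Agent.S0495

/-!
# `PSU₃(3)` contains a simple group of order `168`

An explicit table of a homomorphism `SL₃(2) → SU₃(3)`, with entries coded over the field with `9` elements.
-/

set_option autoImplicit false
set_option maxRecDepth 100000

namespace Cfsg.Agent.Lib.Tech.U33L2

open Cfsg.Agent.Lib.KnownSimple.Lab Cfsg.Agent.Lib.KnownSimple.LabMat Cfsg.Agent.Lib.KnownSimple.LabField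
open Cfsg.Agent.Lib.KnownSimple.LabVec Cfsg.Agent.Lib.KnownSimple.LabSU Subgroup Matrix
open Cfsg.Agent.Lib.A6Rec (SL32)

/-- The field automorphism. -/
def fr (c : ℕ) : ℕ := mul9 c (mul9 c c)

/-- The root elements used. -/
def RL : List (List ℕ × ℕ) := [([1, 3, 2], 6), ([1, 2, 2], 3), ([1, 1, 2], 3), ([1, 1, 2], 3), ([1, 0, 5], 3), ([0, 1, 5], 3), ([0, 1, 4], 3)]

/-- The letters as products of root elements. -/
def LW (a : ℕ) : List ℕ := ([[0, 1, 2], [3, 4, 5, 6]] : List (List ℕ)).getD a []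

/-- The letters. -/
def Ls : List (List ℕ) := [[0, 0, 1, 0, 2, 0, 1, 0, 0], [2, 2, 8, 7, 5, 0, 1, 1, 8]]

theorem c_RL : ∀ p ∈ RL, uvOK add9 mul9 fr 3 p.1 p.2 = true := by decide +kernel

theorem c_LW : ∀ a < 2, (∀ c ∈ LW a, c < RL.length) ∧
    wordC add9 mul9 3 (rootL add9 mul9 fr 3 RL) (LW a) = Ls.getD a [] := by decide +kernel

/-- The generators of `SL₃(2)`. -/
def Ms : Fin 2 → SL32
  | 0 => ⟨!![0, 0, 1; 0, 1, 0; 1, 0, 0], by decide +kernel⟩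
  | 1 => ⟨!![0, 1, 0; 1, 0, 1; 1, 1, 0], by decide +kernel⟩

/-- Their inverses. -/
def MsI : Fin 2 → SL32
  | 0 => ⟨!![0, 0, 1; 0, 1, 0; 1, 0, 0], by decide +kernel⟩
  | 1 => ⟨!![1, 0, 1; 1, 0, 0; 1, 1, 1], by decide +kernel⟩

theorem c_inv : ∀ k : Fin 2, Ms k * MsI k = 1 := by decide +kernel

/-- The code of an element of `SL₃(2)`. -/
def code (g : SL32) : ℕ :=
  (g.1 0 0).val + 2 * (g.1 0 1).val + 4 * (g.1 0 2).val + 8 * (g.1 1 0).val + 16 * (g.1 1 1).val + 32 * (g.1 1 2).val +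
    64 * (g.1 2 0).val + 128 * (g.1 2 1).val + 256 * (g.1 2 2).val

/-- The table of the homomorphism. -/
def tblN : List ℕ := [0, 0, 0, 0, 0, 0, 0, 0, 0, 0, 0, 0, 0, 0, 0, 0, 0, 0, 0, 0, 0, 0, 0, 0, 0, 0, 0, 0, 0, 0, 0, 0, 0, 0, 0, 0, 0, 0, 0, 0, 0, 0, 0, 0, 0, 0, 0, 0, 0, 0, 0, 0, 0, 0, 0, 0, 0, 0, 0, 0, 0, 0, 0, 0, 0, 0, 0, 0, 0, 0, 0, 0, 0, 0, 0, 0, 0, 0, 0, 0, 0, 0, 0, 0, 544644, 9566829, 182770576, 354721244, 0, 0, 0, 0, 1069524, 4784589, 350463904, 178513196, 0, 0, 350175218, 355482322, 0, 0, 182528528, 178282852, 0, 0, 183059258, 177752122, 0, 0, 350705912, 354951628, 0, 0, 349931716, 177981044, 538164, 4783779, 0, 0, 0, 0, 183302728, 355253432, 1076166, 9567477, 0, 0, 0, 0, 0, 0, 0, 0, 0, 0, 0, 0, 0, 0, 239223644, 305218648, 55066648, 125307236, 0, 0, 0, 0, 0, 0, 0, 0, 0, 0, 0, 0, 334938428, 217977760, 95587384, 63540524, 0, 36382132, 0, 177551210,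 0, 305134040, 0, 63660124, 0, 36625304, 0, 355052818, 239279116, 0, 95456096, 0, 0, 28122562, 0, 355040840, 0, 218062280, 0, 125187724, 0, 27878762, 0, 177539860, 334883092, 0, 55197800, 0, 0, 0, 0, 0, 0, 0, 0, 0, 0, 0, 0, 0, 248785924, 304130288, 106705306, 52422578, 0, 0, 0, 0, 325376122, 219066194, 82142380, 98231480, 0, 0, 0, 0, 0, 0, 0, 0, 0, 27886376, 182853946, 0, 0, 304096636, 82259138, 0, 0, 28114948, 349726754, 0, 248848712, 0, 0, 98126410, 0, 36389098, 182865944, 0, 325313522, 0, 0, 52527460, 0, 36618338, 349738084, 0, 0, 219099610, 106588784, 0, 0, 0, 0, 0, 0, 0, 0, 0, 0, 0, 56995128, 50090058, 0, 0, 95206572, 97854282, 0, 43053283, 0, 50027508, 0, 4842020, 0, 52150212, 0, 43059845, 56939904, 0, 0, 9624988, 54816876, 0, 0, 0, 0, 0, 0, 0, 0, 0, 0, 0, 93077712, 99982818, 0, 0, 54866628, 52218882, 0, 86106565, 0, 100045656, 0, 9684038, 0, 97922664,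 0, 86100005, 93133296, 0, 0, 4901068, 95255964, 0, 0, 0, 0, 0, 0, 0, 0, 0, 0, 0, 105844084, 125532914, 0, 0, 82014370, 63386960, 0, 86094918, 0, 125566288, 1180989, 0, 106460816, 0, 0, 86094180, 105928484, 0, 649557, 0, 0, 125034280, 0, 0, 82545244, 62856410, 0, 0, 106374634, 125002040, 0, 0, 0, 0, 0, 0, 0, 0, 0, 43048188, 82460516, 0, 1121949, 0, 0, 63355048, 0, 43047468, 0, 62822716, 590499, 0, 81928508, 0, 0, 0, 0, 0, 0, 0, 0, 0, 0, 0, 93461548, 63010586, 334935584, 219039868, 0, 0, 0, 37445428, 0, 63127180, 0, 304070474, 0, 178084424, 0, 37687772, 93330404, 0, 239276128, 0, 0, 354522520, 0, 27058636, 0, 125720578, 0, 219125936, 0, 354508256, 0, 26816924, 57323636, 0, 334885936, 0, 0, 178069528, 0, 0, 0, 0, 0, 0, 0, 0, 0, 0, 57192340, 125837264, 239226632, 304156450, 0, 0, 0, 0, 0, 0, 0, 0, 0, 0, 0, 0, 82672480, 100357154, 325379128, 218003924, 0,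 0, 0, 27053128, 0, 100252264, 248851538, 0, 350256404, 0, 0, 26822432, 82791920, 0, 0, 305160364, 182321380, 0, 0, 37681616, 106055768, 0, 0, 218036116, 350271316, 0, 0, 37451584, 0, 50401786, 325310516, 0, 182335628, 0, 0, 0, 106175440, 50296724, 248783098, 305192324, 0, 0, 0, 0, 0, 0, 0, 0, 0, 0]

/-- The table of the homomorphism. -/
def tbl (c : ℕ) : List ℕ := dgC 9 9 (tblN.getD c 0)

/-- The rank of an element, for generation. -/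
def rkN : List ℕ := [0, 0, 0, 0, 0, 0, 0, 0, 0, 0, 0, 0, 0, 0, 0, 0, 0, 0, 0, 0, 0, 0, 0, 0, 0, 0, 0, 0, 0, 0, 0, 0, 0, 0, 0, 0, 0, 0, 0, 0, 0, 0, 0, 0, 0, 0, 0, 0, 0, 0, 0, 0, 0, 0, 0, 0, 0, 0, 0, 0, 0, 0, 0, 0, 0, 0, 0, 0, 0, 0, 0, 0, 0, 0, 0, 0, 0, 0, 0, 0, 0, 0, 0, 0, 1, 11, 5, 10, 0, 0, 0, 0, 5, 10, 8, 6, 0, 0, 13, 9, 0, 0, 9, 8, 0, 0, 11, 12, 0, 0, 12, 14, 0, 0, 11, 11, 5, 12, 0, 0, 0, 0, 7, 12, 9, 13, 0, 0, 0, 0, 0, 0, 0, 0, 0, 0, 0, 0, 0, 0, 15, 9, 11, 13, 0, 0, 0, 0, 0, 0, 0, 0, 0, 0, 0, 0, 9, 13, 7, 10, 0, 14, 0, 10, 0, 8, 0, 13, 0, 12, 0, 2, 11, 0, 3, 0, 0, 10, 0, 6, 0, 12, 0, 11, 0, 8, 0, 6, 7, 0, 7, 0, 0, 0, 0, 0, 0, 0, 0, 0, 0, 0, 0, 0, 11, 8, 12, 12, 0, 0, 0, 0, 5, 14, 9, 11, 0, 0, 0, 0, 0, 0, 0, 0, 0, 10, 11, 0, 0, 4, 12, 0, 0, 13, 1, 0, 12, 0, 0, 7, 0, 12, 7, 0, 8, 0, 0, 8, 0, 11, 5, 0, 0, 10, 13, 0, 0, 0, 0, 0, 0, 0, 0, 0, 0, 0, 14,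 10, 0, 0, 8, 7, 0, 0, 0, 6, 0, 12, 0, 11, 0, 4, 10, 0, 0, 13, 12, 0, 0, 0, 0, 0, 0, 0, 0, 0, 0, 0, 10, 11, 0, 0, 13, 13, 0, 6, 0, 7, 0, 11, 0, 7, 0, 10, 6, 0, 0, 12, 11, 0, 0, 0, 0, 0, 0, 0, 0, 0, 0, 0, 10, 9, 0, 0, 4, 3, 0, 10, 0, 13, 11, 0, 12, 0, 0, 9, 12, 0, 14, 0, 0, 8, 0, 0, 9, 5, 0, 0, 8, 4, 0, 0, 0, 0, 0, 0, 0, 0, 0, 13, 11, 0, 10, 0, 0, 7, 0, 12, 0, 9, 11, 0, 8, 0, 0, 0, 0, 0, 0, 0, 0, 0, 0, 0, 12, 13, 9, 3, 0, 0, 0, 4, 0, 10, 0, 13, 0, 12, 0, 8, 8, 0, 13, 0, 0, 9, 0, 10, 0, 11, 0, 7, 0, 13, 0, 13, 2, 0, 13, 0, 0, 8, 0, 0, 0, 0, 0, 0, 0, 0, 0, 0, 6, 14, 10, 9, 0, 0, 0, 0, 0, 0, 0, 0, 0, 0, 0, 0, 13, 13, 8, 2, 0, 0, 0, 9, 0, 12, 10, 0, 13, 0, 0, 5, 11, 0, 0, 9, 10, 0, 0, 9, 12, 0, 0, 3, 14, 0, 0, 13, 0, 6, 12, 0, 7, 0, 0, 0, 12, 9, 6, 8, 0, 0, 0, 0, 0, 0, 0, 0, 0, 0]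

/-- The rank of an element, for generation. -/
def rkC (c : ℕ) : ℕ := rkN.getD c 0

theorem c_one : tbl (code 1) = idC 3 := by decide +kernel

theorem c_mul : ∀ (k : Fin 2) (g : SL32), tbl (code (Ms k * g)) = mulC add9 mul9 3 (Ls.getD k []) (tbl (code g)) := by
  decide +kernel

theorem c_rk : ∀ g : SL32, g = 1 ∨ ∃ k : Fin 2, rkC (code (MsI k * g)) < rkC (code g) := by
  decide +kernel

theorem main {F : Type*} [Field F] [Fintype F] (hF : Fintype.card F = 9)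
    {K : Type*} [Field K] [Fintype K] (hK : Fintype.card K = 7) :
    ∃ H : Subgroup (Cfsg.PSU 3 F 3), Nonempty (H ≃* Matrix.ProjectiveSpecialLinearGroup (Fin 2) K) := by
  classical
  obtain ⟨R⟩ := exists_rep9 hF
  have hF' : Fintype.card F = 3 ^ 2 := by rw [hF]; norm_num
  have hfr : ∀ c, R.φ (fr c) = R.φ c ^ 3 := by
    intro c
    simp only [fr, R.hmul]; ring
  set γ : ℕ → Cfsg.SU 3 F 3 := suLetter hF' R.φ RL LW with hγdef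
  have hγ : ∀ a < 2, suHom 3 F 3 (γ a) = toM R.φ 3 (Ls.getD a []) := by
    intro a ha
    obtain ⟨h1, h2⟩ := c_LW a ha
    rw [hγdef, suLetter_val R hfr hF' c_RL h1, h2]
  let τ : SL32 → Matrix (Fin 3) (Fin 3) F := fun g => toM R.φ 3 (tbl (code g))
  have hτ1 : τ 1 = 1 := by
    show toM R.φ 3 (tbl (code 1)) = 1
    rw [c_one, toM_idC R.h0 R.h1]
  have hτm : ∀ (k : Fin 2) (g : SL32), τ (Ms k * g) = suHom 3 F 3 (γ k) * τ g := by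
    intro k g
    show toM R.φ 3 (tbl (code (Ms k * g))) = _
    rw [c_mul, toM_mulC R.hadd R.hmul R.h0, hγ k k.2]
  have hP : ∀ (n : ℕ) (h : SL32), rkC (code h) = n →
      (∃ s : Cfsg.SU 3 F 3, suHom 3 F 3 s = τ h) ∧ ∀ g, τ (h * g) = τ h * τ g := by
    intro n
    induction n using Nat.strong_induction_on with
    | _ n ih =>
    intro h hn
    rcases c_rk h with rfl | ⟨k, hk⟩
    · refine ⟨⟨1, by rw [map_one, hτ1]⟩, fun g => ?_⟩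
      rw [one_mul, hτ1, one_mul]
    · obtain ⟨⟨s, hs⟩, hg⟩ := ih _ (hn ▸ hk) (MsI k * h) rfl
      have h1 : h = Ms k * (MsI k * h) := by rw [← mul_assoc, c_inv, one_mul]
      refine ⟨⟨γ k * s, ?_⟩, fun g => ?_⟩
      · rw [map_mul, hs, ← hτm, ← h1]
      · nth_rw 1 [h1]
        nth_rw 2 [h1]
        rw [mul_assoc, hτm, hg, hτm, mul_assoc]
  have hP1 : ∀ h : SL32, ∃ s : Cfsg.SU 3 F 3, suHom 3 F 3 s = τ h := fun h => (hP _ h rfl).1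
  have hP2 : ∀ h g : SL32, τ (h * g) = τ h * τ g := fun h => (hP _ h rfl).2
  choose f hf using hP1
  let φ₀ : SL32 →* Cfsg.SU 3 F 3 := MonoidHom.mk' f (fun a b => suHom_inj (by
    rw [map_mul, hf, hf, hf, hP2]))
  have hφ₀ : ∀ h, suHom 3 F 3 (φ₀ h) = τ h := hf
  let φ : SL32 →* Cfsg.PSU 3 F 3 := (QuotientGroup.mk' (center (Cfsg.SU 3 F 3))).comp φ₀
  have hZ : center (Cfsg.SU 3 F 3) = ⊥ := by
    apply Subgroup.card_eq_one.1
    rw [Cfsg.Agent.Lib.Classical.card_center_su hF' (by norm_num)]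
    norm_num
  haveI := Cfsg.Agent.Lib.A6Rec.sl32_simple
  have hinj : Function.Injective φ := by
    rw [← MonoidHom.ker_eq_bot_iff]
    rcases IsSimpleGroup.eq_bot_or_eq_top_of_normal φ.ker inferInstance with h | h
    · exact h
    · exfalso
      have h1 : Ms 0 ∈ φ.ker := by rw [h]; trivial
      have h2 : φ₀ (Ms 0) ∈ center (Cfsg.SU 3 F 3) := (QuotientGroup.eq_one_iff _).1 h1
      rw [hZ] at h2
      have h3 : φ₀ (Ms 0) = 1 := h2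
      have h4 : τ (Ms 0) = 1 := by rw [← hφ₀, h3, map_one]
      have h5 : τ (Ms 0) = toM R.φ 3 (Ls.getD 0 []) := by
        have h6 := hτm 0 1
        rw [mul_one, hτ1, mul_one] at h6
        rw [h6]
        exact hγ 0 (by norm_num)
      rw [h5] at h4
      have h7 := congrFun (congrFun h4 0) 0
      simp only [toM, Matrix.of_apply, Matrix.one_apply_eq] at h7
      have h8 : R.φ ((Ls.getD 0 []).getD (((0 : Fin 3) : ℕ) * 3 + ((0 : Fin 3) : ℕ)) 0) = R.φ 0 := by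
        congr 1
      rw [h8, R.h0] at h7
      exact zero_ne_one h7
  let e : SL32 ≃* φ.range := MonoidHom.ofInjective hinj
  haveI : IsSimpleGroup φ.range := e.symm.isSimpleGroup
  haveI : Finite φ.range := Finite.of_equiv _ e.toEquiv
  have hc : Nat.card φ.range = 168 := by
    rw [← Nat.card_congr e.toEquiv]
    exact Cfsg.Agent.Lib.A6Rec.card_SL32
  exact ⟨φ.range, Cfsg.Agent.S0495.result hc hK⟩

end Cfsg.Agent.Lib.Tech.U33L2
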